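import Mathlib
import Cfsg.Prelude.Def_Transfer
import Cfsg.Agent.S0016
import Cfsg.Agent.Lib.helper3.ElemAb

/-!
# Normal elementary abelian subgroups of order `p ^ 2` (helper55)

* `exists_normal_elemAb_sq`: for an odd prime `p`, a non-cyclic finite `p`-group has a normal
  elementary abelian subgroup of order `p ^ 2`.
-/

set_option autoImplicit false

namespace Cfsg.Agent.Lib.helper55

/-- For an odd prime `p`, a non-cyclic finite `p`-group has a normal elementary abelian subgroup
of order `p ^ 2` (containing any prescribed central element `z` of order `p`). -/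
theorem exists_normal_elemAb_sq_of_central {G : Type*} [Group G] [Finite G] {p : ℕ} [Fact p.Prime]
    (hp : p ≠ 2) (hG : IsPGroup p G) (hnc : ¬ IsCyclic G) (z : G)
    (hzc : z ∈ Subgroup.center G) (hz1 : z ≠ 1) (hzp : z ^ p = 1) :
    ∃ A : Subgroup G, A.Normal ∧ Cfsg.IsElementaryAbelian p A ∧ Nat.card A = p ^ 2 ∧ z ∈ A := by
  have hcardZ : Nat.card (Subgroup.zpowers z) = p := by
    rw [Nat.card_zpowers, orderOf_eq_prime hzp hz1]
  have hex : ∃ x : G, x ^ p = 1 ∧ x ∉ Subgroup.zpowers z := by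
    by_contra h
    push Not at h
    apply hnc
    have key : ∀ H : Subgroup G, Nat.card H = p → H = Subgroup.zpowers z := by
      intro H hH
      apply Subgroup.eq_of_le_of_card_ge
      · intro x hx
        apply h
        have h1 := pow_card_eq_one' (x := (⟨x, hx⟩ : H))
        rw [hH] at h1
        exact congrArg Subtype.val h1
      · rw [hcardZ, hH]
    rcases Cfsg.Agent.S0016.result p hG (fun H K hH hK => by rw [key H hH, key K hK]) with
      h | ⟨h, -⟩
    · exact h
    · exact absurd h hp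
  obtain ⟨x, hxp, hx⟩ := hex
  have hZcent : ∀ e ∈ Subgroup.zpowers z, ∀ g : G, g * e = e * g := by
    intro e he g
    exact Subgroup.mem_center_iff.mp ((Subgroup.zpowers_le.mpr hzc) he) g
  have hZn : (Subgroup.zpowers z).Normal := by
    refine ⟨fun n hn g => ?_⟩
    rw [hZcent n hn g, mul_inv_cancel_right]
    exact hn
  have hZel : Cfsg.IsElementaryAbelian p (Subgroup.zpowers z) := by
    refine ⟨⟨⟨fun a b => ?_⟩⟩, ?_⟩
    · exact Subtype.ext (hZcent b.1 b.2 a.1)
    · intro a ha
      obtain ⟨k, rfl⟩ := Subgroup.mem_zpowers_iff.mp ha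
      rw [← zpow_natCast, ← zpow_mul, mul_comm, zpow_mul, zpow_natCast, hzp, one_zpow]
  obtain ⟨A, hAn, hAel, hZA, hAcard⟩ := Cfsg.Agent.Lib.helper3.exists_normal_extension hp hG
    (Subgroup.zpowers z) hZel x hx hxp (fun e he => hZcent e he x)
  refine ⟨A, hAn, hAel, ?_, hZA (Subgroup.mem_zpowers z)⟩
  rw [hAcard, hcardZ, sq]

/-- For an odd prime `p`, a non-cyclic finite `p`-group has a normal elementary abelian subgroup
of order `p ^ 2`. -/
theorem exists_normal_elemAb_sq {G : Type*} [Group G] [Finite G] {p : ℕ} [Fact p.Prime]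
    (hp : p ≠ 2) (hG : IsPGroup p G) (hnc : ¬ IsCyclic G) :
    ∃ A : Subgroup G, A.Normal ∧ Cfsg.IsElementaryAbelian p A ∧ Nat.card A = p ^ 2 := by
  have hnt : Nontrivial G := by
    by_contra h
    rw [not_nontrivial_iff_subsingleton] at h
    exact hnc isCyclic_of_subsingleton
  obtain ⟨z, -, hzc, hz1, hzp⟩ :=
    Cfsg.Agent.Lib.helper3.exists_central_of_normal_ne_bot hG (⊤ : Subgroup G) top_ne_bot
  obtain ⟨A, h1, h2, h3, -⟩ := exists_normal_elemAb_sq_of_central hp hG hnc z hzc hz1 hzp
  exact ⟨A, h1, h2, h3⟩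

/-- An elementary abelian subgroup of order `p ^ 2` is not cyclic. -/
theorem not_isCyclic_of_elemAb_sq {G : Type*} [Group G] {p : ℕ} [Fact p.Prime]
    (A : Subgroup G) (hA : Cfsg.IsElementaryAbelian p A) (hcard : Nat.card A = p ^ 2) :
    ¬ IsCyclic ↥A := by
  have hp := (Fact.out : p.Prime)
  intro hc
  obtain ⟨g, hg⟩ := hc.exists_generator
  have h1 : orderOf g = Nat.card A := orderOf_eq_card_of_forall_mem_zpowers hg
  have h2 : g ^ p = 1 := Subtype.ext (hA.2 g.1 g.2)
  have h3 : orderOf g ∣ p := orderOf_dvd_of_pow_eq_one h2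
  rw [h1, hcard] at h3
  have h4 := Nat.le_of_dvd hp.pos h3
  have h5 : p * 2 ≤ p * p := Nat.mul_le_mul_left p hp.two_le
  nlinarith [hp.two_le]

end Cfsg.Agent.Lib.helper55
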