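import Mathlib
import Cfsg.Agent.Lib.lead.Hall
import Cfsg.Agent.Lib.helper26.Basic

/-!
General group-theoretic lemmas used for Bender–Glauberman Corollary 12.10(a)
(a `σ(M)`-subgroup is conjugate into `M_σ`): an index computation for a factorisation by a normal
subgroup, conjugation of a subgroup of a solvable group into a subgroup of coprime index
(via Hall's theorem), and conjugation of a `q`-subgroup into a subgroup of index prime to `q`.
-/

set_option autoImplicit false

namespace Cfsg.Agent.Lib.helper55.BGJ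

/-- If `N ⊔ T = ⊤` with `T` normal, the index of `N` divides the order of `T`. -/
theorem index_dvd_card_of_sup_eq_top {X : Type*} [Group X] [Finite X] (N T : Subgroup X)
    [T.Normal] (h : N ⊔ T = ⊤) : N.index ∣ Nat.card T := by
  have h1 : T.relIndex N = T.index := by
    rw [← Subgroup.relIndex_sup_right N T, h, Subgroup.relIndex_top_right]
  have h2 := Subgroup.card_mul_index T
  have h3 := Subgroup.card_mul_index N
  have h4 : Nat.card N = Nat.card (T ⊓ N : Subgroup X) * T.relIndex N := by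
    have := Subgroup.relIndex_mul_relIndex (⊥ : Subgroup X) (T ⊓ N) N bot_le inf_le_right
    rw [Subgroup.relIndex_bot_left, Subgroup.relIndex_bot_left, Subgroup.inf_relIndex_right] at this
    exact this.symm
  have hpos : 0 < T.index := Nat.pos_of_ne_zero Subgroup.index_ne_zero_of_finite
  refine ⟨Nat.card (T ⊓ N : Subgroup X), ?_⟩
  have h5 : Nat.card T * T.index = (N.index * Nat.card (T ⊓ N : Subgroup X)) * T.index := by
    rw [h2, ← h3, h4, h1]; ring
  exact Nat.eq_of_mul_eq_mul_right hpos h5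

/-- In a finite solvable group, a subgroup `Y` is conjugate into `D` as soon as no prime divisor
of `|Y|` divides the index of `D`. -/
theorem exists_conj_le_of_index {X : Type*} [Group X] [Finite X] [Group.IsSolvable X]
    (D Y : Subgroup X) (h : ∀ r : ℕ, r.Prime → r ∣ Nat.card Y → ¬ r ∣ D.index) :
    ∃ g : X, Y ≤ D.map (MulAut.conj g).toMonoidHom := by
  obtain ⟨H₁, hH₁⟩ :=
    Cfsg.Agent.Lib.lead.exists_isPiHall_of_isSolvable {r : ℕ | r ∣ Nat.card Y} ↥D
  have hH₂ : Cfsg.IsPiHall {r : ℕ | r ∣ Nat.card Y} (H₁.map D.subtype) := by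
    refine ⟨fun p hp hd => ?_, fun p hp hpπ hd => ?_⟩
    · rw [Subgroup.card_map_of_injective D.subtype_injective] at hd
      exact hH₁.1 p hp hd
    · rw [Subgroup.index_map_subtype] at hd
      rcases hp.dvd_mul.mp hd with hd | hd
      · exact hH₁.2 p hp hpπ hd
      · exact h p hp hpπ hd
  obtain ⟨g, hg⟩ := Cfsg.Agent.Lib.lead.le_conj_isPiHall_of_isSolvable hH₂ (K := Y)
    (fun p _ hd => hd)
  exact ⟨g, hg.trans (Subgroup.map_mono (Subgroup.map_subtype_le H₁))⟩

/-- Relative form: `Y ≤ L` with `L` solvable is conjugate under `L` into `D` as soon as no prime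
divisor of `|Y|` divides `|L : D ∩ L|`. -/
theorem exists_conj_le_of_relIndex {G : Type*} [Group G] [Finite G] {L D Y : Subgroup G}
    (hL : Group.IsSolvable ↥L) (hYL : Y ≤ L)
    (h : ∀ r : ℕ, r.Prime → r ∣ Nat.card Y → ¬ r ∣ D.relIndex L) :
    ∃ l : G, Y ≤ D.map (MulAut.conj l).toMonoidHom := by
  have hcard : Nat.card (Y.subgroupOf L) = Nat.card Y :=
    Nat.card_congr (Subgroup.subgroupOfEquivOfLe hYL).toEquiv
  obtain ⟨g, hg⟩ := exists_conj_le_of_index (D.subgroupOf L) (Y.subgroupOf L) (by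
    intro r hr hd
    rw [hcard] at hd
    exact h r hr hd)
  refine ⟨(g : G), ?_⟩
  intro y hy
  have hy' : (⟨y, hYL hy⟩ : L) ∈ Y.subgroupOf L := by
    rw [Subgroup.mem_subgroupOf]; exact hy
  obtain ⟨d, hd, hdy⟩ := hg hy'
  refine ⟨(d : G), ?_, ?_⟩
  · exact Subgroup.mem_subgroupOf.mp hd
  · have := congrArg (Subtype.val) hdy
    simpa using this

/-- A `q`-subgroup is conjugate into any subgroup of index prime to `q`. -/
theorem exists_conj_le_of_not_dvd_index {G : Type*} [Group G] [Finite G] {q : ℕ} [Fact q.Prime]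
    (M : Subgroup G) (hidx : ¬ q ∣ M.index) (X : Subgroup G) (hX : IsPGroup q X) :
    ∃ g : G, X.map (MulAut.conj g).toMonoidHom ≤ M := by
  have hq : q.Prime := Fact.out
  obtain ⟨P₀⟩ : Nonempty (Sylow q ↥M) := inferInstance
  have hP : IsPGroup q ((P₀ : Subgroup ↥M).map M.subtype) := P₀.isPGroup'.map _
  have hPi : ¬ q ∣ ((P₀ : Subgroup ↥M).map M.subtype).index := by
    rw [Subgroup.index_map_subtype]
    intro hd
    rcases hq.dvd_mul.mp hd with hd | hd
    · exact P₀.not_dvd_index hd
    · exact hidx hd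
  obtain ⟨g, hg⟩ := Cfsg.Agent.Lib.helper26.exists_conj_le_sylow (hP.toSylow hPi) X hX
  refine ⟨g, ?_⟩
  rintro _ ⟨x, hx, rfl⟩
  have h1 := hg x hx
  rw [IsPGroup.toSylow_coe] at h1
  exact Subgroup.map_subtype_le _ h1

end Cfsg.Agent.Lib.helper55.BGJ
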