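import Mathlib
import Cfsg.Agent.Lib.helper55.BGSigmaGen
import Cfsg.Agent.Lib.helper8.BGTwelve
import Cfsg.Agent.Lib.helper71.BGTwelveFour
import Cfsg.Agent.Lib.helper29.PLenTen
import Cfsg.Agent.Lib.helper66.PGroupAction
import Cfsg.Agent.Lib.helper13.SigFus
import Cfsg.Agent.Lib.helper40.Cores
import Cfsg.Agent.Lib.helper65.Fitting
import Cfsg.Agent.Lib.helper1.Hall

/-!
# Bender–Glauberman Corollary 12.10(a): a `σ(M)`-subgroup is conjugate into `M_σ`

Hypothesis-passing form: the uniqueness theorem (`BGUniqHyp`), the fusion lemma (`BGFusHyp`),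
`p`-length one (`BGPLenHyp`), and the needed clauses of Proposition 12.4 (`CentHyp`),
Theorem 12.5 (`Tau2Hyp`) and Corollary 12.9(a) (`SylHyp`) are assumptions.

Proof.  Let `X` be a nontrivial normal `q`-subgroup of the solvable group `Y`; after conjugation
`X ≤ M`.  If `N(X) ≤ M` then `Y ≤ M`, hence `Y ≤ M_σ`.  Otherwise take a maximal `L ≥ N(X)` and a
Sylow `q`-subgroup `S` of `M ∩ L` over `X`; by `SylHyp`, `L` is not conjugate to `M`, `N(S) ≤ M`
and `S` is a Sylow subgroup of `L`.  In both cases `q ∈ σ(L)` and `q ∉ σ(L)` no prime divisor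
of `|Y|` divides `|L : M ∩ L|`, and Hall's theorem in the solvable group `L` conjugates `Y` into
`M ∩ L`.
-/

set_option autoImplicit false

namespace Cfsg.Agent.Lib.helper55.BGJ

open Cfsg Subgroup Cfsg.Agent.Lib.helper8 Cfsg.Agent.Lib.helper13

variable {G : Type*} [Group G]

/-- The first clause of Proposition 12.4 (statement S1416). -/
def CentHyp (G : Type*) [Group G] : Prop :=
  ∀ (M : Subgroup G), IsCoatom M → ∀ (p : ℕ) [Fact p.Prime] (A : Subgroup G),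
    A ≤ M → IsElementaryAbelian p A → Nat.card A = p ^ 2 →
    Subgroup.centralizer (A : Set G) ≤ M

/-- Two clauses of Theorem 12.5 (statement S1417). -/
def Tau2Hyp (G : Type*) [Group G] : Prop :=
  ∀ (M : Subgroup G), IsCoatom M → ∀ (p : ℕ) [Fact p.Prime], p ∈ tau2 M → ∀ A : Subgroup G,
    A ≤ M → IsElementaryAbelian p A → Nat.card A = p ^ 2 →
    Group.IsNilpotent (sigmaCore M) ∧
      M ≤ Subgroup.normalizer ((sigmaCore M ⊔ A : Subgroup G) : Set G)

/-- Corollary 12.9(a) (statement S1424). -/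
def SylHyp (G : Type*) [Group G] : Prop :=
  ∀ (M : Subgroup G), IsCoatom M → ∀ (q : ℕ) [Fact q.Prime], q ∈ sigma M →
    ∀ X : Subgroup G, IsPGroup q X → X ≠ ⊥ → X ≤ M →
    ∀ L : Subgroup G, IsCoatom L → L ≠ M → Subgroup.normalizer (X : Set G) ≤ L →
    ∀ S : Sylow q ↥(M ⊓ L), X ≤ (S : Subgroup ↥(M ⊓ L)).map (M ⊓ L).subtype →
    (∀ g : G, L ≠ M.map (MulAut.conj g).toMonoidHom) ∧
      Subgroup.normalizer (((S : Subgroup ↥(M ⊓ L)).map (M ⊓ L).subtype : Subgroup G) : Set G) ≤ M ∧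
      ¬ q ∣ ((S : Subgroup ↥(M ⊓ L)).map (M ⊓ L).subtype).relIndex L

theorem dvd_card_of_isPGroup_ne_bot [Finite G] {r : ℕ} [Fact r.Prime] {Q : Subgroup G}
    (hQ : IsPGroup r Q) (hQ1 : Q ≠ ⊥) : r ∣ Nat.card Q := by
  obtain ⟨n, hn⟩ := IsPGroup.iff_card.mp hQ
  rcases Nat.eq_zero_or_pos n with rfl | hpos
  · exact absurd (Subgroup.card_eq_one.mp (by simpa using hn)) hQ1
  · rw [hn]; exact dvd_pow_self r hpos.ne'

/-- A `σ(M)`-subgroup of `M` lies in `M_σ`. -/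
theorem le_sigmaCore_of_le [Finite G] (hG : IsMinSimpleOddOrder G) (hU : BGUniqHyp G)
    (hF : BGFusHyp G) (M : Subgroup G) (hM : IsCoatom M) (Y : Subgroup G) (hYM : Y ≤ M)
    (hY : ∀ p : ℕ, p.Prime → p ∣ Nat.card Y → p ∈ sigma M) : Y ≤ sigmaCore M := by
  apply bg_le_of_pgroups_le
  intro r hr Q hQY hQ
  by_cases hQ1 : Q = ⊥
  · rw [hQ1]; exact bot_le
  · have hrd : r ∣ Nat.card Q := dvd_card_of_isPGroup_ne_bot hQ hQ1
    exact bg_pgroup_le_sigmaCore hG hU hF M hM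
      (hY r hr.out (hrd.trans (Subgroup.card_dvd_of_le hQY))) Q (hQY.trans hYM) hQ

/-- If `L_σ` is nilpotent and `L` is not conjugate to `M`, then `σ(M)` and `σ(L)` are disjoint. -/
theorem not_mem_sigma_of_nilpotent [Finite G] (hG : IsMinSimpleOddOrder G) (hU : BGUniqHyp G)
    (hF : BGFusHyp G) {M L : Subgroup G} (hM : IsCoatom M) (hL : IsCoatom L)
    (hnil : Group.IsNilpotent ↥(sigmaCore L))
    (hnc : ∀ g : G, L ≠ M.map (MulAut.conj g).toMonoidHom)
    {r : ℕ} (hrM : r ∈ sigma M) (hrL : r ∈ sigma L) : False := by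
  have hr : r.Prime := hrM.1
  have : Fact r.Prime := ⟨hr⟩
  obtain ⟨-, -, R, hR⟩ := id hrL
  obtain ⟨-, -, Q, hQ⟩ := id hrM
  have hR'q : IsPGroup r ((R : Subgroup ↥L).map L.subtype) := R.isPGroup'.map _
  have hQ'q : IsPGroup r ((Q : Subgroup ↥M).map M.subtype) := Q.isPGroup'.map _
  have hR'L : (R : Subgroup ↥L).map L.subtype ≤ L := Subgroup.map_subtype_le _
  have hR'σ : (R : Subgroup ↥L).map L.subtype ≤ sigmaCore L :=
    bg_pgroup_le_sigmaCore hG hU hF L hL hrL _ hR'L hR'q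
  have hσL : sigmaCore L ≤ L := Cfsg.Agent.Lib.helper71.BGA.sigmaCore_le L
  have hidx : ¬ r ∣ ((R : Subgroup ↥L).map L.subtype).relIndex (sigmaCore L) := by
    intro hd
    have h1 := Subgroup.relIndex_mul_relIndex _ _ _ hR'σ hσL
    have h2 : ((R : Subgroup ↥L).map L.subtype).relIndex L = (R : Subgroup ↥L).index :=
      Cfsg.Agent.Lib.helper71.BGA.relIndex_map_subtype _
    apply R.not_dvd_index
    rw [← h2, ← h1]
    exact Dvd.dvd.mul_right hd _
  have hLN : L ≤ normalizer (((R : Subgroup ↥L).map L.subtype : Subgroup G) : Set G) :=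
    Cfsg.Agent.Lib.helper71.BG12.le_normalizer_of_nilpotent hnil
      (Cfsg.Agent.Lib.helper71.BGA.le_normalizer_sigmaCore L) hR'σ hR'q hidx
  have hRi : ¬ r ∣ ((R : Subgroup ↥L).map L.subtype).index :=
    Cfsg.Agent.Lib.helper71.BG12.not_dvd_index_map_of_sigma hrL R
  have hQi : ¬ r ∣ ((Q : Subgroup ↥M).map M.subtype).index :=
    Cfsg.Agent.Lib.helper71.BG12.not_dvd_index_map_of_sigma hrM Q
  obtain ⟨g, hg⟩ := Cfsg.Agent.Lib.helper26.sylow_conj (hQ'q.toSylow hQi) (hR'q.toSylow hRi)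
  simp only [IsPGroup.toSylow_coe] at hg
  have hle : L ≤ M.map (MulAut.conj g).toMonoidHom := by
    intro l hl
    rw [sf_mem_map_conj_iff]
    apply hQ
    rw [mem_normalizer_iff]
    intro x
    have hlN := mem_normalizer_iff.mp (hLN hl)
    have e1 : x ∈ (Q : Subgroup ↥M).map M.subtype ↔
        g * x * g⁻¹ ∈ (R : Subgroup ↥L).map L.subtype := by
      rw [hg (g * x * g⁻¹)]
      have : g⁻¹ * (g * x * g⁻¹) * g = x := by group
      rw [this]
    rw [e1, hlN (g * x * g⁻¹), hg]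
    have : g⁻¹ * (l * (g * x * g⁻¹) * l⁻¹) * g = g⁻¹ * l * g * x * (g⁻¹ * l * g)⁻¹ := by group
    rw [this]
  have hco := Cfsg.Agent.Lib.helper71.BGA.isCoatom_map_conj hM g
  by_cases hne : L = M.map (MulAut.conj g).toMonoidHom
  · exact hnc g hne
  · exact hco.1 (hL.2 _ (lt_of_le_of_ne hle hne))

/-- If `L` is not conjugate to `M`, then `σ(M)` and `α(L)` are disjoint. -/
theorem not_mem_alpha_of_sigma [Finite G] (hU : BGUniqHyp G) {M L : Subgroup G}
    (hM : IsCoatom M) (hL : IsCoatom L)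
    (hnc : ∀ g : G, L ≠ M.map (MulAut.conj g).toMonoidHom)
    {r : ℕ} (hrM : r ∈ sigma M) (hrL : r ∈ alpha L) : False := by
  have hr : r.Prime := hrM.1
  have : Fact r.Prime := ⟨hr⟩
  obtain ⟨-, h2⟩ := hrL
  unfold PRankLE at h2
  push Not at h2
  obtain ⟨B, hBc, hBe, hBcard⟩ := h2
  have hB'L : B.map L.subtype ≤ L := map_subtype_le _
  have hB'e : IsElementaryAbelian r (B.map L.subtype) := bg_elemAb_map B ⟨hBc, hBe⟩
  have hB'card : r ^ 2 < Nat.card (B.map L.subtype) := by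
    rw [Subgroup.card_map_of_injective L.subtype_injective]; exact hBcard
  have huniq := Cfsg.Agent.Lib.helper71.BG12.inUniqueMaximal_of_elemAb hU hr hL hB'L hB'e hB'card
  have hB'q : IsPGroup r (B.map L.subtype) := by
    rintro ⟨b, hb⟩
    refine ⟨1, ?_⟩
    rw [pow_one]
    exact Subtype.ext (hB'e.2 b hb)
  obtain ⟨g, hg⟩ := exists_conj_le_of_not_dvd_index M (bg_sigma_not_dvd_index M hrM) _ hB'q
  have hle : B.map L.subtype ≤ M.map (MulAut.conj g⁻¹).toMonoidHom := by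
    intro b hb
    rw [sf_mem_map_conj_iff]
    have h1 : g * b * g⁻¹ ∈ M := hg ⟨b, hb, rfl⟩
    simpa using h1
  obtain ⟨K, -, hKu⟩ := huniq
  have h1 := hKu L ⟨hL, hB'L⟩
  have h2 := hKu _ ⟨Cfsg.Agent.Lib.helper71.BGA.isCoatom_map_conj hM g⁻¹, hle⟩
  exact hnc g⁻¹ (h1.trans h2.symm)

/-- The case `q ∈ σ(L)`: no prime outside `β(L)` divides `|L : M ∩ L|`. -/
theorem caseA_index [Finite G] (hG : IsMinSimpleOddOrder G) (hU : BGUniqHyp G)
    (hF : BGFusHyp G) (hPL : BGPLenHyp G) {M L : Subgroup G} (hL : IsCoatom L)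
    {q : ℕ} [Fact q.Prime] (hqL : q ∈ sigma L) (S' : Subgroup G) (hS'q : IsPGroup q S')
    (hS'ML : S' ≤ M ⊓ L) (hNS : normalizer (S' : Set G) ≤ M) (hidx : ¬ q ∣ S'.relIndex L)
    {r : ℕ} (hr : r.Prime) (hrβ : r ∉ beta L) : ¬ r ∣ (M ⊓ L).relIndex L := by
  have : Fact r.Prime := ⟨hr⟩
  by_cases hrq : r = q
  · subst hrq
    exact fun hd => hidx (hd.trans (Subgroup.relIndex_dvd_of_le_left L hS'ML))
  by_cases hrL : r ∣ Nat.card L
  swap
  · exact fun hd => hrL (hd.trans (Subgroup.relIndex_dvd_card _ _))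
  obtain ⟨-, -, hc⟩ := bg_beta_key hG hU hPL L hL r hrL hrβ
  have hS''q : IsPGroup q (S'.subgroupOf L) :=
    hS'q.comap_of_injective L.subtype L.subtype_injective
  have hSc : S'.subgroupOf L ≤ commutator ↥L := bg_sylow_le_commutator hG hF L hL hqL _ hS''q
  have hST : S'.subgroupOf L ≤ pPrimeCore r ↥L :=
    bg_pgroup_le_pPrimeCore (Ne.symm hrq) hc _ hS''q hSc
  have hidx' : ¬ q ∣ (S'.subgroupOf L).index := hidx
  have hfr := Sylow.normalizer_sup_eq_top' (hS''q.toSylow hidx') (N := pPrimeCore r ↥L)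
    (by rw [IsPGroup.toSylow_coe]; exact hST)
  have hfr' : normalizer ((S'.subgroupOf L : Subgroup ↥L) : Set ↥L) ⊔ pPrimeCore r ↥L = ⊤ := hfr
  have hdvd := index_dvd_card_of_sup_eq_top _ _ hfr'
  have hle : normalizer ((S'.subgroupOf L : Subgroup ↥L) : Set ↥L) ≤ (M ⊓ L).subgroupOf L := by
    intro x hx
    rw [mem_subgroupOf]
    refine ⟨hNS ?_, x.2⟩
    rw [mem_normalizer_iff] at hx ⊢
    intro s
    constructor
    · intro hs
      have hsL : s ∈ L := (hS'ML hs).2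
      have h1 := (hx ⟨s, hsL⟩).mp (by rw [mem_subgroupOf]; exact hs)
      rw [mem_subgroupOf] at h1
      simpa using h1
    · intro hs
      have hsL : s ∈ L := by
        have h1 : (x : G) * s * (x : G)⁻¹ ∈ L := (hS'ML hs).2
        have h2 := L.mul_mem (L.mul_mem (L.inv_mem x.2) h1) x.2
        have h3 : (x : G)⁻¹ * ((x : G) * s * (x : G)⁻¹) * (x : G) = s := by group
        rw [h3] at h2; exact h2
      have h1 := (hx ⟨s, hsL⟩).mpr (by rw [mem_subgroupOf]; simpa using hs)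
      rw [mem_subgroupOf] at h1
      exact h1
  intro hd
  have h1 : ((M ⊓ L).subgroupOf L).index ∣ Nat.card (pPrimeCore r ↥L) :=
    (Subgroup.index_dvd_of_le hle).trans hdvd
  have h2 := Cfsg.Agent.Lib.helper40.pPrimeCore_card_coprime r ↥L
  exact hr.one_lt.ne' (h2.symm.eq_one_of_dvd (hd.trans h1))

/-- The case `q ∉ σ(L)`: no prime of `σ(M)` divides `|L : M ∩ L|`. -/
theorem caseB_index [Finite G] (hG : IsMinSimpleOddOrder G) (hU : BGUniqHyp G)
    (hF : BGFusHyp G) (h16 : CentHyp G) (h17 : Tau2Hyp G) {M L : Subgroup G}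
    (hM : IsCoatom M) (hL : IsCoatom L) {q : ℕ} [Fact q.Prime] (hqM : q ∈ sigma M)
    (hqL : q ∉ sigma L) (X : Subgroup G) (hXq : IsPGroup q X) (hX1 : X ≠ ⊥)
    (hNX : normalizer (X : Set G) ≤ L)
    (S' : Subgroup G) (hXS : X ≤ S') (hS'q : IsPGroup q S') (hS'ML : S' ≤ M ⊓ L)
    (hidx : ¬ q ∣ S'.relIndex L)
    (hnc : ∀ g : G, L ≠ M.map (MulAut.conj g).toMonoidHom)
    {r : ℕ} (hr : r.Prime) (hrM : r ∈ sigma M) : ¬ r ∣ (M ⊓ L).relIndex L := by
  have hq : q.Prime := Fact.out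
  have hLsolv : Group.IsSolvable ↥L := hG.2.2.2 L hL.1
  have hS''q : IsPGroup q (S'.subgroupOf L) :=
    hS'q.comap_of_injective L.subtype L.subtype_injective
  have hidx' : ¬ q ∣ (S'.subgroupOf L).index := hidx
  have hPcoe : ((hS''q.toSylow hidx' : Sylow q ↥L) : Subgroup ↥L) = S'.subgroupOf L :=
    IsPGroup.toSylow_coe _ _
  have hS'L : S' ≤ L := hS'ML.trans inf_le_right
  have hPmap : ((hS''q.toSylow hidx' : Sylow q ↥L) : Subgroup ↥L).map L.subtype = S' := by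
    rw [hPcoe]; exact Subgroup.map_subgroupOf_eq_of_le hS'L
  have hXL : X ≤ L := hXS.trans hS'L
  -- the Sylow `q`-subgroups of `L` are not cyclic
  have h1 : ¬ PRankLE q 1 ↥L := by
    intro hr1
    have hcyc : IsCyclic ↥((hS''q.toSylow hidx' : Sylow q ↥L) : Subgroup ↥L) :=
      bg_sylow_cyclic_of_prank_one hG.1 (le_refl L) q hr1 _
    have hcyc' : IsCyclic ↥S' := by
      have e := (((hS''q.toSylow hidx' : Sylow q ↥L) : Subgroup ↥L).equivMapOfInjective
        L.subtype L.subtype_injective)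
      rw [hPmap] at e
      exact isCyclic_of_surjective e e.surjective
    apply hqL
    refine ⟨hq, (dvd_card_of_isPGroup_ne_bot hXq hX1).trans (Subgroup.card_dvd_of_le hXL),
      hS''q.toSylow hidx', ?_⟩
    rw [hPmap]
    refine le_trans ?_ hNX
    intro g hg
    have hgS : ∀ s ∈ S', g * s * g⁻¹ ∈ S' := fun s hs => (mem_normalizer_iff.mp hg s).mp hs
    have hXg : X.map (MulAut.conj g).toMonoidHom = X :=
      Cfsg.Agent.Lib.helper66.eq_of_card_eq_of_isCyclic (E := S')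
        (by rintro _ ⟨x, hx, rfl⟩; exact hgS x (hXS hx)) hXS (sf_card_map_conj X g)
    rw [mem_normalizer_iff]
    intro x
    constructor
    · intro hx
      rw [← hXg]; exact ⟨x, hx, rfl⟩
    · intro hx
      rw [← hXg, sf_mem_map_conj_iff] at hx
      have h3 : g⁻¹ * (g * x * g⁻¹) * g = x := by group
      rw [h3] at hx; exact hx
  have h2 : PRankLE q 2 ↥L := by
    by_contra h
    exact hqL (bg_alpha_sub_sigma hG hU L hL (p := q) ⟨hq, h⟩)
  have hτ : q ∈ tau2 L := ⟨hq, hqL, h2, h1⟩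
  -- an elementary abelian subgroup `A` of order `q ^ 2` of `S'`
  obtain ⟨A₀, hA₀L, hA₀e, hA₀c⟩ := bg_exists_elemAb_sq L q h2 h1
  have hA₀q : IsPGroup q A₀ := IsPGroup.of_card hA₀c
  obtain ⟨l, hl⟩ := Cfsg.Agent.Lib.helper26.exists_conj_le_sylow (hS''q.toSylow hidx')
    (A₀.subgroupOf L) (hA₀q.comap_of_injective L.subtype L.subtype_injective)
  have hAS : A₀.map (MulAut.conj (l : G)).toMonoidHom ≤ S' := by
    rintro _ ⟨a, ha, rfl⟩
    have h3 := hl ⟨a, hA₀L ha⟩ (by rw [mem_subgroupOf]; exact ha)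
    rw [hPcoe, mem_subgroupOf] at h3
    simpa using h3
  have hAe : IsElementaryAbelian q (A₀.map (MulAut.conj (l : G)).toMonoidHom) := by
    rw [bg_elemAb_iff] at hA₀e ⊢
    constructor
    · rintro _ ⟨a, ha, rfl⟩ _ ⟨b, hb, rfl⟩
      have h3 := hA₀e.1 a ha b hb
      change (l : G) * a * (l : G)⁻¹ * ((l : G) * b * (l : G)⁻¹) =
        (l : G) * b * (l : G)⁻¹ * ((l : G) * a * (l : G)⁻¹)
      calc (l : G) * a * (l : G)⁻¹ * ((l : G) * b * (l : G)⁻¹)
          = (l : G) * (a * b) * (l : G)⁻¹ := by group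
        _ = (l : G) * (b * a) * (l : G)⁻¹ := by rw [h3]
        _ = (l : G) * b * (l : G)⁻¹ * ((l : G) * a * (l : G)⁻¹) := by group
    · rintro _ ⟨a, ha, rfl⟩
      change ((l : G) * a * (l : G)⁻¹) ^ q = 1
      rw [conj_pow, hA₀e.2 a ha]; group
  have hAc : Nat.card (A₀.map (MulAut.conj (l : G)).toMonoidHom) = q ^ 2 := by
    rw [sf_card_map_conj]; exact hA₀c
  generalize A₀.map (MulAut.conj (l : G)).toMonoidHom = A at hAS hAe hAc
  have hAM : A ≤ M := hAS.trans (hS'ML.trans inf_le_left)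
  have hAL : A ≤ L := hAS.trans hS'L
  have hAq : IsPGroup q A := IsPGroup.of_card hAc
  have hA1 : A ≠ ⊥ := by
    intro h
    rw [h, Subgroup.card_bot] at hAc
    exact (Nat.one_lt_pow two_ne_zero hq.one_lt).ne hAc
  obtain ⟨hnil, hnorm⟩ := h17 L hL q hτ A hAL hAe hAc
  -- `N(A) ≤ M`
  have hNA : normalizer (A : Set G) ≤ M := by
    intro g hg
    have hmap : A.map (MulAut.conj g).toMonoidHom ≤ M := by
      rintro _ ⟨a, ha, rfl⟩
      exact hAM ((mem_normalizer_iff.mp hg a).mp ha)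
    obtain ⟨m, hm, c, hc, rfl⟩ := hF M hM q hqM A hAq hA1 hAM g hmap
    exact M.mul_mem hm (h16 M hM q A hAM hAe hAc hc)
  -- a complement `E` of `L_σ` in `L` containing `A`
  have hNHall : (Nat.card (piCore (sigma L) ↥L)).Coprime (piCore (sigma L) ↥L).index := by
    apply Nat.coprime_of_dvd
    intro k hk hkd
    exact Cfsg.Agent.Lib.helper25.BGS.sigma_core_not_dvd_index hG hU hF L hL
      (Cfsg.Agent.Lib.helper65.piCore_isPiGrp (G := ↥L) (sigma L) k hk hkd)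
  have hQcop : (Nat.card (piCore (sigma L) ↥L)).Coprime (Nat.card (A.subgroupOf L)) := by
    rw [Nat.card_congr (Subgroup.subgroupOfEquivOfLe hAL).toEquiv, hAc]
    apply Nat.Coprime.pow_right
    apply Nat.Coprime.symm
    rw [Nat.Prime.coprime_iff_not_dvd hq]
    intro hd
    exact hqL (Cfsg.Agent.Lib.helper65.piCore_isPiGrp (G := ↥L) (sigma L) q hq hd)
  obtain ⟨E, hEc, hQE⟩ := Cfsg.Agent.Lib.helper29.exists_complement_ge (piCore (sigma L) ↥L)
    hNHall (A.subgroupOf L) hQcop (Or.inl inferInstance)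
  have hEN : E.map L.subtype ≤ normalizer (A : Set G) := by
    apply Cfsg.Agent.Lib.helper71.BG12.le_normalizer_of_forall_conj_mem
    rintro _ ⟨e, he, rfl⟩ a ha
    have h3 : (e : G) * a * (e : G)⁻¹ ∈ sigmaCore L ⊔ A :=
      (mem_normalizer_iff.mp (hnorm e.2) a).mp (mem_sup_right ha)
    have haQ : (⟨a, hAL ha⟩ : ↥L) ∈ A.subgroupOf L := by rw [mem_subgroupOf]; exact ha
    have hxE : e * ⟨a, hAL ha⟩ * e⁻¹ ∈ E := E.mul_mem (E.mul_mem he (hQE haQ)) (E.inv_mem he)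
    have hsup : sigmaCore L ⊔ A = (piCore (sigma L) ↥L ⊔ A.subgroupOf L).map L.subtype := by
      rw [Subgroup.map_sup, Subgroup.map_subgroupOf_eq_of_le hAL]; rfl
    rw [hsup] at h3
    obtain ⟨x, hx, hxe⟩ := h3
    have hxeq : x = e * ⟨a, hAL ha⟩ * e⁻¹ := Subtype.ext (by simpa using hxe)
    rw [hxeq] at hx
    obtain ⟨n, hn, k, hk, hnk⟩ := Subgroup.mem_sup_of_normal_left.mp hx
    have hnE : n ∈ E := by
      have h4 : n = e * ⟨a, hAL ha⟩ * e⁻¹ * k⁻¹ := by rw [← hnk]; group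
      rw [h4]; exact E.mul_mem hxE (E.inv_mem (hQE hk))
    have hn1 : n = 1 := by
      have h5 : n ∈ piCore (sigma L) ↥L ⊓ E := ⟨hn, hnE⟩
      rw [hEc.disjoint.eq_bot] at h5
      exact Subgroup.mem_bot.mp h5
    rw [hn1, one_mul] at hnk
    have h6 : ((e * ⟨a, hAL ha⟩ * e⁻¹ : ↥L) : G) ∈ A := by
      rw [← hnk]; exact Subgroup.mem_subgroupOf.mp hk
    simpa using h6
  have hEM : E ≤ (M ⊓ L).subgroupOf L := by
    intro e he
    rw [mem_subgroupOf]
    exact ⟨hNA (hEN ⟨e, he, rfl⟩), e.2⟩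
  intro hd
  have hrL : r ∉ sigma L := fun h => not_mem_sigma_of_nilpotent hG hU hF hM hL hnil hnc hrM h
  have h3 : ((M ⊓ L).subgroupOf L).index ∣ Nat.card (piCore (sigma L) ↥L) := by
    have h4 : E.index ∣ Nat.card (piCore (sigma L) ↥L) :=
      index_dvd_card_of_sup_eq_top E _ (by rw [sup_comm]; exact hEc.sup_eq_top)
    exact (Subgroup.index_dvd_of_le hEM).trans h4
  exact hrL (Cfsg.Agent.Lib.helper65.piCore_isPiGrp (G := ↥L) (sigma L) r hr (hd.trans h3))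

/-- A `σ(M)`-subgroup normalizing a nontrivial `q`-subgroup of `M` lies in a conjugate of `M`. -/
theorem exists_conj_le_of_normalizes [Finite G] (hG : IsMinSimpleOddOrder G) (hU : BGUniqHyp G)
    (hF : BGFusHyp G) (hPL : BGPLenHyp G) (h16 : CentHyp G) (h17 : Tau2Hyp G) (h24 : SylHyp G)
    (M : Subgroup G) (hM : IsCoatom M) (q : ℕ) [Fact q.Prime] (hqM : q ∈ sigma M)
    (X : Subgroup G) (hXq : IsPGroup q X) (hX1 : X ≠ ⊥) (hXM : X ≤ M)
    (Y : Subgroup G) (hYN : Y ≤ normalizer (X : Set G))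
    (hY : ∀ p : ℕ, p.Prime → p ∣ Nat.card Y → p ∈ sigma M) :
    ∃ l : G, Y ≤ M.map (MulAut.conj l).toMonoidHom := by
  by_cases hNM : normalizer (X : Set G) ≤ M
  · refine ⟨1, ?_⟩
    intro y hy
    rw [sf_mem_map_conj_iff]
    simpa using hNM (hYN hy)
  have hXtop : X ≠ ⊤ := fun h => hM.1 (top_le_iff.mp (h ▸ hXM))
  have hNtop : normalizer (X : Set G) ≠ ⊤ :=
    Cfsg.Agent.Lib.helper71.BG12.normalizer_ne_top' hG hX1 hXtop
  obtain ⟨L, hLco, hNL⟩ :=
    (eq_top_or_exists_le_coatom (normalizer (X : Set G))).resolve_left hNtop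
  have hLM : L ≠ M := fun h => hNM (h ▸ hNL)
  have hXL : X ≤ L := le_normalizer.trans hNL
  have hXML : X ≤ M ⊓ L := le_inf hXM hXL
  obtain ⟨S, hS⟩ :=
    (hXq.comap_of_injective (M ⊓ L).subtype (subtype_injective _)).exists_le_sylow
  have hXS : X ≤ (S : Subgroup ↥(M ⊓ L)).map (M ⊓ L).subtype := by
    intro x hx
    exact ⟨⟨x, hXML hx⟩, hS (by rw [mem_comap]; exact hx), rfl⟩
  obtain ⟨hnc, hNS, hidx⟩ := h24 M hM q hqM X hXq hX1 hXM L hLco hLM hNL S hXS
  have hS'ML : (S : Subgroup ↥(M ⊓ L)).map (M ⊓ L).subtype ≤ M ⊓ L := map_subtype_le _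
  have hS'q : IsPGroup q ((S : Subgroup ↥(M ⊓ L)).map (M ⊓ L).subtype) := S.isPGroup'.map _
  have hLsolv : Group.IsSolvable ↥L := hG.2.2.2 L hLco.1
  have hYL : Y ≤ L := hYN.trans hNL
  suffices hkey : ∀ r : ℕ, r.Prime → r ∣ Nat.card Y → ¬ r ∣ (M ⊓ L).relIndex L by
    obtain ⟨l, hYl⟩ := exists_conj_le_of_relIndex hLsolv hYL hkey
    exact ⟨l, hYl.trans (map_mono inf_le_left)⟩
  intro r hr hrY
  have hrM : r ∈ sigma M := hY r hr hrY
  by_cases hqL : q ∈ sigma L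
  · have hrβ : r ∉ beta L := fun hβ => not_mem_alpha_of_sigma hU hM hLco hnc hrM hβ.1
    exact caseA_index hG hU hF hPL hLco hqL _ hS'q hS'ML hNS hidx hr hrβ
  · exact caseB_index hG hU hF h16 h17 hM hLco hqM hqL X hXq hX1 hNL _ hXS hS'q hS'ML hidx hnc
      hr hrM

/-- **Bender–Glauberman, Corollary 12.10(a)**: every nontrivial `σ(M)`-subgroup of `G` is
conjugate to a subgroup of `M_σ`. -/
theorem sigma_conj [Finite G] (hG : IsMinSimpleOddOrder G) (hU : BGUniqHyp G)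
    (hF : BGFusHyp G) (hPL : BGPLenHyp G) (h16 : CentHyp G) (h17 : Tau2Hyp G) (h24 : SylHyp G)
    (M : Subgroup G) (hM : IsCoatom M) (Y : Subgroup G) (hY1 : Y ≠ ⊥)
    (hY : ∀ p : ℕ, p.Prime → p ∣ Nat.card Y → p ∈ sigma M) :
    ∃ g : G, Y.map (MulAut.conj g).toMonoidHom ≤ sigmaCore M := by
  have hYtop : Y ≠ ⊤ := by
    intro h
    have hidx1 : M.index ≠ 1 := fun h1 => hM.1 (Subgroup.index_eq_one.mp h1)
    obtain ⟨r, hr, hrd⟩ := Nat.exists_prime_and_dvd hidx1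
    have hrY : r ∣ Nat.card Y := by
      rw [h, Subgroup.card_top]; exact hrd.trans (Subgroup.index_dvd_card M)
    exact bg_sigma_not_dvd_index M (hY r hr hrY) hrd
  have hYs : Group.IsSolvable ↥Y := hG.2.2.2 Y hYtop
  have : Nontrivial ↥Y := (Subgroup.nontrivial_iff_ne_bot Y).mpr hY1
  obtain ⟨q, X₀, hq, hX₀n, hX₀1, hX₀q⟩ := Cfsg.Agent.Lib.helper1.exists_normal_pgroup (G := ↥Y)
  have : Fact q.Prime := ⟨hq⟩
  have hXY : X₀.map Y.subtype ≤ Y := map_subtype_le _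
  have hXq : IsPGroup q (X₀.map Y.subtype) := hX₀q.map _
  have hX1 : X₀.map Y.subtype ≠ ⊥ := by
    intro h
    exact hX₀1 ((Subgroup.map_eq_bot_iff_of_injective _ Y.subtype_injective).mp h)
  have hYN : Y ≤ normalizer ((X₀.map Y.subtype : Subgroup G) : Set G) :=
    Cfsg.Agent.Lib.helper71.BGA.map_subtype_le_normalizer X₀
  have hqM : q ∈ sigma M :=
    hY q hq ((dvd_card_of_isPGroup_ne_bot hXq hX1).trans (Subgroup.card_dvd_of_le hXY))
  obtain ⟨g₀, hg₀⟩ := exists_conj_le_of_not_dvd_index M (bg_sigma_not_dvd_index M hqM) _ hXq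
  have hY₁N : Y.map (MulAut.conj g₀).toMonoidHom ≤
      normalizer (((X₀.map Y.subtype).map (MulAut.conj g₀).toMonoidHom : Subgroup G) : Set G) :=
    (Subgroup.map_mono hYN).trans (Subgroup.le_normalizer_map _)
  have hY₁ : ∀ p : ℕ, p.Prime → p ∣ Nat.card (Y.map (MulAut.conj g₀).toMonoidHom) →
      p ∈ sigma M := by
    intro p hp hd
    rw [sf_card_map_conj] at hd
    exact hY p hp hd
  have hX₁1 : (X₀.map Y.subtype).map (MulAut.conj g₀).toMonoidHom ≠ ⊥ := by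
    intro h
    exact hX1 ((Subgroup.map_eq_bot_iff_of_injective _ (MulAut.conj g₀).injective).mp h)
  obtain ⟨l, hl⟩ := exists_conj_le_of_normalizes hG hU hF hPL h16 h17 h24 M hM q hqM _
    (hXq.map _) hX₁1 hg₀ _ hY₁N hY₁
  refine ⟨l⁻¹ * g₀, ?_⟩
  rw [← sf_map_conj_mul]
  apply le_sigmaCore_of_le hG hU hF M hM
  · rintro _ ⟨y, hy, rfl⟩
    have h1 := hl hy
    rw [sf_mem_map_conj_iff] at h1
    have h2 : (MulAut.conj l⁻¹).toMonoidHom y = l⁻¹ * y * l := by
      change l⁻¹ * y * l⁻¹⁻¹ = l⁻¹ * y * l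
      rw [inv_inv]
    rw [h2]; exact h1
  · intro p hp hd
    rw [sf_card_map_conj] at hd
    exact hY₁ p hp hd

end Cfsg.Agent.Lib.helper55.BGJ
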