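import Mathlib
import Cfsg.Agent.Lib.helper55.BGSigmaJ
import Cfsg.Agent.Lib.helper25.BGSigmaConj
import Cfsg.Agent.Lib.helper3.BGCross
import Cfsg.Agent.Lib.helper69.BGTwelveA
import Cfsg.Agent.Lib.helper60.BGCentU
import Cfsg.Agent.Lib.helper26.PRank
import Cfsg.Agent.S1410
import Cfsg.Agent.S1416
import Cfsg.Agent.S1417
import Cfsg.Agent.S1424

/-!
# A piece of B-G Lemma 13.4 (statement S1428)

`tau1_sigma_mem_beta`: let `M`, `H` be maximal subgroups of a minimal simple group of odd order,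
`p ∈ τ₁(M) ∩ σ(H)`, `P ≤ M ∩ H` of order `p`, and `x ≠ 1` an element of `M_σ ∩ H' ∩ C(P)`.
Then `p ∈ β(H)`.

Auxiliary results: a commutator factorisation lemma, the two cases of Corollary 12.9 in factorised
form (`caseA_struct`, `caseB_struct`), and `tau2_sigma_false`.
-/

set_option autoImplicit false

namespace Cfsg.Agent.Lib.helper55.BGJ

open Cfsg Subgroup Cfsg.Agent.Lib.helper8 Cfsg.Agent.Lib.helper13
open scoped commutatorElement

variable {G : Type*} [Group G]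

theorem commutator_self_le (D : Subgroup G) : ⁅D, D⁆ ≤ D := by
  rw [Subgroup.commutator_le]
  intro a ha b hb
  rw [commutatorElement_def]
  exact D.mul_mem (D.mul_mem (D.mul_mem ha hb) (D.inv_mem ha)) (D.inv_mem hb)

/-- If `X = N · D` elementwise with `N` normalized by `X` and `D ≤ X`, then `X' ≤ N · D'`. -/
theorem commutator_le_sup_of_factor {X N D : Subgroup G}
    (hNX : X ≤ normalizer (N : Set G)) (hDX : D ≤ X)
    (hfac : ∀ x ∈ X, ∃ b ∈ N, ∃ d ∈ D, x = b * d) :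
    ⁅X, X⁆ ≤ N ⊔ ⁅D, D⁆ := by
  have hconj : ∀ g ∈ X, ∀ n ∈ N, g * n * g⁻¹ ∈ N := fun g hg n hn =>
    (mem_normalizer_iff.mp (hNX hg) n).mp hn
  rw [Subgroup.commutator_le]
  intro x hx y hy
  obtain ⟨b, hb, d, hd, rfl⟩ := hfac x hx
  obtain ⟨c, hc, e, he, rfl⟩ := hfac y hy
  have hdX := hDX hd
  have heX := hDX he
  have h1 : d * c * d⁻¹ ∈ N := hconj d hdX c hc
  have h2 : (d * e * d⁻¹) * b⁻¹ * (d * e * d⁻¹)⁻¹ ∈ N :=
    hconj _ (X.mul_mem (X.mul_mem hdX heX) (X.inv_mem hdX)) _ (N.inv_mem hb)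
  have h3 : (d * e * d⁻¹ * e⁻¹) * c⁻¹ * (d * e * d⁻¹ * e⁻¹)⁻¹ ∈ N :=
    hconj _ (X.mul_mem (X.mul_mem (X.mul_mem hdX heX) (X.inv_mem hdX)) (X.inv_mem heX)) _
      (N.inv_mem hc)
  have h4 : ⁅b * d, c * e⁆ = (b * (d * c * d⁻¹) * ((d * e * d⁻¹) * b⁻¹ * (d * e * d⁻¹)⁻¹) *
      ((d * e * d⁻¹ * e⁻¹) * c⁻¹ * (d * e * d⁻¹ * e⁻¹)⁻¹)) * ⁅d, e⁆ := by
    simp only [commutatorElement_def]; group
  rw [h4]
  exact Subgroup.mul_mem_sup (N.mul_mem (N.mul_mem (N.mul_mem hb h1) h2) h3)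
    (Subgroup.commutator_mem_commutator hd he)

/-- `|K N|` divides `|N| |K|` when `K` normalizes `N`. -/
theorem card_sup_dvd_mul [Finite G] {K N : Subgroup G} (hKN : K ≤ normalizer (N : Set G)) :
    Nat.card ↥(K ⊔ N) ∣ Nat.card N * Nat.card K := by
  have i1 := Subgroup.normal_subgroupOf_of_le_normalizer hKN
  have i2 := Subgroup.normal_subgroupOf_sup_of_le_normalizer hKN
  have e := QuotientGroup.quotientInfEquivProdNormalizerQuotient K N hKN
  have h1 : Nat.card ↥(K ⊔ N) =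
      Nat.card (N.subgroupOf (K ⊔ N)) * (N.subgroupOf (K ⊔ N)).index :=
    (Subgroup.card_mul_index _).symm
  have h2 : (N.subgroupOf (K ⊔ N)).index = (N.subgroupOf K).index := by
    rw [Subgroup.index, Subgroup.index]; exact Nat.card_congr e.symm.toEquiv
  have h3 : Nat.card (N.subgroupOf (K ⊔ N)) = Nat.card N :=
    Nat.card_congr (Subgroup.subgroupOfEquivOfLe le_sup_right).toEquiv
  rw [h1, h2, h3]
  exact Nat.mul_dvd_mul_left _ (Subgroup.index_dvd_card _)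

/-- If `X = N · D` with `N` normalized by `X`, and `p` divides neither `|N|` nor `|D'|`, then `p`
does not divide `|X'|`. -/
theorem not_dvd_card_commutator_of_factor [Finite G] {X N D : Subgroup G} {p : ℕ}
    (hp : p.Prime) (hNX : X ≤ normalizer (N : Set G)) (hDX : D ≤ X)
    (hfac : ∀ x ∈ X, ∃ b ∈ N, ∃ d ∈ D, x = b * d)
    (hpN : ¬ p ∣ Nat.card N) (hpD : ¬ p ∣ Nat.card ↥⁅D, D⁆) : ¬ p ∣ Nat.card ↥⁅X, X⁆ := by
  intro hd
  have h1 := commutator_le_sup_of_factor hNX hDX hfac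
  have h2 : ⁅D, D⁆ ≤ normalizer (N : Set G) :=
    ((commutator_self_le D).trans hDX).trans hNX
  have h3 : Nat.card ↥(N ⊔ ⁅D, D⁆) ∣ Nat.card N * Nat.card ↥⁅D, D⁆ := by
    rw [sup_comm]; exact card_sup_dvd_mul h2
  rcases (Nat.Prime.dvd_mul hp).mp ((hd.trans (Subgroup.card_dvd_of_le h1)).trans h3) with h | h
  · exact hpN h
  · exact hpD h

/-- The case `q ∈ σ(L)` of Corollary 12.9 in factorised form: `L = O_{r'}(L) (M ∩ L)` for every
prime `r ≠ q` of `|L|` outside `β(L)`. -/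
theorem caseA_struct [Finite G] (hG : IsMinSimpleOddOrder G) (hU : BGUniqHyp G)
    (hF : BGFusHyp G) (hPL : BGPLenHyp G) {M L : Subgroup G} (hL : IsCoatom L)
    {q : ℕ} [Fact q.Prime] (hqL : q ∈ sigma L) (S' : Subgroup G) (hS'q : IsPGroup q S')
    (hS'ML : S' ≤ M ⊓ L) (hNS : normalizer (S' : Set G) ≤ M) (hidx : ¬ q ∣ S'.relIndex L)
    {r : ℕ} [Fact r.Prime] (hrq : r ≠ q) (hrL : r ∣ Nat.card L) (hrβ : r ∉ beta L) :
    ∀ l ∈ L, ∃ b ∈ (pPrimeCore r ↥L).map L.subtype, ∃ d ∈ M ⊓ L, l = b * d := by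
  obtain ⟨-, -, hc⟩ := bg_beta_key hG hU hPL L hL r hrL hrβ
  have hS''q : IsPGroup q (S'.subgroupOf L) :=
    hS'q.comap_of_injective L.subtype L.subtype_injective
  have hSc : S'.subgroupOf L ≤ commutator ↥L := bg_sylow_le_commutator hG hF L hL hqL _ hS''q
  have hST : S'.subgroupOf L ≤ pPrimeCore r ↥L :=
    bg_pgroup_le_pPrimeCore (Ne.symm hrq) hc _ hS''q hSc
  have hidx' : ¬ q ∣ (S'.subgroupOf L).index := hidx
  have hfr := Sylow.normalizer_sup_eq_top' (hS''q.toSylow hidx') (N := pPrimeCore r ↥L)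
    (by rw [IsPGroup.toSylow_coe]; exact hST)
  have hfr' : normalizer ((S'.subgroupOf L : Subgroup ↥L) : Set ↥L) ⊔ pPrimeCore r ↥L = ⊤ := hfr
  have hle : normalizer ((S'.subgroupOf L : Subgroup ↥L) : Set ↥L) ≤ (M ⊓ L).subgroupOf L := by
    intro x hx
    rw [mem_subgroupOf]
    refine ⟨hNS ?_, x.2⟩
    rw [mem_normalizer_iff] at hx ⊢
    intro s
    constructor
    · intro hs
      have hsL : s ∈ L := (hS'ML hs).2
      have h1 := (hx ⟨s, hsL⟩).mp (by rw [mem_subgroupOf]; exact hs)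
      rw [mem_subgroupOf] at h1
      simpa using h1
    · intro hs
      have hsL : s ∈ L := by
        have h1 : (x : G) * s * (x : G)⁻¹ ∈ L := (hS'ML hs).2
        have h2 := L.mul_mem (L.mul_mem (L.inv_mem x.2) h1) x.2
        have h3 : (x : G)⁻¹ * ((x : G) * s * (x : G)⁻¹) * (x : G) = s := by group
        rw [h3] at h2; exact h2
      have h1 := (hx ⟨s, hsL⟩).mpr (by rw [mem_subgroupOf]; simpa using hs)
      rw [mem_subgroupOf] at h1
      exact h1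
  intro l hl
  have hmem : (⟨l, hl⟩ : ↥L) ∈
      pPrimeCore r ↥L ⊔ normalizer ((S'.subgroupOf L : Subgroup ↥L) : Set ↥L) := by
    rw [sup_comm, hfr']; trivial
  obtain ⟨b, hb, n, hn, hbn⟩ := Subgroup.mem_sup_of_normal_left.mp hmem
  have hn' := hle hn
  rw [mem_subgroupOf] at hn'
  exact ⟨(b : G), ⟨b, hb, rfl⟩, (n : G), hn', (congrArg Subtype.val hbn).symm⟩

/-- The case `q ∉ σ(L)` of Corollary 12.9 in factorised form: `q ∈ τ₂(L)`, `L_σ` is nilpotent and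
`L = L_σ (M ∩ L)`; moreover `M ∩ L` contains an elementary abelian subgroup of order `q ^ 2`. -/
theorem caseB_struct [Finite G] (hG : IsMinSimpleOddOrder G) (hU : BGUniqHyp G)
    (hF : BGFusHyp G) (h16 : CentHyp G) (h17 : Tau2Hyp G) {M L : Subgroup G}
    (hM : IsCoatom M) (hL : IsCoatom L) {q : ℕ} [Fact q.Prime] (hqM : q ∈ sigma M)
    (hqL : q ∉ sigma L) (X : Subgroup G) (hXq : IsPGroup q X) (hX1 : X ≠ ⊥)
    (hNX : normalizer (X : Set G) ≤ L)
    (S' : Subgroup G) (hXS : X ≤ S') (hS'q : IsPGroup q S') (hS'ML : S' ≤ M ⊓ L)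
    (hidx : ¬ q ∣ S'.relIndex L) :
    q ∈ tau2 L ∧ Group.IsNilpotent (sigmaCore L) ∧
      (∀ l ∈ L, ∃ b ∈ sigmaCore L, ∃ d ∈ M ⊓ L, l = b * d) := by
  have hq : q.Prime := Fact.out
  have hLsolv : Group.IsSolvable ↥L := hG.2.2.2 L hL.1
  have hS''q : IsPGroup q (S'.subgroupOf L) :=
    hS'q.comap_of_injective L.subtype L.subtype_injective
  have hidx' : ¬ q ∣ (S'.subgroupOf L).index := hidx
  have hPcoe : ((hS''q.toSylow hidx' : Sylow q ↥L) : Subgroup ↥L) = S'.subgroupOf L :=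
    IsPGroup.toSylow_coe _ _
  have hS'L : S' ≤ L := hS'ML.trans inf_le_right
  have hPmap : ((hS''q.toSylow hidx' : Sylow q ↥L) : Subgroup ↥L).map L.subtype = S' := by
    rw [hPcoe]; exact Subgroup.map_subgroupOf_eq_of_le hS'L
  have hXL : X ≤ L := hXS.trans hS'L
  -- the Sylow `q`-subgroups of `L` are not cyclic
  have h1 : ¬ PRankLE q 1 ↥L := by
    intro hr1
    have hcyc : IsCyclic ↥((hS''q.toSylow hidx' : Sylow q ↥L) : Subgroup ↥L) :=
      bg_sylow_cyclic_of_prank_one hG.1 (le_refl L) q hr1 _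
    have hcyc' : IsCyclic ↥S' := by
      have e := (((hS''q.toSylow hidx' : Sylow q ↥L) : Subgroup ↥L).equivMapOfInjective
        L.subtype L.subtype_injective)
      rw [hPmap] at e
      exact isCyclic_of_surjective e e.surjective
    apply hqL
    refine ⟨hq, (dvd_card_of_isPGroup_ne_bot hXq hX1).trans (Subgroup.card_dvd_of_le hXL),
      hS''q.toSylow hidx', ?_⟩
    rw [hPmap]
    refine le_trans ?_ hNX
    intro g hg
    have hgS : ∀ s ∈ S', g * s * g⁻¹ ∈ S' := fun s hs => (mem_normalizer_iff.mp hg s).mp hs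
    have hXg : X.map (MulAut.conj g).toMonoidHom = X :=
      Cfsg.Agent.Lib.helper66.eq_of_card_eq_of_isCyclic (E := S')
        (by rintro _ ⟨x, hx, rfl⟩; exact hgS x (hXS hx)) hXS (sf_card_map_conj X g)
    rw [mem_normalizer_iff]
    intro x
    constructor
    · intro hx
      rw [← hXg]; exact ⟨x, hx, rfl⟩
    · intro hx
      rw [← hXg, sf_mem_map_conj_iff] at hx
      have h3 : g⁻¹ * (g * x * g⁻¹) * g = x := by group
      rw [h3] at hx; exact hx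
  have h2 : PRankLE q 2 ↥L := by
    by_contra h
    exact hqL (bg_alpha_sub_sigma hG hU L hL (p := q) ⟨hq, h⟩)
  have hτ : q ∈ tau2 L := ⟨hq, hqL, h2, h1⟩
  -- an elementary abelian subgroup `A` of order `q ^ 2` of `S'`
  obtain ⟨A₀, hA₀L, hA₀e, hA₀c⟩ := bg_exists_elemAb_sq L q h2 h1
  have hA₀q : IsPGroup q A₀ := IsPGroup.of_card hA₀c
  obtain ⟨l, hl⟩ := Cfsg.Agent.Lib.helper26.exists_conj_le_sylow (hS''q.toSylow hidx')
    (A₀.subgroupOf L) (hA₀q.comap_of_injective L.subtype L.subtype_injective)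
  have hAS : A₀.map (MulAut.conj (l : G)).toMonoidHom ≤ S' := by
    rintro _ ⟨a, ha, rfl⟩
    have h3 := hl ⟨a, hA₀L ha⟩ (by rw [mem_subgroupOf]; exact ha)
    rw [hPcoe, mem_subgroupOf] at h3
    simpa using h3
  have hAe : IsElementaryAbelian q (A₀.map (MulAut.conj (l : G)).toMonoidHom) := by
    rw [bg_elemAb_iff] at hA₀e ⊢
    constructor
    · rintro _ ⟨a, ha, rfl⟩ _ ⟨b, hb, rfl⟩
      have h3 := hA₀e.1 a ha b hb
      change (l : G) * a * (l : G)⁻¹ * ((l : G) * b * (l : G)⁻¹) =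
        (l : G) * b * (l : G)⁻¹ * ((l : G) * a * (l : G)⁻¹)
      calc (l : G) * a * (l : G)⁻¹ * ((l : G) * b * (l : G)⁻¹)
          = (l : G) * (a * b) * (l : G)⁻¹ := by group
        _ = (l : G) * (b * a) * (l : G)⁻¹ := by rw [h3]
        _ = (l : G) * b * (l : G)⁻¹ * ((l : G) * a * (l : G)⁻¹) := by group
    · rintro _ ⟨a, ha, rfl⟩
      change ((l : G) * a * (l : G)⁻¹) ^ q = 1
      rw [conj_pow, hA₀e.2 a ha]; group
  have hAc : Nat.card (A₀.map (MulAut.conj (l : G)).toMonoidHom) = q ^ 2 := by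
    rw [sf_card_map_conj]; exact hA₀c
  generalize A₀.map (MulAut.conj (l : G)).toMonoidHom = A at hAS hAe hAc
  have hAM : A ≤ M := hAS.trans (hS'ML.trans inf_le_left)
  have hAL : A ≤ L := hAS.trans hS'L
  have hAq : IsPGroup q A := IsPGroup.of_card hAc
  have hA1 : A ≠ ⊥ := by
    intro h
    rw [h, Subgroup.card_bot] at hAc
    exact (Nat.one_lt_pow two_ne_zero hq.one_lt).ne hAc
  obtain ⟨hnil, hnorm⟩ := h17 L hL q hτ A hAL hAe hAc
  -- `N(A) ≤ M`
  have hNA : normalizer (A : Set G) ≤ M := by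
    intro g hg
    have hmap : A.map (MulAut.conj g).toMonoidHom ≤ M := by
      rintro _ ⟨a, ha, rfl⟩
      exact hAM ((mem_normalizer_iff.mp hg a).mp ha)
    obtain ⟨m, hm, c, hc, rfl⟩ := hF M hM q hqM A hAq hA1 hAM g hmap
    exact M.mul_mem hm (h16 M hM q A hAM hAe hAc hc)
  -- a complement `E` of `L_σ` in `L` containing `A`
  have hNHall : (Nat.card (piCore (sigma L) ↥L)).Coprime (piCore (sigma L) ↥L).index := by
    apply Nat.coprime_of_dvd
    intro k hk hkd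
    exact Cfsg.Agent.Lib.helper25.BGS.sigma_core_not_dvd_index hG hU hF L hL
      (Cfsg.Agent.Lib.helper65.piCore_isPiGrp (G := ↥L) (sigma L) k hk hkd)
  have hQcop : (Nat.card (piCore (sigma L) ↥L)).Coprime (Nat.card (A.subgroupOf L)) := by
    rw [Nat.card_congr (Subgroup.subgroupOfEquivOfLe hAL).toEquiv, hAc]
    apply Nat.Coprime.pow_right
    apply Nat.Coprime.symm
    rw [Nat.Prime.coprime_iff_not_dvd hq]
    intro hd
    exact hqL (Cfsg.Agent.Lib.helper65.piCore_isPiGrp (G := ↥L) (sigma L) q hq hd)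
  obtain ⟨E, hEc, hQE⟩ := Cfsg.Agent.Lib.helper29.exists_complement_ge (piCore (sigma L) ↥L)
    hNHall (A.subgroupOf L) hQcop (Or.inl inferInstance)
  have hEN : E.map L.subtype ≤ normalizer (A : Set G) := by
    apply Cfsg.Agent.Lib.helper71.BG12.le_normalizer_of_forall_conj_mem
    rintro _ ⟨e, he, rfl⟩ a ha
    have h3 : (e : G) * a * (e : G)⁻¹ ∈ sigmaCore L ⊔ A :=
      (mem_normalizer_iff.mp (hnorm e.2) a).mp (mem_sup_right ha)
    have haQ : (⟨a, hAL ha⟩ : ↥L) ∈ A.subgroupOf L := by rw [mem_subgroupOf]; exact ha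
    have hxE : e * ⟨a, hAL ha⟩ * e⁻¹ ∈ E := E.mul_mem (E.mul_mem he (hQE haQ)) (E.inv_mem he)
    have hsup : sigmaCore L ⊔ A = (piCore (sigma L) ↥L ⊔ A.subgroupOf L).map L.subtype := by
      rw [Subgroup.map_sup, Subgroup.map_subgroupOf_eq_of_le hAL]; rfl
    rw [hsup] at h3
    obtain ⟨x, hx, hxe⟩ := h3
    have hxeq : x = e * ⟨a, hAL ha⟩ * e⁻¹ := Subtype.ext (by simpa using hxe)
    rw [hxeq] at hx
    obtain ⟨n, hn, k, hk, hnk⟩ := Subgroup.mem_sup_of_normal_left.mp hx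
    have hnE : n ∈ E := by
      have h4 : n = e * ⟨a, hAL ha⟩ * e⁻¹ * k⁻¹ := by rw [← hnk]; group
      rw [h4]; exact E.mul_mem hxE (E.inv_mem (hQE hk))
    have hn1 : n = 1 := by
      have h5 : n ∈ piCore (sigma L) ↥L ⊓ E := ⟨hn, hnE⟩
      rw [hEc.disjoint.eq_bot] at h5
      exact Subgroup.mem_bot.mp h5
    rw [hn1, one_mul] at hnk
    have h6 : ((e * ⟨a, hAL ha⟩ * e⁻¹ : ↥L) : G) ∈ A := by
      rw [← hnk]; exact Subgroup.mem_subgroupOf.mp hk
    simpa using h6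
  have hEM : E ≤ (M ⊓ L).subgroupOf L := by
    intro e he
    rw [mem_subgroupOf]
    exact ⟨hNA (hEN ⟨e, he, rfl⟩), e.2⟩
  refine ⟨hτ, hnil, ?_⟩
  intro l hl
  have hmem : (⟨l, hl⟩ : ↥L) ∈ piCore (sigma L) ↥L ⊔ E := by
    rw [hEc.sup_eq_top]; trivial
  obtain ⟨b, hb, e, he, hbe⟩ := Subgroup.mem_sup_of_normal_left.mp hmem
  have he' := hEM he
  rw [mem_subgroupOf] at he'
  exact ⟨(b : G), ⟨b, hb, rfl⟩, (e : G), he', (congrArg Subtype.val hbe).symm⟩

/-- A Sylow `q`-subgroup of a subgroup of `q`-rank exactly `2` contains an elementary abelian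
subgroup of order `q ^ 2`. -/
theorem exists_elemAb_sq_le_sylow [Finite G] (L : Subgroup G) (q : ℕ) [Fact q.Prime]
    (h2 : PRankLE q 2 ↥L) (h1 : ¬ PRankLE q 1 ↥L) (Q : Sylow q ↥L) :
    ∃ A : Subgroup G, A ≤ (Q : Subgroup ↥L).map L.subtype ∧ IsElementaryAbelian q A ∧
      Nat.card A = q ^ 2 := by
  obtain ⟨A₀, hA₀L, hA₀e, hA₀c⟩ := bg_exists_elemAb_sq L q h2 h1
  have hA₀q : IsPGroup q A₀ := IsPGroup.of_card hA₀c
  obtain ⟨l, hl⟩ := Cfsg.Agent.Lib.helper26.exists_conj_le_sylow Q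
    (A₀.subgroupOf L) (hA₀q.comap_of_injective L.subtype L.subtype_injective)
  refine ⟨A₀.map (MulAut.conj (l : G)).toMonoidHom, ?_, ?_, ?_⟩
  · rintro _ ⟨a, ha, rfl⟩
    have h3 := hl ⟨a, hA₀L ha⟩ (by rw [mem_subgroupOf]; exact ha)
    exact ⟨_, h3, by simp⟩
  · rw [bg_elemAb_iff] at hA₀e ⊢
    constructor
    · rintro _ ⟨a, ha, rfl⟩ _ ⟨b, hb, rfl⟩
      have h3 := hA₀e.1 a ha b hb
      change (l : G) * a * (l : G)⁻¹ * ((l : G) * b * (l : G)⁻¹) =
        (l : G) * b * (l : G)⁻¹ * ((l : G) * a * (l : G)⁻¹)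
      calc (l : G) * a * (l : G)⁻¹ * ((l : G) * b * (l : G)⁻¹)
          = (l : G) * (a * b) * (l : G)⁻¹ := by group
        _ = (l : G) * (b * a) * (l : G)⁻¹ := by rw [h3]
        _ = (l : G) * b * (l : G)⁻¹ * ((l : G) * a * (l : G)⁻¹) := by group
    · rintro _ ⟨a, ha, rfl⟩
      change ((l : G) * a * (l : G)⁻¹) ^ q = 1
      rw [conj_pow, hA₀e.2 a ha]; group
  · rw [sf_card_map_conj]; exact hA₀c

/-- `M`, `H` distinct maximal subgroups, `q ∈ σ(M) ∩ τ₂(H)`, `X₀ ≤ M ∩ H` of order `q`: then no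
nontrivial subgroup of `H_σ ∩ M` centralizes `X₀`. -/
theorem tau2_sigma_false [Finite G] (hG : IsMinSimpleOddOrder G) {M H : Subgroup G}
    (hM : IsCoatom M) (hH : IsCoatom H) (hne : H ≠ M) {q : ℕ} [Fact q.Prime]
    (hqM : q ∈ sigma M) (hqH : q ∈ tau2 H) {X₀ : Subgroup G} (hX₀M : X₀ ≤ M) (hX₀H : X₀ ≤ H)
    (hX₀c : Nat.card X₀ = q) {P : Subgroup G} (hP1 : P ≠ ⊥) (hPσ : P ≤ sigmaCore H)
    (hPM : P ≤ M) (hPX : P ≤ centralizer (X₀ : Set G)) : False := by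
  have hq : q.Prime := Fact.out
  obtain ⟨-, hqσ, h2, h1⟩ := id hqH
  have hX₀q : IsPGroup q X₀ := IsPGroup.of_card (n := 1) (by rw [hX₀c, pow_one])
  have hX₀1 : X₀ ≠ ⊥ := by
    intro h
    rw [h, Subgroup.card_bot] at hX₀c
    exact hq.one_lt.ne hX₀c
  obtain ⟨Q, hX₀Q⟩ := Cfsg.Agent.Lib.helper69.bg126_exists_sylow hX₀H hX₀q
  obtain ⟨A, hAQ, hAe, hAc⟩ := exists_elemAb_sq_le_sylow H q h2 h1 Q
  have hAH : A ≤ H := hAQ.trans (map_subtype_le _)
  obtain ⟨hnil, hSyl, hnorm, hCA, huniq, hex⟩ :=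
    Cfsg.Agent.S1417.result hG H hH q hqH A ⟨hAH, hAe, hAc⟩
  have hX₀A : X₀ ≤ A := by
    intro x hx
    refine (((hSyl Q).2 hAQ).1 x (hX₀Q hx)).mp ?_
    have h3 := pow_card_eq_one' (G := ↥X₀) (x := ⟨x, hx⟩)
    rw [hX₀c] at h3
    exact congrArg Subtype.val h3
  obtain ⟨E, hE, hQE⟩ := Cfsg.Agent.Lib.helper60.BGCentU.exists_compl_ge hG H hH
    ((Q : Subgroup ↥H).map H.subtype) (map_subtype_le _) (by
      intro r hr hrd hrσ
      rw [Subgroup.card_map_of_injective H.subtype_injective] at hrd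
      obtain ⟨n, hn⟩ := IsPGroup.iff_card.mp Q.isPGroup'
      rw [hn] at hrd
      have h3 := (Nat.prime_dvd_prime_iff_eq hr hq).mp (hr.dvd_of_dvd_pow hrd)
      subst h3
      exact hqσ hrσ)
  have hAE : A ≤ E := hAQ.trans hQE
  have h16 := (Cfsg.Agent.S1416.result hG H hH q A ⟨hAH, hAe, hAc⟩).1
  obtain ⟨hCX, hCuniq⟩ := (Cfsg.Agent.Lib.helper69.bg126_main hG H hH E hE q A ⟨hAE, hAe, hAc⟩ h16
    ⟨hnil, hSyl, hnorm, hCA, huniq, hex⟩).2.2 X₀ hX₀A hX₀c (by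
      intro hbot
      apply hP1
      rw [eq_bot_iff, ← hbot]
      exact le_inf hPσ hPX)
  have hNX : normalizer (X₀ : Set G) ≤ H := by
    have hXtop : X₀ ≠ ⊤ := fun h => hH.1 (top_le_iff.mp (h ▸ hX₀H))
    have hNtop := Cfsg.Agent.Lib.helper71.BG12.normalizer_ne_top' hG hX₀1 hXtop
    obtain ⟨L', hL', hNL'⟩ := (eq_top_or_exists_le_coatom _).resolve_left hNtop
    have h3 := hCuniq L' hL' ((Subgroup.centralizer_le_normalizer _).trans hNL')
    rw [← h3]; exact hNL'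
  have hX₀ML : X₀ ≤ M ⊓ H := le_inf hX₀M hX₀H
  obtain ⟨S, hS⟩ := (hX₀q.comap_of_injective (M ⊓ H).subtype (M ⊓ H).subtype_injective :
    IsPGroup q (X₀.subgroupOf (M ⊓ H))).exists_le_sylow
  have hXS : X₀ ≤ (S : Subgroup ↥(M ⊓ H)).map (M ⊓ H).subtype := by
    intro x hx
    exact ⟨⟨x, hX₀ML hx⟩, hS (mem_subgroupOf.mpr hx), rfl⟩
  obtain ⟨-, -, hidx⟩ :=
    Cfsg.Agent.S1424.result hG M hM q hqM X₀ hX₀q hX₀1 hX₀M H hH hne hNX S hXS
  have hS'q : IsPGroup q ((S : Subgroup ↥(M ⊓ H)).map (M ⊓ H).subtype) := S.isPGroup'.map _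
  have hS'MH : (S : Subgroup ↥(M ⊓ H)).map (M ⊓ H).subtype ≤ M ⊓ H := map_subtype_le _
  generalize (S : Subgroup ↥(M ⊓ H)).map (M ⊓ H).subtype = S' at hidx hS'q hS'MH
  have hS''q : IsPGroup q (S'.subgroupOf H) :=
    hS'q.comap_of_injective H.subtype H.subtype_injective
  have hidx' : ¬ q ∣ (S'.subgroupOf H).index := hidx
  obtain ⟨A', hA'S, hA'e, hA'c⟩ := exists_elemAb_sq_le_sylow H q h2 h1 (hS''q.toSylow hidx')
  have hmapS : ((hS''q.toSylow hidx' : Sylow q ↥H) : Subgroup ↥H).map H.subtype = S' := by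
    rw [IsPGroup.toSylow_coe]
    exact Subgroup.map_subgroupOf_eq_of_le (hS'MH.trans inf_le_right)
  rw [hmapS] at hA'S
  have hA'M : A' ≤ M := hA'S.trans (hS'MH.trans inf_le_left)
  have hA'H : A' ≤ H := hA'S.trans (hS'MH.trans inf_le_right)
  obtain ⟨-, -, -, -, huniq', -⟩ :=
    Cfsg.Agent.S1417.result hG H hH q hqH A' ⟨hA'H, hA'e, hA'c⟩
  have hbot := huniq' M hM (Ne.symm hne) hA'M
  apply hP1
  rw [eq_bot_iff, ← hbot]
  exact le_inf hPσ hPM

/-- Frattini factorisation `H = O_β(H) · N_H(S)` for a Sylow `q`-subgroup `S` of `H'`,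
`q ∉ β(H)`. -/
theorem beta_frattini_comm [Finite G] (hG : IsMinSimpleOddOrder G)
    (H : Subgroup G) (hH : IsCoatom H) (q : ℕ) [Fact q.Prime] (hqβ : q ∉ beta H)
    (S : Subgroup G) (hSH : S ≤ ⁅H, H⁆) (hSq : IsPGroup q S)
    (hSyl : ¬ q ∣ S.relIndex ⁅H, H⁆) :
    ∀ h ∈ H, ∃ b ∈ piCoreOf (beta H) H, ∃ n ∈ H ⊓ normalizer (S : Set G), h = b * n := by
  obtain ⟨hB1, -, ⟨D, hD1, hDnil⟩, -, -⟩ := Cfsg.Agent.S1414.result hG H hH
  have hcH : ⁅H, H⁆ ≤ H := commutator_self_le H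
  have hDH : D ≤ H := hD1.1.trans hcH
  have hSH' : S ≤ H := hSH.trans hcH
  have hmemc : ∀ x : ↥H, (x : G) ∈ ⁅H, H⁆ → x ∈ commutator ↥H := by
    intro x hx
    rw [← Subgroup.map_subtype_commutator] at hx
    exact (Subgroup.mem_map_iff_mem H.subtype_injective).mp hx
  have hDN : D.subgroupOf H ≤ commutator ↥H := fun x hx =>
    hmemc x (hD1.1 (Subgroup.mem_subgroupOf.mp hx))
  have hSN : S.subgroupOf H ≤ commutator ↥H := fun x hx =>
    hmemc x (hSH (Subgroup.mem_subgroupOf.mp hx))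
  have hDnil' : Group.IsNilpotent ↥(D.subgroupOf H) :=
    bg_isNilpotent_of_injective (Subgroup.subgroupOfEquivOfLe hDH).toMonoidHom
      (Subgroup.subgroupOfEquivOfLe hDH).injective hDnil
  have hceq : (⁅H, H⁆ : Subgroup G).subgroupOf H = commutator ↥H := by
    rw [← Subgroup.map_subtype_commutator]
    unfold Subgroup.subgroupOf
    exact Subgroup.comap_map_eq_self_of_injective H.subtype_injective _
  have hND : commutator ↥H ≤ piCore (beta H) ↥H ⊔ D.subgroupOf H := by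
    rw [← Subgroup.relIndex_eq_one, Nat.eq_one_iff_not_exists_prime_dvd]
    intro p hp hd
    by_cases hpβ : p ∈ beta H
    · have h1 := hB1.2.2 p hp hpβ
      unfold piCoreOf at h1
      rw [Cfsg.Agent.Lib.helper71.BGA.relIndex_map_subtype] at h1
      exact h1 ((hd.trans (Subgroup.relIndex_dvd_of_le_left _ le_sup_left)).trans
        (Subgroup.relIndex_dvd_index_of_normal _ _))
    · have h1 := hD1.2.2 p hp ⟨hp, hpβ⟩
      rw [← Subgroup.relIndex_subgroupOf hcH, hceq] at h1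
      exact h1 (hd.trans (Subgroup.relIndex_dvd_of_le_left _ le_sup_right))
  have hSq' : IsPGroup q (S.subgroupOf H) :=
    hSq.comap_of_injective H.subtype H.subtype_injective
  have hSyl' : ¬ q ∣ (S.subgroupOf H).relIndex (commutator ↥H) := by
    rw [← hceq, Subgroup.relIndex_subgroupOf hcH]; exact hSyl
  have hBq : ¬ q ∣ Nat.card (piCore (beta H) ↥H) := by
    intro h
    apply hqβ
    apply hB1.2.1 q Fact.out
    unfold piCoreOf
    rw [Subgroup.card_map_of_injective H.subtype_injective]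
    exact h
  have key := Cfsg.Agent.Lib.helper25.BGT.frattini_factor (X := ↥H) q (piCore (beta H) ↥H)
    (commutator ↥H) (D.subgroupOf H) (S.subgroupOf H) hDN hDnil' hND hSN hSq' hSyl' hBq
  intro h hh
  obtain ⟨b, hb, n, hn, hx⟩ := key ⟨h, hh⟩
  refine ⟨(b : G), ⟨b, hb, rfl⟩, (n : G), ⟨n.2, ?_⟩, congrArg Subtype.val hx⟩
  have h1 := coe_mem_normalizer_map_subtype (S.subgroupOf H) n hn
  rwa [Subgroup.subgroupOf_map_subtype, inf_of_le_left hSH'] at h1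

/-- CLAIM J: `M₁` maximal, `q ∈ σ(M₁)`, `p ∤ |M₁'|`, `p` not ideal, `S ≤ M₁` a nontrivial
`q`-subgroup and `N₀ ≤ N_G(S)` with `p ∣ |N₀'|`.  Then some maximal `L ≥ N_G(S)` has `q ∈ τ₂(L)`,
`p ∈ σ(L)` and `L_σ` nilpotent. -/
theorem claimJ [Finite G] (hG : IsMinSimpleOddOrder G) {M₁ : Subgroup G} (hM₁ : IsCoatom M₁)
    {p q : ℕ} [Fact p.Prime] [Fact q.Prime] (hpq : p ≠ q)
    (hqM : q ∈ sigma M₁) (hpM : ¬ p ∣ Nat.card ↥⁅M₁, M₁⁆) (hpid : ¬ IsIdealPrime p G)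
    {S N₀ : Subgroup G} (hSq : IsPGroup q S) (hS1 : S ≠ ⊥) (hSM : S ≤ M₁)
    (hN₀ : N₀ ≤ normalizer (S : Set G)) (hpN : p ∣ Nat.card ↥⁅N₀, N₀⁆) :
    ∃ L : Subgroup G, IsCoatom L ∧ normalizer (S : Set G) ≤ L ∧ q ∈ tau2 L ∧ p ∈ sigma L ∧
      Group.IsNilpotent (sigmaCore L) := by
  have hU := bgx_uniq hG
  have hF := bgx_fus hG
  have hPL : BGPLenHyp G := by
    intro p hp H hH
    have : Fact p.Prime := ⟨hp⟩
    exact Cfsg.Agent.S1410.result hG p H hH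
  have h16 : CentHyp G := by
    intro M hM p _ A hAM hAe hAc
    exact (Cfsg.Agent.S1416.result hG M hM p A ⟨hAM, hAe, hAc⟩).1
  have h17 : Tau2Hyp G := by
    intro M hM p _ hp A hAM hAe hAc
    obtain ⟨h1, -, h3, -⟩ := Cfsg.Agent.S1417.result hG M hM p hp A ⟨hAM, hAe, hAc⟩
    exact ⟨h1, h3⟩
  have hpp : p.Prime := Fact.out
  have hStop : S ≠ ⊤ := fun h => hM₁.1 (top_le_iff.mp (h ▸ hSM))
  have hNtop := Cfsg.Agent.Lib.helper71.BG12.normalizer_ne_top' hG hS1 hStop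
  obtain ⟨L, hL, hNL⟩ := (eq_top_or_exists_le_coatom _).resolve_left hNtop
  have hN₀L : N₀ ≤ L := hN₀.trans hNL
  have hpL' : p ∣ Nat.card ↥⁅L, L⁆ :=
    hpN.trans (Subgroup.card_dvd_of_le (Subgroup.commutator_mono hN₀L hN₀L))
  have hLM : L ≠ M₁ := by
    rintro rfl
    exact hpM hpL'
  have hSL : S ≤ L := le_normalizer.trans hNL
  have hSML : S ≤ M₁ ⊓ L := le_inf hSM hSL
  obtain ⟨Sy, hSy⟩ := (hSq.comap_of_injective (M₁ ⊓ L).subtype (M₁ ⊓ L).subtype_injective :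
    IsPGroup q (S.subgroupOf (M₁ ⊓ L))).exists_le_sylow
  have hXS : S ≤ (Sy : Subgroup ↥(M₁ ⊓ L)).map (M₁ ⊓ L).subtype := by
    intro x hx
    exact ⟨⟨x, hSML hx⟩, hSy (mem_subgroupOf.mpr hx), rfl⟩
  obtain ⟨-, hNS, hidx⟩ :=
    Cfsg.Agent.S1424.result hG M₁ hM₁ q hqM S hSq hS1 hSM L hL hLM hNL Sy hXS
  have hS'q : IsPGroup q ((Sy : Subgroup ↥(M₁ ⊓ L)).map (M₁ ⊓ L).subtype) := Sy.isPGroup'.map _
  have hS'ML : (Sy : Subgroup ↥(M₁ ⊓ L)).map (M₁ ⊓ L).subtype ≤ M₁ ⊓ L := map_subtype_le _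
  generalize (Sy : Subgroup ↥(M₁ ⊓ L)).map (M₁ ⊓ L).subtype = S' at hXS hNS hidx hS'q hS'ML
  have hD' : ¬ p ∣ Nat.card ↥⁅M₁ ⊓ L, M₁ ⊓ L⁆ := fun h =>
    hpM (h.trans (Subgroup.card_dvd_of_le (Subgroup.commutator_mono inf_le_left inf_le_left)))
  have hpL : p ∣ Nat.card L := hpL'.trans (Subgroup.card_dvd_of_le (commutator_self_le L))
  by_cases hqL : q ∈ sigma L
  · exfalso
    have hpβ : p ∉ beta L := fun h => hpid h.2
    have hfac := caseA_struct hG hU hF hPL hL hqL S' hS'q hS'ML hNS hidx hpq hpL hpβ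
    have hnorm : L ≤ normalizer (((pPrimeCore p ↥L).map L.subtype : Subgroup G) : Set G) :=
      Cfsg.Agent.Lib.helper71.BGA.map_subtype_le_normalizer _
    have hcard : ¬ p ∣ Nat.card ((pPrimeCore p ↥L).map L.subtype) := by
      rw [Subgroup.card_map_of_injective L.subtype_injective]
      exact (Nat.Prime.coprime_iff_not_dvd hpp).mp
        (Cfsg.Agent.Lib.helper40.pPrimeCore_card_coprime p ↥L).symm
    exact not_dvd_card_commutator_of_factor hpp hnorm inf_le_right hfac hcard hD' hpL'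
  · obtain ⟨hτ, hnil, hfac⟩ := caseB_struct hG hU hF h16 h17 hM₁ hL hqM hqL S hSq hS1 hNL S'
      hXS hS'q hS'ML hidx
    refine ⟨L, hL, hNL, hτ, ?_, hnil⟩
    by_contra hpσ
    have hnorm : L ≤ normalizer (sigmaCore L : Set G) :=
      Cfsg.Agent.Lib.helper71.BGA.le_normalizer_sigmaCore L
    have hcard : ¬ p ∣ Nat.card (sigmaCore L) := by
      unfold sigmaCore
      rw [Subgroup.card_map_of_injective L.subtype_injective]
      exact fun h => hpσ (Cfsg.Agent.Lib.helper65.piCore_isPiGrp (G := ↥L) (sigma L) p hpp h)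
    exact not_dvd_card_commutator_of_factor hpp hnorm inf_le_right hfac hcard hD' hpL'

/-- An ideal prime in `σ(H)` lies in `β(H)`. -/
theorem mem_beta_of_ideal_of_sigma [Finite G] {H : Subgroup G} {p : ℕ}
    (hid : IsIdealPrime p G) (hpH : p ∈ sigma H) : p ∈ beta H := by
  have hpp := hid.1
  have : Fact p.Prime := ⟨hpp⟩
  refine ⟨⟨hpp, ?_⟩, hid⟩
  intro hr
  apply hid.2.1
  intro A hAc hAe
  have hAp : IsPGroup p A := fun a => ⟨1, by rw [pow_one]; exact Subtype.ext (hAe a a.2)⟩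
  obtain ⟨g, hg⟩ := exists_conj_le_of_not_dvd_index H (bg_sigma_not_dvd_index H hpH) A hAp
  by_contra hcard
  push Not at hcard
  let f : ↥A →* ↥H := ((MulAut.conj g).toMonoidHom.comp A.subtype).codRestrict H
    (fun a => hg ⟨a, a.2, rfl⟩)
  have hf : Function.Injective f := by
    intro a b hab
    have h1 : (MulAut.conj g) (a : G) = (MulAut.conj g) (b : G) := congrArg Subtype.val hab
    exact Subtype.ext ((MulAut.conj g).injective h1)
  exact Cfsg.Agent.Lib.helper26.not_prankLE_self hAc (fun a => Subtype.ext (hAe a a.2)) hcard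
    (Cfsg.Agent.Lib.helper26.prankLE_of_injective f hf hr)

/-- **A piece of B-G Lemma 13.4.**  `M`, `H` maximal, `p ∈ τ₁(M) ∩ σ(H)`, `P ≤ M ∩ H` of order
`p`, and `x ≠ 1` in `M_σ ∩ H' ∩ C(P)`.  Then `p ∈ β(H)`. -/
theorem tau1_sigma_mem_beta {G : Type*} [Group G] [Finite G] (hG : Cfsg.IsMinSimpleOddOrder G)
    {M H : Subgroup G} (hM : IsCoatom M) (hH : IsCoatom H)
    {p : ℕ} (hpM : p ∈ Cfsg.tau1 M) (hpH : p ∈ Cfsg.sigma H)
    {P : Subgroup G} (hPM : P ≤ M) (hPH : P ≤ H) (hPc : Nat.card P = p)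
    {x : G} (hx1 : x ≠ 1) (hxM : x ∈ Cfsg.sigmaCore M) (hxH : x ∈ ⁅H, H⁆)
    (hxP : x ∈ Subgroup.centralizer (P : Set G)) : p ∈ Cfsg.beta H := by
  by_cases hid : IsIdealPrime p G
  · exact mem_beta_of_ideal_of_sigma hid hpH
  exfalso
  have hU := bgx_uniq hG
  have hF := bgx_fus hG
  obtain ⟨hpp, hpσM, -, hpM', -⟩ := id hpM
  have : Fact p.Prime := ⟨hpp⟩
  have hnc : ∀ g : G, H ≠ M.map (MulAut.conj g).toMonoidHom := by
    intro g h
    apply hpσM
    rw [← Cfsg.Agent.Lib.helper3.sigma_map_conj M g, ← h]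
    exact hpH
  have hne : H ≠ M := fun h => hpσM (h ▸ hpH)
  -- the prime `q` and an element `x₀` of order `q`
  have hox : orderOf x ≠ 1 := fun h => hx1 (orderOf_eq_one_iff.mp h)
  obtain ⟨q, hq, hqx⟩ := Nat.exists_prime_and_dvd hox
  have : Fact q.Prime := ⟨hq⟩
  have hox0 : orderOf x ≠ 0 := (orderOf_pos x).ne'
  obtain ⟨x₀, hx₀⟩ : ∃ x₀ : G, x₀ = x ^ (orderOf x / q) := ⟨_, rfl⟩
  have hx₀o : orderOf x₀ = q := by rw [hx₀]; exact orderOf_pow_orderOf_div hox0 hqx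
  have hx₀M : x₀ ∈ sigmaCore M := by rw [hx₀]; exact Subgroup.pow_mem _ hxM _
  have hx₀H : x₀ ∈ ⁅H, H⁆ := by rw [hx₀]; exact Subgroup.pow_mem _ hxH _
  have hx₀P : x₀ ∈ centralizer (P : Set G) := by rw [hx₀]; exact Subgroup.pow_mem _ hxP _
  have hqM : q ∈ sigma M := by
    have h1 : q ∣ Nat.card (sigmaCore M) := hx₀o ▸ Subgroup.orderOf_dvd_natCard _ hx₀M
    unfold sigmaCore at h1
    rw [Subgroup.card_map_of_injective M.subtype_injective] at h1
    exact Cfsg.Agent.Lib.helper65.piCore_isPiGrp (G := ↥M) (sigma M) q hq h1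
  have hpq : p ≠ q := by
    rintro rfl
    exact hpσM hqM
  have hqβ : q ∉ beta H := fun h => not_mem_alpha_of_sigma hU hM hH hnc hqM h.1
  have hpβ : p ∉ beta H := fun h => hid h.2
  -- a Sylow `q`-subgroup `S` of `H'`
  have hqc : q ∣ Nat.card ↥⁅H, H⁆ := hx₀o ▸ Subgroup.orderOf_dvd_natCard _ hx₀H
  obtain ⟨Sq⟩ : Nonempty (Sylow q ↥⁅H, H⁆) := inferInstance
  have hSq : IsPGroup q ((Sq : Subgroup ↥⁅H, H⁆).map (⁅H, H⁆ : Subgroup G).subtype) :=
    Sq.isPGroup'.map _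
  have hSc : (Sq : Subgroup ↥⁅H, H⁆).map (⁅H, H⁆ : Subgroup G).subtype ≤ ⁅H, H⁆ :=
    map_subtype_le _
  have hSyl : ¬ q ∣ ((Sq : Subgroup ↥⁅H, H⁆).map (⁅H, H⁆ : Subgroup G).subtype).relIndex
      ⁅H, H⁆ := by
    rw [Cfsg.Agent.Lib.helper71.BGA.relIndex_map_subtype]
    exact Sq.not_dvd_index
  have hS1 : (Sq : Subgroup ↥⁅H, H⁆).map (⁅H, H⁆ : Subgroup G).subtype ≠ ⊥ := by
    intro h
    have h1 : (Sq : Subgroup ↥⁅H, H⁆) = ⊥ := by
      rw [eq_bot_iff]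
      intro y hy
      have h2 : (y : G) ∈ (Sq : Subgroup ↥⁅H, H⁆).map (⁅H, H⁆ : Subgroup G).subtype :=
        ⟨y, hy, rfl⟩
      rw [h] at h2
      exact Subgroup.mem_bot.mpr (Subtype.ext (Subgroup.mem_bot.mp h2))
    have h3 := Sq.not_dvd_index
    rw [h1, Subgroup.index_bot] at h3
    exact h3 hqc
  generalize (Sq : Subgroup ↥⁅H, H⁆).map (⁅H, H⁆ : Subgroup G).subtype = S at hSq hSc hSyl hS1
  have hfr := beta_frattini_comm hG H hH q hqβ S hSc hSq hSyl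
  have hBnorm : H ≤ normalizer (piCoreOf (beta H) H : Set G) :=
    Cfsg.Agent.Lib.helper25.BGT.le_normalizer_piCoreOf (beta H) H
  have hpB : ¬ p ∣ Nat.card (piCoreOf (beta H) H) := by
    unfold piCoreOf
    rw [Subgroup.card_map_of_injective H.subtype_injective]
    exact fun h => hpβ (Cfsg.Agent.Lib.helper65.piCore_isPiGrp (G := ↥H) (beta H) p hpp h)
  have hPp : IsPGroup p P := IsPGroup.of_card (n := 1) (by rw [hPc, pow_one])
  have hP1 : P ≠ ⊥ := by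
    intro h
    rw [h, Subgroup.card_bot] at hPc
    exact hpp.one_lt.ne hPc
  have hPcomm : P ≤ ⁅H, H⁆ := by
    have h1 := bg_sylow_le_commutator hG hF H hH hpH (P.subgroupOf H)
      (hPp.comap_of_injective H.subtype H.subtype_injective)
    rw [← Subgroup.map_subtype_commutator]
    intro y hy
    exact ⟨⟨y, hPH hy⟩, h1 (mem_subgroupOf.mpr hy), rfl⟩
  have hpH' : p ∣ Nat.card ↥⁅H, H⁆ := by
    have h1 := Subgroup.card_dvd_of_le hPcomm
    rwa [hPc] at h1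
  have hpN : p ∣ Nat.card ↥⁅H ⊓ normalizer (S : Set G), H ⊓ normalizer (S : Set G)⁆ := by
    by_contra h
    exact not_dvd_card_commutator_of_factor hpp hBnorm inf_le_left hfr hpB h hpH'
  -- `p ∤ |H : N₀|`
  have hidxN : ¬ p ∣ (H ⊓ normalizer (S : Set G)).relIndex H := by
    have hsup : (H ⊓ normalizer (S : Set G)).subgroupOf H ⊔ piCore (beta H) ↥H = ⊤ := by
      rw [eq_top_iff]
      intro y _
      obtain ⟨b, hb, n, hn, hy⟩ := hfr (y : G) y.2
      obtain ⟨b', hb', rfl⟩ := hb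
      have h1 : y = b' * ⟨n, hn.1⟩ := Subtype.ext hy
      rw [h1, sup_comm]
      exact Subgroup.mul_mem_sup hb' (mem_subgroupOf.mpr hn)
    have h2 := index_dvd_card_of_sup_eq_top _ _ hsup
    intro hd
    exact hpβ (Cfsg.Agent.Lib.helper65.piCore_isPiGrp (G := ↥H) (beta H) p hpp (hd.trans h2))
  -- a Sylow `p`-subgroup `T` of `N₀`; it is a Sylow `p`-subgroup of `G`
  obtain ⟨Tp⟩ : Nonempty (Sylow p ↥(H ⊓ normalizer (S : Set G))) := inferInstance
  have hTp : IsPGroup p ((Tp : Subgroup ↥(H ⊓ normalizer (S : Set G))).map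
      (H ⊓ normalizer (S : Set G)).subtype) := Tp.isPGroup'.map _
  have hTN : (Tp : Subgroup ↥(H ⊓ normalizer (S : Set G))).map
      (H ⊓ normalizer (S : Set G)).subtype ≤ H ⊓ normalizer (S : Set G) := map_subtype_le _
  have hTi : ¬ p ∣ ((Tp : Subgroup ↥(H ⊓ normalizer (S : Set G))).map
      (H ⊓ normalizer (S : Set G)).subtype).index := by
    rw [← Subgroup.relIndex_mul_index hTN,
      ← Subgroup.relIndex_mul_index (inf_le_left : H ⊓ normalizer (S : Set G) ≤ H),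
      Cfsg.Agent.Lib.helper71.BGA.relIndex_map_subtype]
    intro hd
    rcases (Nat.Prime.dvd_mul hpp).mp hd with h | h
    · exact Tp.not_dvd_index h
    · rcases (Nat.Prime.dvd_mul hpp).mp h with h | h
      · exact hidxN h
      · exact bg_sigma_not_dvd_index H hpH h
  generalize (Tp : Subgroup ↥(H ⊓ normalizer (S : Set G))).map
      (H ⊓ normalizer (S : Set G)).subtype = T at hTp hTN hTi
  -- conjugate `S` into `M`
  obtain ⟨g, hg⟩ := exists_conj_le_of_not_dvd_index M (bg_sigma_not_dvd_index M hqM) S hSq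
  have hM₁c : IsCoatom (M.map (MulAut.conj g⁻¹).toMonoidHom) :=
    Cfsg.Agent.Lib.helper71.BGA.isCoatom_map_conj hM g⁻¹
  have hSM₁ : S ≤ M.map (MulAut.conj g⁻¹).toMonoidHom := by
    intro s hs
    rw [sf_mem_map_conj_iff, inv_inv]
    have h1 : (MulAut.conj g).toMonoidHom s ∈ M := hg ⟨s, hs, rfl⟩
    simpa using h1
  have hqM₁ : q ∈ sigma (M.map (MulAut.conj g⁻¹).toMonoidHom) := by
    rw [Cfsg.Agent.Lib.helper3.sigma_map_conj]; exact hqM
  have hpM₁ : ¬ p ∣ Nat.card ↥⁅M.map (MulAut.conj g⁻¹).toMonoidHom,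
      M.map (MulAut.conj g⁻¹).toMonoidHom⁆ := by
    rw [← Subgroup.map_commutator,
      Subgroup.card_map_of_injective (MulAut.conj g⁻¹).injective]
    exact hpM'
  obtain ⟨L, hL, hNL, hτ, hpL, hnil⟩ := claimJ hG hM₁c hpq hqM₁ hpM₁ hid hSq hS1 hSM₁
    (inf_le_right : H ⊓ normalizer (S : Set G) ≤ normalizer (S : Set G)) hpN
  -- `L = H`
  have hTL : T ≤ L := hTN.trans (inf_le_right.trans hNL)
  have hTH : T ≤ H := hTN.trans inf_le_left
  have hLH : L = H := by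
    have hTσ : T ≤ sigmaCore L := bg_pgroup_le_sigmaCore hG hU hF L hL hpL T hTL hTp
    have hLT : L ≤ normalizer (T : Set G) :=
      Cfsg.Agent.Lib.helper71.BG12.le_normalizer_of_nilpotent hnil
        (Cfsg.Agent.Lib.helper71.BGA.le_normalizer_sigmaCore L) hTσ hTp
        (fun h => hTi (h.trans (Subgroup.relIndex_dvd_index_of_le hTσ)))
    have hNT : normalizer (T : Set G) ≤ H :=
      Cfsg.Agent.Lib.helper13.sigma_normalizer_le H hpH T hTH hTp hTi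
    by_contra hne'
    exact hH.1 (hL.2 H (lt_of_le_of_ne (hLT.trans hNT) hne'))
  rw [hLH] at hτ
  -- the final contradiction
  have hX₀c : Nat.card (zpowers x₀) = q := by rw [Nat.card_zpowers, hx₀o]
  have hPσ : P ≤ sigmaCore H := bg_pgroup_le_sigmaCore hG hU hF H hH hpH P hPH hPp
  have hσM : sigmaCore M ≤ M := map_subtype_le _
  refine tau2_sigma_false hG hM hH hne hqM hτ (X₀ := zpowers x₀)
    ((zpowers_le).mpr (hσM hx₀M)) ((zpowers_le).mpr (commutator_self_le H hx₀H)) hX₀c hP1 hPσ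
    hPM ?_
  intro y hy
  rw [mem_centralizer_iff]
  intro z hz
  obtain ⟨k, rfl⟩ := mem_zpowers_iff.mp hz
  have h1 : y * x₀ = x₀ * y := (mem_centralizer_iff.mp hx₀P) y hy
  have h2 : Commute x₀ y := h1.symm
  exact (h2.zpow_left k).eq

end Cfsg.Agent.Lib.helper55.BGJ
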