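import Mathlib.GroupTheory.Sylow
import Mathlib.GroupTheory.Transfer
import Mathlib.GroupTheory.SpecificGroups.Cyclic
import Cfsg.Agent.Lib.helper55.Basic

set_option autoImplicit false

namespace Cfsg.Agent.Lib.helper55

/-- If two coprime powers of `g` lie in a subgroup, so does `g`. -/
theorem mem_of_pow_mem_of_coprime {G : Type*} [Group G] (H : Subgroup G) {g : G} {a b : ℕ}
    (hab : Nat.Coprime a b) (ha : g ^ a ∈ H) (hb : g ^ b ∈ H) : g ∈ H := by
  have h1 : (1 : ℤ) = (a : ℤ) * Nat.gcdA a b + (b : ℤ) * Nat.gcdB a b := by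
    have := Nat.gcd_eq_gcd_ab a b
    rw [hab] at this
    exact_mod_cast this
  have h2 : g = (g ^ a) ^ (Nat.gcdA a b) * (g ^ b) ^ (Nat.gcdB a b) := by
    rw [← zpow_natCast, ← zpow_natCast, ← zpow_mul, ← zpow_mul, ← zpow_add, ← h1, zpow_one]
  rw [h2]
  exact H.mul_mem (H.zpow_mem ha _) (H.zpow_mem hb _)

/-- In a finite cyclic group, an element killed by `p` is a power of any element of order `p`. -/
theorem mem_zpowers_of_pow_eq_one_of_cyclic {P : Type*} [Group P] [Finite P] [IsCyclic P] {p : ℕ}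
    (hp : 0 < p) {w u : P} (hw : orderOf w = p) (hu : u ^ p = 1) : u ∈ Subgroup.zpowers w := by
  classical
  have := Fintype.ofFinite P
  have hle := IsCyclic.card_pow_eq_one_le (α := P) hp
  have hsub : (Finset.univ.filter (fun a : P => a ∈ Subgroup.zpowers w)) ⊆
      Finset.univ.filter (fun a : P => a ^ p = 1) := by
    intro a ha
    simp only [Finset.mem_filter, Finset.mem_univ, true_and] at ha ⊢
    obtain ⟨j, rfl⟩ := Subgroup.mem_zpowers_iff.mp ha
    rw [← zpow_natCast, ← zpow_mul, mul_comm, zpow_mul, zpow_natCast, ← hw, pow_orderOf_eq_one,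
      one_zpow]
  have hcard : (Finset.univ.filter (fun a : P => a ∈ Subgroup.zpowers w)).card = p := by
    rw [← hw, ← Nat.card_zpowers, Nat.card_eq_fintype_card, Fintype.card_subtype]
  have heq := Finset.eq_of_subset_of_card_le hsub (by rw [hcard]; exact hle)
  have hu' : u ∈ Finset.univ.filter (fun a : P => a ^ p = 1) := by simp [hu]
  rw [← heq] at hu'
  simpa using hu'

/-- An element of order prime to `p` normalizing an abelian `p`-subgroup `P` and centralizing its
elements of order dividing `p` centralizes `P`. -/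
theorem commute_of_commute_omega {G : Type*} [Group G] {p : ℕ} [Fact p.Prime] {P : Subgroup G}
    (hP : IsPGroup p P) (hab : ∀ a ∈ P, ∀ b ∈ P, Commute a b) {g : G}
    (hg : g ∈ Subgroup.normalizer (P : Set G)) (hcop : (orderOf g).Coprime p)
    (hom : ∀ u ∈ P, u ^ p = 1 → Commute g u) : ∀ u ∈ P, Commute g u := by
  have key : ∀ i : ℕ, ∀ u ∈ P, u ^ p ^ i = 1 → Commute g u := by
    intro i
    induction i with
    | zero =>
      intro u _ hu
      rw [pow_zero, pow_one] at hu
      rw [hu]; exact Commute.one_right g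
    | succ i ih =>
      intro u huP hu
      have hguP : g * u * g⁻¹ ∈ P := (Subgroup.mem_normalizer_iff.mp hg u).mp huP
      have hcP : g * u * g⁻¹ * u⁻¹ ∈ P := P.mul_mem hguP (P.inv_mem huP)
      have h1 : Commute g (u ^ p ^ i) := by
        apply hom _ (P.pow_mem huP _)
        rw [← pow_mul, ← pow_succ]; exact hu
      have hc1 : (g * u * g⁻¹ * u⁻¹) ^ p ^ i = 1 := by
        rw [(hab _ hguP _ (P.inv_mem huP)).mul_pow, conj_pow, inv_pow]
        have : g * u ^ p ^ i * g⁻¹ = u ^ p ^ i := by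
          rw [h1.eq]; group
        rw [this, mul_inv_cancel]
      have h2 : Commute g (g * u * g⁻¹ * u⁻¹) := ih _ hcP hc1
      exact commute_of_quadratic hP hcop hcP h2
  intro u hu
  obtain ⟨k, hk⟩ := hP ⟨u, hu⟩
  have hk' : u ^ p ^ k = 1 := by
    have := congrArg Subtype.val hk
    simpa using this
  exact key k u hu hk'

/-- In a cyclic `p`-subgroup `P`, an element commuting with a nontrivial `x ∈ P` commutes with all
elements of `P` of order dividing `p`. -/
theorem commute_omega_of_cyclic {G : Type*} [Group G] {p : ℕ} [hp : Fact p.Prime] {P : Subgroup G}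
    [Finite P] (hP : IsPGroup p P) (hcyc : IsCyclic P) {x g : G} (hxP : x ∈ P) (hx1 : x ≠ 1)
    (hgx : Commute g x) : ∀ u ∈ P, u ^ p = 1 → Commute g u := by
  intro u hu hup
  obtain ⟨k, hk⟩ := (IsPGroup.iff_orderOf.mp hP) ⟨x, hxP⟩
  rw [Subgroup.orderOf_mk] at hk
  have hk0 : k ≠ 0 := by
    rintro rfl
    rw [pow_zero, orderOf_eq_one_iff] at hk
    exact hx1 hk
  obtain ⟨j, rfl⟩ := Nat.exists_eq_succ_of_ne_zero hk0
  have hw : orderOf (x ^ p ^ j) = p := by
    rw [orderOf_pow' x (pow_ne_zero j hp.1.ne_zero), hk, Nat.gcd_eq_right (pow_dvd_pow p (Nat.le_succ j)),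
      pow_succ, Nat.mul_div_cancel_left _ (pow_pos hp.1.pos j)]
  have hw' : orderOf (⟨x ^ p ^ j, P.pow_mem hxP _⟩ : P) = p := by
    rw [Subgroup.orderOf_mk]; exact hw
  have hup' : (⟨u, hu⟩ : P) ^ p = 1 := Subtype.ext (by simpa using hup)
  have hmem := mem_zpowers_of_pow_eq_one_of_cyclic hp.1.pos hw' hup'
  obtain ⟨i, hi⟩ := Subgroup.mem_zpowers_iff.mp hmem
  have hi' : (x ^ p ^ j) ^ i = u := by
    have := congrArg Subtype.val hi
    simpa using this
  rw [← hi']
  exact (hgx.pow_right _).zpow_right _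

/-- An isolated-type criterion: if every element of `N_G(P)` commutes with a fixed nontrivial element
`x` of a cyclic Sylow `p`-subgroup `P`, then `N_G(P) ≤ C_G(P)`. -/
theorem normalizer_le_centralizer_of_cyclic {G : Type*} [Group G] [Finite G] {p : ℕ}
    [hp : Fact p.Prime] (P : Sylow p G) (hcyc : IsCyclic (P : Subgroup G)) {x : G}
    (hxP : x ∈ (P : Subgroup G)) (hx1 : x ≠ 1)
    (hN : ∀ g ∈ Subgroup.normalizer ((P : Subgroup G) : Set G), Commute g x) :
    Subgroup.normalizer ((P : Subgroup G) : Set G) ≤ Subgroup.centralizer ((P : Subgroup G) : Set G) := by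
  have hab : ∀ a ∈ (P : Subgroup G), ∀ b ∈ (P : Subgroup G), Commute a b := by
    obtain ⟨t, ht⟩ := IsCyclic.exists_generator (α := (P : Subgroup G))
    intro a ha b hb
    obtain ⟨i, hi⟩ := Subgroup.mem_zpowers_iff.mp (ht ⟨a, ha⟩)
    obtain ⟨j, hj⟩ := Subgroup.mem_zpowers_iff.mp (ht ⟨b, hb⟩)
    have hi' : (t : G) ^ i = a := by simpa using congrArg Subtype.val hi
    have hj' : (t : G) ^ j = b := by simpa using congrArg Subtype.val hj
    rw [← hi', ← hj']
    exact zpow_mul_comm _ _ _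
  intro g hg
  obtain ⟨j, m, hm, hjm⟩ := Nat.exists_eq_pow_mul_and_not_dvd (orderOf_pos g).ne' p hp.1.ne_one
  have hcopjm : Nat.Coprime (p ^ j) m :=
    Nat.Coprime.pow_left j ((Nat.Prime.coprime_iff_not_dvd hp.1).mpr hm)
  have h1 : g ^ p ^ j ∈ Subgroup.centralizer ((P : Subgroup G) : Set G) := by
    have hord : orderOf (g ^ p ^ j) = m := by
      rw [orderOf_pow' g (pow_ne_zero j hp.1.ne_zero), hjm, Nat.gcd_eq_right (dvd_mul_right _ _)]
      exact Nat.mul_div_cancel_left m (pow_pos hp.1.pos j)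
    have hcop : (orderOf (g ^ p ^ j)).Coprime p := by
      rw [hord]; exact ((Nat.Prime.coprime_iff_not_dvd hp.1).mpr hm).symm
    have hgN : g ^ p ^ j ∈ Subgroup.normalizer ((P : Subgroup G) : Set G) :=
      (Subgroup.normalizer ((P : Subgroup G) : Set G)).pow_mem hg _
    have hom := commute_omega_of_cyclic P.isPGroup' hcyc hxP hx1 (hN _ hgN)
    have hall := commute_of_commute_omega P.isPGroup' hab hgN hcop hom
    rw [Subgroup.mem_centralizer_iff]
    intro u hu
    exact (hall u hu).eq.symm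
  have h2 : g ^ m ∈ Subgroup.centralizer ((P : Subgroup G) : Set G) := by
    have hord : orderOf (g ^ m) = p ^ j := by
      have hm0 : m ≠ 0 := by rintro rfl; exact hm (dvd_zero p)
      rw [orderOf_pow' g hm0, hjm, Nat.gcd_eq_right (dvd_mul_left _ _)]
      exact Nat.mul_div_cancel _ (Nat.pos_of_ne_zero hm0)
    have hzp : IsPGroup p (Subgroup.zpowers (g ^ m)) :=
      IsPGroup.of_card (n := j) (by rw [Nat.card_zpowers, hord])
    have hgN : g ^ m ∈ Subgroup.normalizer ((P : Subgroup G) : Set G) :=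
      (Subgroup.normalizer ((P : Subgroup G) : Set G)).pow_mem hg _
    have hmem : g ^ m ∈ Subgroup.zpowers (g ^ m) ⊓ Subgroup.normalizer ((P : Subgroup G) : Set G) :=
      Subgroup.mem_inf.mpr ⟨Subgroup.mem_zpowers _, hgN⟩
    have hmem2 : g ^ m ∈ Subgroup.zpowers (g ^ m) ⊓ (P : Subgroup G) := by
      rw [← hzp.inf_normalizer_sylow P]; exact hmem
    have hgP : g ^ m ∈ (P : Subgroup G) := (Subgroup.mem_inf.mp hmem2).2
    rw [Subgroup.mem_centralizer_iff]
    intro u hu
    exact (hab u hu _ hgP).eq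
  exact mem_of_pow_mem_of_coprime _ hcopjm h1 h2

end Cfsg.Agent.Lib.helper55
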