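import Mathlib
import Cfsg.Agent.Lib.helper68.HallPet

/-!
S5238J (architect helper52), piece J9 (`jp_nontop_index`), claimed by helper55.
Self-contained: carries prefixed copies of the J4 and J5 statements.
-/

set_option autoImplicit false

namespace Cfsg.Agent.Lib.helper52.PearlJ

open Cfsg.Agent.Lib.helper68

/-- The J4 statement (prefixed copy, helper55). -/
theorem h55_jp_gam_two_le {G : Type*} [Group G] [Finite G] (p : ℕ) [Fact p.Prime] (hGp : IsPGroup p G)
    (M : Subgroup G) (hidx : Nat.card G = p * Nat.card M) : gam G 2 ≤ M := by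
  have hp : p.Prime := Fact.out
  have hM0 : 0 < Nat.card M := Nat.card_pos
  have hMidx : M.index = p := by
    have h1 := M.card_mul_index
    rw [hidx] at h1
    have h2 : Nat.card M * M.index = Nat.card M * p := by rw [h1]; ring
    exact Nat.eq_of_mul_eq_mul_left hM0 h2
  have hminFac : (Nat.card G).minFac = p := by
    obtain ⟨k, hk⟩ := IsPGroup.iff_card.mp hGp
    have hk0 : k ≠ 0 := by
      rintro rfl
      rw [pow_zero] at hk
      rw [hk] at hidx
      have h3 := hp.two_le
      nlinarith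
    rw [hk, Nat.pow_minFac hk0, hp.minFac_eq]
  have hN : M.Normal := Subgroup.normal_of_index_eq_minFac_card (by rw [hMidx, hminFac])
  have hcardQ : Nat.card (G ⧸ M) = p := hMidx
  haveI : IsCyclic (G ⧸ M) := isCyclic_of_prime_card hcardQ
  letI : CommGroup (G ⧸ M) := IsCyclic.commGroup
  have h2 := Abelianization.commutator_subset_ker (QuotientGroup.mk' M)
  rw [QuotientGroup.ker_mk'] at h2
  show (⊤ : Subgroup G).lowerCentralSeries (2 - 1) ≤ M
  rw [show (2 - 1 : ℕ) = 1 from rfl, Subgroup.top_lowerCentralSeries_one]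
  exact h2

/-- The J5 statement (prefixed copy, helper55). -/
theorem h55_jp_inter_le {G : Type*} [Group G] [Finite G] (K A B : Subgroup G) (hBA : B ≤ A) (c : ℕ)
    (hidx : Nat.card A = c * Nat.card B) : Nat.card ↥(K ⊓ A) ≤ c * Nat.card ↥(K ⊓ B) := by
  have hB0 : 0 < Nat.card B := Nat.card_pos
  have hA0 : 0 < Nat.card A := Nat.card_pos
  have h1 : Nat.card B * B.relIndex A = Nat.card A := by
    have h := Subgroup.relIndex_mul_relIndex ⊥ B A bot_le hBA
    rwa [Subgroup.relIndex_bot_left, Subgroup.relIndex_bot_left] at h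
  have hc : B.relIndex A = c := by
    rw [hidx] at h1
    have h2 : Nat.card B * B.relIndex A = Nat.card B * c := by rw [h1]; ring
    exact Nat.eq_of_mul_eq_mul_left hB0 h2
  have hc0 : c ≠ 0 := by
    rintro rfl
    rw [zero_mul] at hidx
    omega
  have hle : K ⊓ B ≤ K ⊓ A := inf_le_inf_left K hBA
  have h2 : Nat.card ↥(K ⊓ B) * (K ⊓ B).relIndex (K ⊓ A) = Nat.card ↥(K ⊓ A) := by
    have h := Subgroup.relIndex_mul_relIndex ⊥ (K ⊓ B) (K ⊓ A) bot_le hle
    rwa [Subgroup.relIndex_bot_left, Subgroup.relIndex_bot_left] at h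
  have h3 : (K ⊓ B).relIndex (K ⊓ A) ≤ c := by
    have e1 : K ⊓ B = (K ⊓ A) ⊓ B := by
      rw [inf_assoc, inf_eq_right.mpr hBA]
    have e2 : (K ⊓ B).relIndex (K ⊓ A) = B.relIndex (K ⊓ A) := by
      rw [e1, Subgroup.inf_relIndex_left]
    rw [e2, ← hc]
    apply Subgroup.relIndex_le_of_le_right inf_le_right
    rw [hc]
    exact hc0
  calc Nat.card ↥(K ⊓ A) = Nat.card ↥(K ⊓ B) * (K ⊓ B).relIndex (K ⊓ A) := h2.symm
    _ ≤ Nat.card ↥(K ⊓ B) * c := Nat.mul_le_mul_left _ h3
    _ = c * Nat.card ↥(K ⊓ B) := mul_comm _ _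

/-- J9 -/
theorem jp_nontop_index {G : Type*} [Group G] [Finite G] (p : ℕ) [Fact p.Prime] (n : ℕ)
    (hG : Nat.card G = p ^ n) (hn : 2 ≤ n) (hP2 : Nat.card (gam G 2) = p ^ (n - 2))
    (H : Subgroup G) (hH : H ≠ ⊤) : Nat.card H ≤ p * Nat.card ↥(H ⊓ gam G 2) := by
  have hp : p.Prime := Fact.out
  have hGp : IsPGroup p G := IsPGroup.of_card hG
  obtain ⟨k, hk⟩ := IsPGroup.iff_card.mp (hGp.to_subgroup H)
  have hlt : Nat.card H < Nat.card G := by
    by_contra hge
    push Not at hge
    have hle : Nat.card H ≤ Nat.card G := Subgroup.card_le_card_group H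
    exact hH (Subgroup.eq_top_of_card_eq H (le_antisymm hle hge))
  have hkn : k < n := by
    rw [hk, hG] at hlt
    exact (Nat.pow_lt_pow_iff_right hp.one_lt).mp hlt
  obtain ⟨M, hMcard, hHM⟩ := Sylow.exists_subgroup_card_pow_prime_le p (n := k) (m := n - 1)
    (by rw [hG]; exact pow_dvd_pow p (by omega)) H hk (by omega)
  have hidx : Nat.card G = p * Nat.card M := by
    rw [hG, hMcard, ← pow_succ']
    congr 1
    omega
  have hgamM : gam G 2 ≤ M := h55_jp_gam_two_le p hGp M hidx
  have hMg : Nat.card M = p * Nat.card (gam G 2) := by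
    rw [hMcard, hP2, ← pow_succ']
    congr 1
    omega
  have h5 := h55_jp_inter_le H M (gam G 2) hgamM p hMg
  rwa [inf_eq_left.mpr hHM] at h5

end Cfsg.Agent.Lib.helper52.PearlJ
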