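import Mathlib
import Cfsg.Prelude.Def_OddOrderLocal

/-!
# S1435 (B-G "P2-type signalizer"): shared context structures

`Basic M K U Ms` : the facts about the sigma-decomposition `(M, K, U)` with `K ≠ 1`, `U ≠ 1` and the
partner maximal subgroup `Ms` that the pieces of S1435 use.
`HCtx K U H` : the facts about the maximal subgroup `H ≥ U ⊔ K`.
-/

set_option autoImplicit false

namespace Cfsg.Agent.Lib.helper55.P2

open Cfsg Subgroup

variable {G : Type*} [Group G]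

/-- Facts about `(M, K, U)` and the partner `Ms`. -/
structure Basic (M K U Ms : Subgroup G) : Prop where
  hM : IsCoatom M
  hMs : IsCoatom Ms
  hKU : IsSigmaDecomposition M K U
  u1 : U ≠ ⊥
  kprime : (Nat.card K).Prime
  uab : ∀ a ∈ U, ∀ b ∈ U, a * b = b * a
  ureg : ∀ k ∈ K, k ≠ 1 → U ⊓ centralizer ({k} : Set G) = ⊥
  uprime : ∀ q : ℕ, q.Prime → q ∣ Nat.card U → q ∉ sigma M ∧ q ∉ kappa M
  kσs : K ≤ sigmaCore Ms
  cK : centralizer (K : Set G) ≤ Ms ∧
    ∀ L : Subgroup G, IsCoatom L → centralizer (K : Set G) ≤ L → L = Ms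
  ti : ∀ g : G, g ∉ Ms → K ⊓ Ms.map (MulAut.conj g).toMonoidHom = ⊥
  hZ : M ⊓ Ms = K ⊔ (sigmaCore M ⊓ centralizer (K : Set G))
  nil : Group.IsNilpotent (sigmaCore M)
  ksH : IsPiHallOf (kappa Ms) (sigmaCore M ⊓ centralizer (K : Set G)) Ms
  pσs : Nat.card K ∈ sigma Ms

/-- Facts about a maximal subgroup `H ≥ U ⊔ K` (with `p = |K|`). -/
structure HCtx (K U H : Subgroup G) : Prop where
  hH : IsCoatom H
  hUH : U ≤ H
  hKH : K ≤ H
  pσ : Nat.card K ∉ sigma H
  hκ : kappa H = ∅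
  hCK : sigmaCore H ⊓ centralizer (K : Set G) = ⊥

end Cfsg.Agent.Lib.helper55.P2
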