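import Cfsg.Agent.Lib.helper42.FGDefs
import Cfsg.Agent.S0111

/-!
Racer copy (helper55) of leaf F3 (`final_contra`) of the S1915 split (architect helper42):
the Thompson transfer lemma (landed S0111) against an isolated central involution.
-/

set_option autoImplicit false

namespace Cfsg.Agent.Lib.helper42.FG

variable {G : Type*} [Group G] [Finite G]

/-- F3 (racer copy, helper55) -/
theorem h55_final_contra {A S : Subgroup G} (hperf : commutator ↥A = ⊤) (hSA : S ≤ A)
    (hSyl : Nat.card S = 2 ^ (Nat.card A).factorization 2) {z : G} (hz : ZData S z)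
    (hiso : ∀ g ∈ A, g * z * g⁻¹ ∈ S → g * z * g⁻¹ = z)
    (Q : Subgroup G) (hQS : Q ≤ S) (hQi : Q.relIndex S = 2) (hzQ : z ∈ Q)
    (hQ : ∀ q ∈ Q, q ^ 2 = 1 → q = 1 ∨ q = z)
    (hc : ∃ E : Subgroup G, E ≤ S ∧ El E ∧ 2 < Nat.card E) : False := by
  classical
  obtain ⟨E, hES, hEl, hEc⟩ := hc
  -- an involution of `E` outside `Q`
  obtain ⟨s, hsE, hsQ⟩ : ∃ s ∈ E, s ∉ Q := by
    by_contra hcon
    push Not at hcon
    have hsub : (E : Set G) ⊆ {1, z} := by
      intro e he
      rcases hQ e (hcon e he) (hEl.2 e he) with h | h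
      · left; exact h
      · right; exact h
    have h1 : Nat.card E ≤ 2 := by
      have h2 : Nat.card E = (E : Set G).ncard := rfl
      rw [h2]
      have h3 : ({1, z} : Set G).ncard ≤ 2 := by
        refine (Set.ncard_insert_le 1 {z}).trans ?_
        rw [Set.ncard_singleton]
      exact (Set.ncard_le_ncard hsub (Set.toFinite _)).trans h3
    omega
  have hs2 : s ^ 2 = 1 := hEl.2 s hsE
  have hs1 : s ≠ 1 := fun h => hsQ (h ▸ Q.one_mem)
  have hsS : s ∈ S := hES hsE
  have hsA : s ∈ A := hSA hsS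
  -- the Sylow 2-subgroup of `↥A`
  have hcard : Nat.card (S.subgroupOf A) = 2 ^ (Nat.card A).factorization 2 := by
    rw [← hSyl]
    exact Nat.card_congr (Subgroup.subgroupOfEquivOfLe hSA).toEquiv
  let P : Sylow 2 ↥A := Sylow.ofCard (S.subgroupOf A) hcard
  have hP : (P : Subgroup ↥A) = S.subgroupOf A := rfl
  have hQP : Q.subgroupOf A ≤ (P : Subgroup ↥A) := by
    rw [hP]
    intro x hx
    exact Subgroup.mem_subgroupOf.mpr (hQS (Subgroup.mem_subgroupOf.mp hx))
  have hQi' : (Q.subgroupOf A).relIndex (P : Subgroup ↥A) = 2 := by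
    rw [hP, Subgroup.relIndex_subgroupOf hSA]
    exact hQi
  have hu : orderOf (⟨s, hsA⟩ : ↥A) = 2 := by
    apply orderOf_eq_prime
    · exact Subtype.ext (by simpa using hs2)
    · intro h
      exact hs1 (by simpa using congrArg Subtype.val h)
  rcases Cfsg.Agent.S0111.result P (Q.subgroupOf A) hQP hQi' ⟨s, hsA⟩ hu
      (by rw [hP]; exact Subgroup.mem_subgroupOf.mpr hsS)
      (by rw [Subgroup.mem_subgroupOf]; exact hsQ) with ⟨M, hMn, hMi, huM⟩ | ⟨g, hg⟩
  · apply huM
    have hle : commutator ↥A ≤ M := by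
      rw [commutator_def, Subgroup.commutator_le]
      intro a _ b _
      rw [commutatorElement_def, Subgroup.mul_mem_iff_of_index_two hMi,
        Subgroup.mul_mem_iff_of_index_two hMi, Subgroup.mul_mem_iff_of_index_two hMi,
        inv_mem_iff, inv_mem_iff]
      tauto
    exact hle (hperf ▸ Subgroup.mem_top _)
  · rw [Subgroup.mem_subgroupOf] at hg
    have hg' : (g : G) * s * (g : G)⁻¹ ∈ Q := by simpa using hg
    have hsq : ((g : G) * s * (g : G)⁻¹) ^ 2 = 1 := by
      rw [conj_pow, hs2]; simp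
    rcases hQ _ hg' hsq with h | h
    · apply hs1
      have h3 := congrArg (fun t => (g : G)⁻¹ * t * (g : G)) h
      simpa [mul_assoc] using h3
    · have hsz : s = (g : G)⁻¹ * z * ((g : G)⁻¹)⁻¹ := by
        rw [← h]; group
      have h4 := hiso (g : G)⁻¹ (A.inv_mem g.2) (by rw [← hsz]; exact hsS)
      apply hsQ
      rw [hsz, h4]
      exact hzQ

end Cfsg.Agent.Lib.helper42.FG
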