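import Mathlib
import Cfsg.Agent.Lib.helper55.BGTau1
import Cfsg.Agent.Lib.helper90.BG1428Defs

/-!
# S1428 (B-G 13.4), piece B1 of `tools/S1428_SPEC.md`: beta-forcing

`beta_forcing` has the exact statement of the skeleton (the hypotheses `h18`, `h20` are not
needed); `beta_forcing'` is the same without them.
-/

set_option autoImplicit false

namespace Cfsg.Agent.Lib.helper55.BG1428

open Cfsg Cfsg.Agent.Lib.helper90.BG1428

variable {G : Type*} [Group G]

theorem beta_forcing' [Finite G] (hG : IsMinSimpleOddOrder G) : B1Hyp G := by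
  intro M H hM hH _ p hpM hpH P hPc hPM hPH x hx1 hxM hxH hxP
  refine Cfsg.Agent.Lib.helper55.BGJ.tau1_sigma_mem_beta hG hM hH hpM hpH hPM hPH hPc hx1 hxM hxH ?_
  rw [Subgroup.mem_centralizer_iff]
  intro a ha
  exact (hxP a ha).symm

theorem beta_forcing [Finite G] (hG : IsMinSimpleOddOrder G) (_h18 : H18 G) (_h20 : H20 G) :
    B1Hyp G :=
  beta_forcing' hG

end Cfsg.Agent.Lib.helper55.BG1428
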