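import Mathlib
import Cfsg.Agent.Lib.helper55.BGTau1

/-!
# S1428 (B-G 13.4), piece (J) in the form used by the final assembly

`tau1_inf_commutator_eq_bot`: `p ∈ τ₁(M) ∩ σ(H)`, `p ∉ α(H)` (or just `p ∉ β(H)`), `P ≤ M` of order
`p` with `N_G(P) ≤ H`.  Then `M_σ ∩ C(P) ∩ H' = 1`.
-/

set_option autoImplicit false

namespace Cfsg.Agent.Lib.helper55.BGJ

open Cfsg Subgroup

variable {G : Type*} [Group G]

theorem tau1_inf_commutator_eq_bot_of_not_beta [Finite G] (hG : IsMinSimpleOddOrder G)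
    {M H : Subgroup G} (hM : IsCoatom M) (hH : IsCoatom H) {p : ℕ} (hpM : p ∈ tau1 M)
    {P : Subgroup G} (hPM : P ≤ M) (hPc : Nat.card P = p)
    (hNH : normalizer (P : Set G) ≤ H) (hpH : p ∈ sigma H) (hpβ : p ∉ beta H) :
    sigmaCore M ⊓ centralizer (P : Set G) ⊓ ⁅H, H⁆ = ⊥ := by
  rw [eq_bot_iff]
  intro x hx
  rw [Subgroup.mem_bot]
  by_contra hx1
  exact hpβ (tau1_sigma_mem_beta hG hM hH hpM hpH hPM (le_normalizer.trans hNH) hPc hx1
    hx.1.1 hx.2 hx.1.2)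

theorem tau1_inf_commutator_eq_bot [Finite G] (hG : IsMinSimpleOddOrder G)
    {M H : Subgroup G} (hM : IsCoatom M) (hH : IsCoatom H) {p : ℕ} (hpM : p ∈ tau1 M)
    {P : Subgroup G} (hPM : P ≤ M) (hPc : Nat.card P = p)
    (hNH : normalizer (P : Set G) ≤ H) (hpH : p ∈ sigma H) (hpα : p ∉ alpha H) :
    sigmaCore M ⊓ centralizer (P : Set G) ⊓ ⁅H, H⁆ = ⊥ :=
  tau1_inf_commutator_eq_bot_of_not_beta hG hM hH hpM hPM hPc hNH hpH (fun h => hpα h.1)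

end Cfsg.Agent.Lib.helper55.BGJ
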