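import Cfsg.Agent.Lib.helper42.FGDefs
import Cfsg.Agent.Lib.helper10.FGLEMM
import Cfsg.Agent.Lib.helper73.FGCARD

/-!
Racer copy (helper55) of leaf T2A (`zdata`) of the S1915 split (architect helper42):
the involution `z` of the cyclic subgroup `B` is the unique central involution of `S`,
lies in every four-subgroup of `S`, and every four-subgroup of `S` is self-centralizing in `S`.
-/

set_option autoImplicit false

namespace Cfsg.Agent.Lib.helper42.FG

variable {G : Type*} [Group G] [Finite G]

theorem h55_mul_mem_iff_rel2 {B S : Subgroup G} (h : B.relIndex S = 2) {a b : G} (ha : a ∈ S)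
    (hb : b ∈ S) : a * b ∈ B ↔ (a ∈ B ↔ b ∈ B) := by
  have h1 := Subgroup.mul_mem_iff_of_index_two (H := B.subgroupOf S) h (a := ⟨a, ha⟩)
    (b := ⟨b, hb⟩)
  simpa [Subgroup.mem_subgroupOf] using h1

theorem h55_card_le_two_of_sub {E : Subgroup G} {a : G} (h : ∀ e ∈ E, e = 1 ∨ e = a) :
    Nat.card E ≤ 2 := by
  have hsub : (E : Set G) ⊆ {1, a} := by
    intro e he
    rcases h e he with h1 | h1
    · left; exact h1
    · right; exact h1
  have h2 : Nat.card E = (E : Set G).ncard := rfl
  rw [h2]
  have h3 : ({1, a} : Set G).ncard ≤ 2 := by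
    refine (Set.ncard_insert_le 1 {a}).trans ?_
    rw [Set.ncard_singleton]
  exact (Set.ncard_le_ncard hsub (Set.toFinite _)).trans h3

theorem h55_cyc_comm {B : Subgroup G} (hc : IsCyclic B) {x y : G} (hx : x ∈ B) (hy : y ∈ B) :
    x * y = y * x := by
  haveI := hc
  have h1 := (IsCyclic.commGroup (α := ↥B)).mul_comm ⟨x, hx⟩ ⟨y, hy⟩
  exact congrArg Subtype.val h1

theorem h55_le_normalizer_of_conj (T C : Subgroup G)
    (h : ∀ t ∈ T, ∀ g ∈ C, t * g * t⁻¹ ∈ C) : T ≤ Subgroup.normalizer (C : Set G) := by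
  intro t ht
  rw [Subgroup.mem_normalizer_iff]
  intro g
  constructor
  · intro hg
    exact h t ht g hg
  · intro hg
    have h1 := h t⁻¹ (T.inv_mem ht) _ hg
    have h2 : t⁻¹ * (t * g * t⁻¹) * t⁻¹⁻¹ = g := by group
    rw [h2] at h1
    exact h1

/-- T2A (racer copy, helper55) -/
theorem h55_zdata {A S U : Subgroup G} (h : Cfg A S U) {B : Subgroup G} (hB : BData S U B) :
    ∃ z : G, z ∈ B ∧ ZData S z := by
  classical
  haveI : Fact (Nat.Prime 2) := ⟨Nat.prime_two⟩
  have hBS := hB.hBS
  have hcyc := hB.hcyc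
  have hS4 : 4 < Nat.card S := card_S_gt h
  have hcard : Nat.card B * 2 = Nat.card S := by
    have h1 := Subgroup.relIndex_mul_relIndex ⊥ B S bot_le hBS
    rw [Subgroup.relIndex_bot_left, Subgroup.relIndex_bot_left, hB.hidx] at h1
    exact h1
  have h2S : IsPGroup 2 S := IsPGroup.of_card h.hSyl
  have h2B : IsPGroup 2 B := h2S.to_le hBS
  -- the involution of `B`
  have hdvd : 2 ∣ Nat.card B := by
    obtain ⟨n, hn⟩ := IsPGroup.iff_card.mp h2B
    rw [hn]
    have hn1 : n ≠ 0 := by
      rintro rfl
      rw [hn] at hcard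
      omega
    exact dvd_pow_self 2 hn1
  obtain ⟨x, hx⟩ := exists_prime_orderOf_dvd_card' (G := ↥B) 2 hdvd
  have hzo : orderOf (x : G) = 2 := by rw [Subgroup.orderOf_coe]; exact hx
  obtain ⟨z, hzdef⟩ : ∃ z : G, z = (x : G) := ⟨_, rfl⟩
  rw [← hzdef] at hzo
  have hzB : z ∈ B := by rw [hzdef]; exact x.2
  have hz1 : z ≠ 1 := by
    intro h0
    rw [h0, orderOf_one] at hzo
    omega
  have hzsq : z ^ 2 = 1 := by
    rw [← hzo]; exact pow_orderOf_eq_one z
  have huniq : ∀ q ∈ B, q ^ 2 = 1 → q = 1 ∨ q = z := fun q hq hq2 =>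
    h10_cyc_sq B hcyc z hzB hz1 hzsq q hq hq2
  -- `z` is central in `S`
  have hzc : ∀ y ∈ S, y * z = z * y := by
    intro y hy
    have hyn : y ∈ Subgroup.normalizer (B : Set G) := hB.hSB hy
    have h1 : y * z * y⁻¹ ∈ B := (Subgroup.mem_normalizer_iff.mp hyn z).mp hzB
    have h2 : (y * z * y⁻¹) ^ 2 = 1 := by rw [conj_pow, hzsq]; simp
    rcases huniq _ h1 h2 with h3 | h3
    · exfalso
      apply hz1
      have h4 := congrArg (fun t => y⁻¹ * t * y) h3
      simpa [mul_assoc] using h4
    · calc y * z = (y * z * y⁻¹) * y := by group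
        _ = z * y := by rw [h3]
  -- the centre of `S` is `{1, z}`
  have hzu : ∀ y ∈ S, (∀ x ∈ S, y * x = x * y) → y = 1 ∨ y = z := by
    intro y hy hyc
    by_contra hcon
    push Not at hcon
    obtain ⟨hy1, hyz⟩ := hcon
    have hyB : y ∈ B := hB.hself y hy (fun x hx => hyc x (hBS hx))
    obtain ⟨j, hj⟩ := (IsPGroup.iff_orderOf.mp h2S) ⟨y, hy⟩
    have hj' : orderOf y = 2 ^ j := by
      rw [← hj]; exact (Subgroup.orderOf_coe (⟨y, hy⟩ : ↥S))
    have hj2 : 2 ≤ j := by
      by_contra hlt
      push Not at hlt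
      have hy2 : y ^ 2 = 1 := by
        have hd : orderOf y ∣ 2 := by
          rw [hj']
          interval_cases j <;> simp
        exact orderOf_dvd_iff_pow_eq_one.mp hd
      rcases huniq y hyB hy2 with h3 | h3
      · exact hy1 h3
      · exact hyz h3
    have hb₀4 : orderOf (y ^ (2 ^ (j - 2))) = 4 := by
      rw [orderOf_pow_of_dvd (by positivity) (by rw [hj']; exact pow_dvd_pow 2 (by omega)), hj',
        Nat.pow_div (by omega) (by norm_num)]
      have h5 : j - (j - 2) = 2 := by omega
      rw [h5]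
    have hb₀B : y ^ (2 ^ (j - 2)) ∈ B := B.pow_mem hyB _
    have hb₀c : ∀ t ∈ S, t * y ^ (2 ^ (j - 2)) = y ^ (2 ^ (j - 2)) * t := by
      intro t ht
      have h6 : Commute t y := (hyc t ht).symm
      exact (h6.pow_right _).eq
    obtain ⟨X, hXS, hXall, hXEl, hXcard⟩ :=
      modular_omega S B hBS hcyc h2S hB.hidx hB.hself _ hb₀B hb₀4 hb₀c
    have hUX : U ≤ Subgroup.normalizer (X : Set G) := by
      apply h55_le_normalizer_of_conj
      intro u hu x hx
      apply hXall
      · exact (Subgroup.mem_normalizer_iff.mp (h.hUS hu) x).mp (hXS hx)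
      · rw [conj_pow, hXEl.2 x hx]; simp
    have h7 := h.ha X hXS hUX hXEl
    omega
  -- an element of `B` commuting with some `v ∈ S \ B` is central in `S`
  have hcen : ∀ v ∈ S, v ∉ B → ∀ t ∈ B, t * v = v * t → ∀ x ∈ S, t * x = x * t := by
    intro v hvS hvB t ht htv x hx
    by_cases hxB : x ∈ B
    · exact h55_cyc_comm hcyc ht hxB
    · have hxv : x * v ∈ B := (h55_mul_mem_iff_rel2 hB.hidx hx hvS).mpr (by tauto)
      have h1 : t * (x * v) = (x * v) * t := h55_cyc_comm hcyc ht hxv
      have h2 : t * x * v = x * t * v := by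
        calc t * x * v = t * (x * v) := by group
          _ = x * v * t := h1
          _ = x * (v * t) := by group
          _ = x * (t * v) := by rw [htv]
          _ = x * t * v := by group
      exact mul_right_cancel h2
  -- four-subgroups
  have h4 : ∀ V : Subgroup G, V ≤ S → IsKleinFour V →
      z ∈ V ∧ ∀ y ∈ S, (∀ v ∈ V, y * v = v * y) → y ∈ V := by
    intro V hVS hV
    have hVsq : ∀ v ∈ V, v ^ 2 = 1 := by
      intro v hv
      have h1 := IsKleinFour.exponent_two (G := ↥V)
      have h2 : (⟨v, hv⟩ : ↥V) ^ 2 = 1 := by rw [← h1]; exact Monoid.pow_exponent_eq_one _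
      have h3 := congrArg Subtype.val h2
      simpa using h3
    have hVcard : Nat.card V = 4 := IsKleinFour.card_four
    have hzV : z ∈ V := by
      by_contra hzV
      have hVB : ∀ e ∈ V, e ≠ 1 → e ∉ B := by
        intro e he he1 heB
        rcases huniq e heB (hVsq e he) with h3 | h3
        · exact he1 h3
        · exact hzV (h3 ▸ he)
      have hVne : V ≠ ⊥ := by
        intro h0
        rw [h0] at hVcard
        simp at hVcard
      rcases V.bot_or_exists_ne_one with h0 | ⟨a, haV, ha1⟩
      · exact hVne h0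
      · have hle : Nat.card V ≤ 2 := by
          apply h55_card_le_two_of_sub (a := a)
          intro e he
          by_cases he1 : e = 1
          · left; exact he1
          · right
            have haB := hVB a haV ha1
            have heB := hVB e he he1
            have hae : a * e ∈ B := (h55_mul_mem_iff_rel2 hB.hidx (hVS haV) (hVS he)).mpr (by tauto)
            have haeV : a * e ∈ V := V.mul_mem haV he
            have hae1 : a * e = 1 := by
              by_contra hne
              exact hVB _ haeV hne hae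
            have ha2 : a * a = 1 := by rw [← sq]; exact hVsq a haV
            have h8 : a * e = a * a := by rw [hae1, ha2]
            exact mul_left_cancel h8
        omega
    refine ⟨hzV, ?_⟩
    -- some `v ∈ V` outside `B`
    obtain ⟨v, hvV, hvB⟩ : ∃ v ∈ V, v ∉ B := by
      by_contra hcon
      push Not at hcon
      have hle : Nat.card V ≤ 2 := by
        apply h55_card_le_two_of_sub (a := z)
        intro e he
        exact huniq e (hcon e he) (hVsq e he)
      omega
    have hvS : v ∈ S := hVS hvV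
    intro y hy hyV
    by_cases hyB : y ∈ B
    · have hyc := hcen v hvS hvB y hyB (hyV v hvV)
      rcases hzu y hy hyc with h3 | h3
      · rw [h3]; exact V.one_mem
      · rw [h3]; exact hzV
    · have hyv : y * v ∈ B := (h55_mul_mem_iff_rel2 hB.hidx hy hvS).mpr (by tauto)
      have hcomm : (y * v) * v = v * (y * v) := by
        rw [← mul_assoc, ← hyV v hvV]
      have hyc := hcen v hvS hvB (y * v) hyv hcomm
      have hyvS : y * v ∈ S := S.mul_mem hy hvS
      have hyvV : y * v ∈ V := by
        rcases hzu (y * v) hyvS hyc with h3 | h3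
        · rw [h3]; exact V.one_mem
        · rw [h3]; exact hzV
      have h9 : y = (y * v) * v⁻¹ := by group
      rw [h9]
      exact V.mul_mem hyvV (V.inv_mem hvV)
  exact ⟨z, hzB, { hzS := hBS hzB, hz2 := hzo, hzc := hzc, hzu := hzu, h4 := h4 }⟩

end Cfsg.Agent.Lib.helper42.FG
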