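import Cfsg.Agent.Lib.helper3.GfHeis

/-!
Racer copy (helper55) of the leaf HCARD of the EXB sub-split of S4395 (architect helper3):
the order of the Heisenberg-type group `HG n L σ lam`.
-/

set_option autoImplicit false

namespace Cfsg.Agent.Lib.helper3.Gf

universe u

open HG

section
variable {n : ℕ} [NeZero n] {L : Type u} [Field L] {σ : L →+* L} {lam : L} [h : HData n L σ lam]

/-- HCARD (racer copy, helper55) : order of `HG`. -/
theorem h55_hcard_HG [Finite L] (hnorm : ∀ x : L, ∃ z, z + σ z = x * σ x) :
    Finite (HG n L σ lam) ∧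
    Nat.card (HG n L σ lam) = Nat.card L * Nat.card {z : L // z + σ z = 0} * n := by
  classical
  choose c hc using hnorm
  let e : HG n L σ lam ≃ L × {z : L // z + σ z = 0} × ZMod n :=
    { toFun := fun g => (g.x, ⟨g.z - c g.x, by rw [map_sub]; linear_combination g.hz - hc g.x⟩, g.k)
      invFun := fun t => ⟨t.1, t.2.1.1 + c t.1, t.2.2, by
        rw [map_add]; linear_combination t.2.1.2 + hc t.1⟩
      left_inv := fun g => by ext <;> simp
      right_inv := fun t => by
        obtain ⟨x, ⟨z, hz⟩, k⟩ := t
        simp }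
  have hfin : Finite (HG n L σ lam) := Finite.of_equiv _ e.symm
  refine ⟨hfin, ?_⟩
  rw [Nat.card_congr e, Nat.card_prod, Nat.card_prod, Nat.card_zmod, mul_assoc]

end

end Cfsg.Agent.Lib.helper3.Gf
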