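import Cfsg.Agent.Lib.helper3.GfHeis

/-!
Racer copy (helper55) of the leaf HNG of the EXB sub-split of S4395 (architect helper3):
`N = HN` consists of non-generators of the Heisenberg-type group `HG n L σ lam`.
-/

set_option autoImplicit false

namespace Cfsg.Agent.Lib.helper3.Gf

universe u

open HG

section
variable {n : ℕ} [NeZero n] {L : Type u} [Field L] {σ : L →+* L} {lam : L} [h : HData n L σ lam]

/-- HNG (racer copy, helper55) : `N` consists of non-generators. -/
theorem h55_hng (hnorm : ∀ x : L, ∃ z, z + σ z = x * σ x) (hH90 : ∀ z : L, z + σ z = 0 → ∃ x, x - σ x = z) :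
    NonGen (HN : Subgroup (HG n L σ lam)) := by
  intro S hS
  have hcen : ∀ m ∈ (HN : Subgroup (HG n L σ lam)), ∀ g : HG n L σ lam, g * m = m * g := by
    intro m hm g
    obtain ⟨hmx, hmk⟩ := (mem_HN m).mp hm
    ext
    · simp [hmx, hmk, pw_zero]
    · simp [hmx, hmk, pw_zero]
      ring
    · simp [hmk]
  have hN : (HN : Subgroup (HG n L σ lam)).Normal :=
    ⟨fun m hm g => by rw [hcen m hm g, mul_inv_cancel_right]; exact hm⟩
  have hdec : ∀ g : HG n L σ lam, ∃ s ∈ S, ∃ m ∈ (HN : Subgroup (HG n L σ lam)), g = s * m := by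
    intro g
    have hg : g ∈ S ⊔ HN := by rw [hS]; exact Subgroup.mem_top g
    rw [← SetLike.mem_coe, Subgroup.mul_normal] at hg
    obtain ⟨s, hs, m, hm, rfl⟩ := hg
    exact ⟨s, hs, m, hm, rfl⟩
  have hex : ∀ x : L, ∃ s ∈ S, s.x = x ∧ s.k = 0 := by
    intro x
    obtain ⟨z, hz⟩ := hnorm x
    obtain ⟨s, hs, m, hm, hg⟩ := hdec (⟨x, z, 0, hz⟩ : HG n L σ lam)
    obtain ⟨hmx, hmk⟩ := (mem_HN m).mp hm
    have h1 := congrArg HG.x hg
    have h2 := congrArg HG.k hg
    simp [hmx, hmk] at h1 h2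
    exact ⟨s, hs, h1.symm, h2.symm⟩
  have hle : (HN : Subgroup (HG n L σ lam)) ≤ S := by
    intro m hm
    obtain ⟨hmx, hmk⟩ := (mem_HN m).mp hm
    have hmz : m.z + σ m.z = 0 := by
      have := m.hz
      rw [hmx] at this
      simpa using this
    obtain ⟨x, hx⟩ := hH90 m.z hmz
    obtain ⟨s, hs, hsx, hsk⟩ := hex x
    obtain ⟨s', hs', hsx', hsk'⟩ := hex 1
    have hc : s * s' * s⁻¹ * s'⁻¹ = m := by
      ext
      · simp [hsx, hsk, hsx', hsk', hmx, pw_zero]
      · simp [hsx, hsk, hsx', hsk', pw_zero]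
        rw [← hx]
        ring
      · simp [hsk, hsk', hmk]
    rw [← hc]
    exact S.mul_mem (S.mul_mem (S.mul_mem hs hs') (S.inv_mem hs)) (S.inv_mem hs')
  rw [← hS]
  exact (sup_eq_left.mpr hle).symm

end

end Cfsg.Agent.Lib.helper3.Gf
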