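import Mathlib

/-!
Racer copy (helper55) of leaf FORM (`hci_form`) of the S5977I sub-split (architect helper99):
the `E`-bilinear form behind an `F`-bilinear symmetric form for which the scalars of `E` are
self-adjoint.
-/

set_option autoImplicit false

namespace Cfsg.Agent.Lib.helper99.HCI

/-- `c ↦ lam (c * ·)` is onto the `F`-dual of `E`, and injective. -/
theorem h55_dual_repr {F : Type*} [Field F] {E : Type*} [Field E] [Algebra F E]
    [FiniteDimensional F E] (lam : E →ₗ[F] F) (hlam : lam ≠ 0) :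
    (∀ ψ : E →ₗ[F] F, ∃ c : E, ∀ a, lam (c * a) = ψ a) ∧
      (∀ c c' : E, (∀ a, lam (c * a) = lam (c' * a)) → c = c') := by
  let Φ : E →ₗ[F] (E →ₗ[F] F) := (LinearMap.mul F E).compr₂ lam
  have hΦ : ∀ c a, Φ c a = lam (c * a) := fun c a => rfl
  have hinj : Function.Injective Φ := by
    rw [← LinearMap.ker_eq_bot, LinearMap.ker_eq_bot']
    intro c hc
    by_contra hc0
    apply hlam
    ext a
    have h1 := congrArg (fun ψ : E →ₗ[F] F => ψ (c⁻¹ * a)) hc
    simp only [hΦ, LinearMap.zero_apply] at h1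
    rw [← mul_assoc, mul_inv_cancel₀ hc0, one_mul] at h1
    simpa using h1
  have hfin : Module.finrank F E = Module.finrank F (E →ₗ[F] F) :=
    (Subspace.dual_finrank_eq (K := F) (V := E)).symm
  have hsurj : Function.Surjective Φ :=
    (LinearMap.injective_iff_surjective_of_finrank_eq_finrank hfin).mp hinj
  refine ⟨fun ψ => ?_, fun c c' h => ?_⟩
  · obtain ⟨c, hc⟩ := hsurj ψ
    exact ⟨c, fun a => by rw [← hΦ, hc]⟩
  · apply hinj
    ext a
    rw [hΦ, hΦ]
    exact h a

/-- FORM (racer copy, helper55) -/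
theorem h55_hci_form {F : Type*} [Field F] {E : Type*} [Field E] [Algebra F E] [FiniteDimensional F E]
    {V : Type*} [AddCommGroup V] [Module F V] [Module E V] [IsScalarTower F E V]
    (B : V →ₗ[F] V →ₗ[F] F) (hsymm : ∀ u v, B u v = B v u)
    (hnd : ∀ u, (∀ v, B u v = 0) → u = 0) (hsa : ∀ (a : E) (u v : V), B (a • u) v = B u (a • v))
    (lam : E →ₗ[F] F) (hlam : lam ≠ 0) :
    ∃ β : V →ₗ[E] V →ₗ[E] E, (∀ u v, β u v = β v u) ∧ (∀ u, (∀ v, β u v = 0) → u = 0) ∧
      ∀ u v, B u v = lam (β u v) := by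
  classical
  obtain ⟨hex, huniq⟩ := h55_dual_repr lam hlam
  -- the functional `a ↦ B (a • u) v`
  have hψ : ∀ u v : V, ∃ c : E, ∀ a : E, lam (c * a) = B (a • u) v := by
    intro u v
    let ψ : E →ₗ[F] F :=
      { toFun := fun a => B (a • u) v
        map_add' := fun a b => by rw [add_smul, map_add, LinearMap.add_apply]
        map_smul' := fun r a => by
          rw [smul_assoc, map_smul, LinearMap.smul_apply]; rfl }
    obtain ⟨c, hc⟩ := hex ψ
    exact ⟨c, fun a => hc a⟩
  choose f hf using hψ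
  have hchar : ∀ (u v : V) (c : E), (∀ a, lam (c * a) = B (a • u) v) → f u v = c := by
    intro u v c hc
    apply huniq
    intro a
    rw [hf, hc]
  have h1 : ∀ m₁ m₂ n, f (m₁ + m₂) n = f m₁ n + f m₂ n := by
    intro m₁ m₂ n
    apply hchar
    intro a
    rw [add_mul, map_add, hf, hf, smul_add, map_add, LinearMap.add_apply]
  have h2 : ∀ (c : E) m n, f (c • m) n = c • f m n := by
    intro c m n
    apply hchar
    intro a
    have h : c • f m n * a = f m n * (a * c) := by rw [smul_eq_mul]; ring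
    rw [h, hf, mul_smul]
  have h3 : ∀ m n₁ n₂, f m (n₁ + n₂) = f m n₁ + f m n₂ := by
    intro m n₁ n₂
    apply hchar
    intro a
    rw [add_mul, map_add, hf, hf, map_add]
  have h4 : ∀ (c : E) m n, f m (c • n) = c • f m n := by
    intro c m n
    apply hchar
    intro a
    have h : c • f m n * a = f m n * (c * a) := by rw [smul_eq_mul]; ring
    rw [h, hf, mul_smul, hsa]
  refine ⟨LinearMap.mk₂ E f h1 h2 h3 h4, ?_, ?_, ?_⟩
  · intro u v
    rw [LinearMap.mk₂_apply, LinearMap.mk₂_apply]
    apply hchar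
    intro a
    rw [hf, hsa, hsymm]
  · intro u hu
    apply hnd
    intro v
    have h5 := hf u v 1
    rw [one_smul, mul_one] at h5
    have h6 := hu v
    rw [LinearMap.mk₂_apply] at h6
    rw [← h5, h6, map_zero]
  · intro u v
    rw [LinearMap.mk₂_apply]
    have h5 := hf u v 1
    rw [one_smul, mul_one] at h5
    exact h5.symm

end Cfsg.Agent.Lib.helper99.HCI
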