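/-
Bender-Glauberman Theorem 14.2 (statement S1430), open item (O-a): shared definitions for the
proof of `NAHyp` (`Cfsg.Agent.Lib.helper71.BGRegNA.NAHyp`).

`NACtx` is the setting of `NAHyp`; `NABasic` and `NAMore` collect its first consequences
(S1408, S1417, S1418, S1419).  `naR M A = A ∩ C_G(M_σ)` is the subgroup `A₀` of order `r`.
-/
import Mathlib
import Cfsg.Prelude.Def_OddOrderLocal

set_option autoImplicit false
open Cfsg

namespace Cfsg.Agent.Lib.helper55.NA

variable {G : Type*} [Group G]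

/-- `A₀ = A ∩ C_G(M_σ)`. -/
abbrev naR (M A : Subgroup G) : Subgroup G :=
  A ⊓ Subgroup.centralizer (sigmaCore M : Set G)

/-- The setting of `NAHyp`. -/
structure NACtx (M E A P : Subgroup G) (r p : ℕ) [Fact r.Prime] : Prop where
  hM : IsCoatom M
  hE : IsComplIn E (sigmaCore M) M
  hr : r ∈ tau2 M
  hS : ∀ S : Sylow r G, ¬ IsMulCommutative (S : Subgroup G)
  hAE : A ≤ E
  hAe : IsElementaryAbelian r A
  hA2 : Nat.card A = r ^ 2
  hp : p ∈ tau1 M
  hPE : P ≤ E
  hPc : Nat.card P = p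
  hY : sigmaCore M ⊓ Subgroup.centralizer (P : Set G) ≠ ⊥
  hRP : naR M A ≤ Subgroup.centralizer (P : Set G)

/-- First consequences of `NACtx` (inside `M`). -/
structure NABasic (M E A P : Subgroup G) (r p : ℕ) : Prop where
  p_prime : p.Prime
  p_ne_r : p ≠ r
  tau2_eq : tau2 M = {r}
  A_normal : E ≤ Subgroup.normalizer (A : Set G)
  sub_A : ∀ X : Subgroup G, X ≤ E → Nat.card X = r → X ≤ A
  cent_A : Subgroup.centralizer (A : Set G) ≤ E
  norm_A : M ⊓ Subgroup.normalizer (A : Set G) = E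
  R_card : Nat.card ↥(naR M A) = r
  cent_R : Subgroup.centralizer ((naR M A : Subgroup G) : Set G) ≤ M
  norm_R : Subgroup.normalizer ((naR M A : Subgroup G) : Set G) ≤ M
  R_normal : M ≤ Subgroup.normalizer ((naR M A : Subgroup G) : Set G)
  P_not_cent : ¬ P ≤ Subgroup.centralizer (A : Set G)
  cent_AP : A ⊓ Subgroup.centralizer (P : Set G) = naR M A
  regular : ∀ X : Subgroup G, X ≤ E → Nat.card X = r → X ≠ naR M A →
    sigmaCore M ⊓ Subgroup.centralizer (X : Set G) = ⊥

/-- Further consequences of `NACtx` (not involving `P`). -/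
structure NAMore (M E A : Subgroup G) (r : ℕ) : Prop where
  omega : ∀ D : Subgroup G, D ≤ M → IsPGroup r D → A ≤ D → ∀ x ∈ D, x ^ r = 1 → x ∈ A
  rsub_comm : ∀ D : Subgroup G, D ≤ M → IsPGroup r D → IsMulCommutative D
  A_max : ∀ B : Subgroup G, IsElementaryAbelian r B → A ≤ B → B = A
  not_ideal : ¬ IsIdealPrime r G
  E_coprime : (Nat.card (sigmaCore M)).Coprime (Nat.card E)
  E_not_sigma : ∀ q : ℕ, q.Prime → q ∣ Nat.card E → q ∉ sigma M
  rank_one : ∀ q : ℕ, q.Prime → q ∉ sigma M → q ≠ r → PRankLE q 1 M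

end Cfsg.Agent.Lib.helper55.NA
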