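/-
S1430 (O-a), piece N1a: the first consequences `NABasic` of the setting `NACtx`
(S1417, S1418, S1419, S1428).
-/
import Mathlib
import Cfsg.Agent.S1418
import Cfsg.Agent.S1419
import Cfsg.Agent.S1428
import Cfsg.Agent.Lib.helper55.NADefs
import Cfsg.Agent.Lib.helper71.BGRegNA

set_option autoImplicit false
open Cfsg

namespace Cfsg.Agent.Lib.helper55.NA

variable {G : Type*} [Group G]

/-- PIECE N1a. -/
theorem na_basic [Finite G] (hG : IsMinSimpleOddOrder G) {M E A P : Subgroup G} {r p : ℕ}
    [Fact r.Prime] (h : NACtx M E A P r p) : NABasic M E A P r p := by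
  classical
  have hrp : r.Prime := Fact.out
  obtain ⟨hM, hE, hr, hS, hAE, hAe, hA2, hp, hPE, hPc, hY, hRP⟩ := h
  have h19 := Cfsg.Agent.S1419.result hG M hM E hE r hr hS A ⟨hAE, hAe, hA2⟩
  have h18 := Cfsg.Agent.S1418.result hG M hM E hE r hr A ⟨hAE, hAe, hA2⟩
  obtain ⟨htau2, ⟨hRcard, -⟩, hreg⟩ := h19
  obtain ⟨⟨hAn, hsubA⟩, ⟨hCA, hNA, -⟩, huniq⟩ := h18
  have hEM : E ≤ M := hE.1
  have hσM : sigmaCore M ≤ M := hE.2.1
  have hAM : A ≤ M := hAE.trans hEM
  have hpp : p.Prime := hp.1
  -- `M_σ` centralizes `R`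
  have hσR : sigmaCore M ≤ Subgroup.centralizer ((naR M A : Subgroup G) : Set G) := by
    intro u hu
    rw [Subgroup.mem_centralizer_iff]
    intro y hy
    exact (Subgroup.mem_centralizer_iff.mp (Subgroup.mem_inf.mp hy).2 u hu).symm
  have hσ1 : sigmaCore M ≠ ⊥ := by
    intro hbot
    apply hY
    rw [hbot]
    exact bot_inf_eq _
  have hRA : naR M A ≤ A := inf_le_left
  have hsing : sigmaCore M ⊓ Subgroup.centralizer ((naR M A : Subgroup G) : Set G) ≠ ⊥ := by
    rw [inf_eq_left.mpr hσR]
    exact hσ1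
  obtain ⟨hCR, hCRu⟩ := huniq (naR M A) hRA hRcard hsing
  have hR1 : naR M A ≠ ⊥ := by
    intro hbot
    have h1 : Nat.card ↥(naR M A) = 1 := by rw [hbot]; exact Subgroup.card_bot
    rw [hRcard] at h1
    exact hrp.one_lt.ne' h1
  have hNR : Subgroup.normalizer ((naR M A : Subgroup G) : Set G) ≤ M :=
    Cfsg.Agent.Lib.helper71.BGRegNA.normalizer_le_of_uniq hG M (naR M A) hM (hRA.trans hAM) hR1 hCRu
  -- `M` normalizes `R`
  have hMσn : M ≤ Subgroup.normalizer (sigmaCore M : Set G) :=
    Cfsg.Agent.Lib.helper71.BGA.le_normalizer_sigmaCore M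
  have hEnR : E ≤ Subgroup.normalizer ((naR M A : Subgroup G) : Set G) := by
    intro e he
    have hconj : ∀ f ∈ E, ∀ y ∈ naR M A, f * y * f⁻¹ ∈ naR M A := by
      intro f hf y hy
      obtain ⟨hyA, hyC⟩ := Subgroup.mem_inf.mp hy
      refine Subgroup.mem_inf.mpr ⟨(Subgroup.mem_normalizer_iff.mp (hAn hf) y).mp hyA, ?_⟩
      rw [Subgroup.mem_centralizer_iff]
      intro u hu
      have hu' : f⁻¹ * u * f ∈ sigmaCore M := by
        have := (Subgroup.mem_normalizer_iff.mp (hMσn (M.inv_mem (hEM hf))) u).mp hu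
        simpa using this
      have hc := Subgroup.mem_centralizer_iff.mp hyC _ hu'
      calc u * (f * y * f⁻¹) = f * ((f⁻¹ * u * f) * y) * f⁻¹ := by group
        _ = f * (y * (f⁻¹ * u * f)) * f⁻¹ := by rw [hc]
        _ = f * y * f⁻¹ * u := by group
    rw [Subgroup.mem_normalizer_iff]
    intro y
    constructor
    · exact hconj e he y
    · intro hy
      have := hconj e⁻¹ (E.inv_mem he) _ hy
      have e1 : e⁻¹ * (e * y * e⁻¹) * e⁻¹⁻¹ = y := by group
      rwa [e1] at this
  have hMnR : M ≤ Subgroup.normalizer ((naR M A : Subgroup G) : Set G) := by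
    intro m hm
    obtain ⟨e, he, u, hu, rfl⟩ := hE.2.2.2 m hm
    exact Subgroup.mul_mem _ (hEnR he) (Subgroup.centralizer_le_normalizer _ (hσR hu))
  -- `P` does not centralize `A`
  have hcardRA : Nat.card ↥(naR M A) < Nat.card ↥A := by
    rw [hRcard, hA2]
    calc r = r ^ 1 := (pow_one r).symm
      _ < r ^ 2 := Nat.pow_lt_pow_right hrp.one_lt (by norm_num)
  have hPnc : ¬ P ≤ Subgroup.centralizer (A : Set G) := by
    intro hPA
    -- an element of `A` outside `R`
    have hex : ∃ a ∈ A, a ∉ naR M A := by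
      by_contra hcon
      push Not at hcon
      have hle : A ≤ naR M A := fun a ha => hcon a ha
      exact absurd (Nat.card_le_card_of_injective _ (Subgroup.inclusion_injective hle))
        (not_le.mpr hcardRA)
    obtain ⟨a, haA, haR⟩ := hex
    have ha1 : a ≠ 1 := fun hh => haR (hh ▸ Subgroup.one_mem _)
    have har : a ^ r = 1 := hAe.2 a haA
    have hord : orderOf a = r := orderOf_eq_prime har ha1
    set X : Subgroup G := Subgroup.zpowers a with hX
    have hXA : X ≤ A := by rw [hX, Subgroup.zpowers_le]; exact haA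
    have hXcard : Nat.card X = r := by rw [hX, Nat.card_zpowers, hord]
    have hXR : X ≠ naR M A := by
      intro hh
      apply haR
      rw [← hh]
      exact Subgroup.mem_zpowers a
    have hXP : X ≤ E ⊓ Subgroup.centralizer (P : Set G) := by
      refine le_inf (hXA.trans hAE) ?_
      intro y hy
      rw [Subgroup.mem_centralizer_iff]
      intro x hx
      exact (Subgroup.mem_centralizer_iff.mp (hPA hx) y (hXA hy)).symm
    have h28 := Cfsg.Agent.S1428.result hG M hM E hE p hp P hPE hPc X hXP (by rw [hXcard]; exact hrp)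
    rw [(hreg X (hXA.trans hAE) hXcard hXR).1] at h28
    exact hY (le_bot_iff.mp h28)
  -- `C_A(P) = R`
  have hcAP : A ⊓ Subgroup.centralizer (P : Set G) = naR M A := by
    symm
    apply Subgroup.eq_of_le_of_card_ge (le_inf hRA hRP)
    rw [hRcard]
    -- the order of `C_A(P)` divides `r ^ 2` and is less than `r ^ 2`
    have hdvd : Nat.card ↥(A ⊓ Subgroup.centralizer (P : Set G)) ∣ r ^ 2 := by
      rw [← hA2]
      exact Subgroup.card_dvd_of_le inf_le_left
    obtain ⟨k, hk, hkeq⟩ := (Nat.dvd_prime_pow hrp).mp hdvd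
    have hk2 : k ≠ 2 := by
      intro hk2
      rw [hk2, ← hA2] at hkeq
      have hle : A ≤ A ⊓ Subgroup.centralizer (P : Set G) := by
        have := Subgroup.eq_of_le_of_card_ge (inf_le_left : A ⊓ Subgroup.centralizer (P : Set G) ≤ A)
          hkeq.ge
        exact this.ge
      apply hPnc
      intro x hx
      rw [Subgroup.mem_centralizer_iff]
      intro a ha
      exact (Subgroup.mem_centralizer_iff.mp (hle ha).2 x hx).symm
    have hk1 : k ≤ 1 := by omega
    rw [hkeq]
    calc r ^ k ≤ r ^ 1 := Nat.pow_le_pow_right hrp.pos hk1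
      _ = r := pow_one r
  refine
    { p_prime := hpp
      p_ne_r := ?_
      tau2_eq := htau2
      A_normal := hAn
      sub_A := hsubA
      cent_A := ?_
      norm_A := hNA
      R_card := hRcard
      cent_R := hCR
      norm_R := hNR
      R_normal := hMnR
      P_not_cent := hPnc
      cent_AP := hcAP
      regular := fun X hXE hXc hXR => (hreg X hXE hXc hXR).1 }
  · intro hpr
    apply hr.2.2.2
    rw [← hpr]
    exact hp.2.2.2.2
  · rw [← hNA]
    exact hCA

end Cfsg.Agent.Lib.helper55.NA
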