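/-
S1430 (O-a), piece N1b: the further consequences `NAMore` of the setting `NACtx`
(S1408, S1417(b), S1350, S1419).
-/
import Mathlib
import Cfsg.Agent.S1350
import Cfsg.Agent.S1403
import Cfsg.Agent.S1408
import Cfsg.Agent.S1417
import Cfsg.Agent.S1419
import Cfsg.Agent.Lib.helper55.NADefs
import Cfsg.Agent.Lib.helper60.BGTau2Ab

set_option autoImplicit false
open Cfsg

namespace Cfsg.Agent.Lib.helper55.NA

variable {G : Type*} [Group G]

/-- PIECE N1b. -/
theorem na_more [Finite G] (hG : IsMinSimpleOddOrder G) {M E A P : Subgroup G} {r p : ℕ}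
    [Fact r.Prime] (h : NACtx M E A P r p) : NAMore M E A r := by
  classical
  have hrp : r.Prime := Fact.out
  obtain ⟨hM, hE, hr, hS, hAE, hAe, hA2, hp, hPE, hPc, hY, hRP⟩ := h
  have hEM : E ≤ M := hE.1
  have hAM : A ≤ M := hAE.trans hEM
  have hU : Cfsg.Agent.Lib.helper8.BGUniqHyp G :=
    fun K hK h1 h2 => Cfsg.Agent.S1403.result hG K hK h1 h2
  have h17 := Cfsg.Agent.S1417.result hG M hM r hr A ⟨hAM, hAe, hA2⟩
  obtain ⟨-, hsyl, -⟩ := h17
  have h08 := Cfsg.Agent.S1408.result hG M hM r hr.2.1 hr.2.2.1 hr.2.2.2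
  have htau2 := (Cfsg.Agent.S1419.result hG M hM E hE r hr hS A ⟨hAE, hAe, hA2⟩).1
  -- an `r`-subgroup of `M` lies in a Sylow `r`-subgroup of `M`
  have hex : ∀ D : Subgroup G, D ≤ M → IsPGroup r D →
      ∃ Q : Sylow r M, D ≤ (Q : Subgroup M).map M.subtype := by
    intro D hDM hD
    have hD' : IsPGroup r (D.subgroupOf M) :=
      hD.comap_of_injective M.subtype M.subtype_injective
    obtain ⟨Q, hQ⟩ := hD'.exists_le_sylow
    refine ⟨Q, ?_⟩
    intro d hd
    exact ⟨⟨d, hDM hd⟩, hQ (Subgroup.mem_subgroupOf.mpr hd), rfl⟩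
  have hEns := Cfsg.Agent.Lib.helper60.BGTau2Ab.not_mem_sigma_of_dvd_card_compl hG M hM E hE
  refine
    { omega := ?_
      rsub_comm := ?_
      A_max := fun B hB hAB => h08.2 A hAM hAe hA2 B hB hAB
      not_ideal := h08.1
      E_coprime := ?_
      E_not_sigma := fun q hq hqd => hEns q hq hqd
      rank_one := ?_ }
  · intro D hDM hD hAD x hx hxr
    obtain ⟨Q, hQ⟩ := hex D hDM hD
    exact (((hsyl Q).2 (hAD.trans hQ)).1 x (hQ hx)).mp hxr
  · intro D hDM hD
    obtain ⟨Q, hQ⟩ := hex D hDM hD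
    have hQc := (hsyl Q).1
    refine ⟨⟨fun a b => ?_⟩⟩
    obtain ⟨a', ha', hae⟩ := hQ a.2
    obtain ⟨b', hb', hbe⟩ := hQ b.2
    have hcomm : (⟨a', ha'⟩ : (Q : Subgroup M)) * ⟨b', hb'⟩ = ⟨b', hb'⟩ * ⟨a', ha'⟩ :=
      mul_comm' _ _
    apply Subtype.ext
    have h1 : (a' : G) * (b' : G) = (b' : G) * (a' : G) := by
      have := congrArg (fun z : (Q : Subgroup M) => ((z : M) : G)) hcomm
      simpa using this
    simp only [Subgroup.coe_mul]
    have hae' : (a' : G) = a := hae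
    have hbe' : (b' : G) = b := hbe
    rw [← hae', ← hbe']
    exact h1
  · apply Nat.Coprime.symm
    apply Nat.coprime_of_dvd
    intro q hq hqE hqσ
    have h50 := (Cfsg.Agent.S1350.result hG M hM).1
    exact hEns q hq hqE (h50.2.1 q hq hqσ)
  · intro q hq hqσ hqr
    by_contra h1
    have h2 : PRankLE q 2 M := by
      by_contra h2
      exact hqσ (Cfsg.Agent.Lib.helper8.bg_alpha_sub_sigma hG hU M hM ⟨hq, h2⟩)
    have : q ∈ tau2 M := ⟨hq, hqσ, h2, h1⟩
    rw [htau2] at this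
    exact hqr this

end Cfsg.Agent.Lib.helper55.NA
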