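import Mathlib
import Cfsg.Prelude.Def_CaseTheorems
import Cfsg.Agent.Lib.helper40.Cores2
import Cfsg.Agent.Lib.helper60.OddCoreQuot
import Cfsg.Agent.Lib.helper55.Isolated

/-!
Shared lemmas (helper55): consequences of `O_{p'}(G) = 1`.
-/

set_option autoImplicit false

namespace Cfsg.Agent.Lib.helper55

universe u

/-- If `O_{p'}(G) = 1`, a `p'`-subgroup `H` normalized by a normal subgroup `N ≥ H` is trivial. -/
theorem eq_bot_of_coprime_of_normal_in_normal {G : Type u} [Group G] [Finite G] {p : ℕ}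
    (hO : Cfsg.pPrimeCore p G = ⊥) {H N : Subgroup G} (hN : N.Normal) (hHN : H ≤ N)
    (hn : N ≤ Subgroup.normalizer (H : Set G)) (hc : (Nat.card H).Coprime p) : H = ⊥ := by
  have hsub : H.IsSubnormal :=
    Subgroup.IsSubnormal.step H N hHN hN.isSubnormal
      ((Subgroup.normal_subgroupOf_iff_le_normalizer hHN).mpr hn)
  have := Cfsg.Agent.Lib.helper40.subnormal_le_pPrimeCore hsub hc
  rw [hO] at this
  exact le_bot_iff.mp this

/-- If `O_{p'}(G) = 1`, an abelian normal subgroup of `G` is a `p`-group. -/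
theorem isPGroup_of_abelian_normal {G : Type u} [Group G] [Finite G] {p : ℕ} [Fact p.Prime]
    (hO : Cfsg.pPrimeCore p G = ⊥) {N : Subgroup G} (hN : N.Normal)
    (hab : ∀ a ∈ N, ∀ b ∈ N, a * b = b * a) : IsPGroup p N := by
  intro d
  have hp : p.Prime := Fact.out
  obtain ⟨k, m, hm, hkm⟩ :=
    Nat.exists_eq_pow_mul_and_not_dvd (orderOf_pos (d : G)).ne' p hp.ne_one
  refine ⟨k, ?_⟩
  have he : ((d : G) ^ p ^ k) ∈ N := N.pow_mem d.2 _
  have hzle : Subgroup.zpowers ((d : G) ^ p ^ k) ≤ N := by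
    rw [Subgroup.zpowers_le]; exact he
  have hz : Subgroup.zpowers ((d : G) ^ p ^ k) = ⊥ := by
    apply eq_bot_of_coprime_of_normal_in_normal hO hN hzle
    · intro n hn
      rw [Subgroup.mem_normalizer_iff]
      intro h
      constructor
      · intro hh
        have h1 : n * h * n⁻¹ = h := by
          rw [hab n hn h (hzle hh)]; group
        rw [h1]; exact hh
      · intro hh
        have h2 := hab n⁻¹ (N.inv_mem hn) (n * h * n⁻¹) (hzle hh)
        have h1 : n * h * n⁻¹ = h := by
          have : n⁻¹ * (n * h * n⁻¹) = h * n⁻¹ := by group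
          rw [this] at h2
          have h3 : h = n * h * n⁻¹ * n⁻¹ * n := by rw [← h2]; group
          have h4 : n * h * n⁻¹ * n⁻¹ * n = n * h * n⁻¹ := by group
          rw [h4] at h3; exact h3.symm
        rw [h1] at hh; exact hh
    · rw [Nat.card_zpowers]
      have h1 : orderOf ((d : G) ^ p ^ k) ∣ m := by
        apply orderOf_dvd_of_pow_eq_one
        rw [← pow_mul, ← hkm, pow_orderOf_eq_one]
      exact Nat.Coprime.coprime_dvd_left h1 ((Nat.Prime.coprime_iff_not_dvd hp).mpr hm).symm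
  have h1 : (d : G) ^ p ^ k = 1 := by
    have := Subgroup.mem_zpowers ((d : G) ^ p ^ k)
    rw [hz, Subgroup.mem_bot] at this; exact this
  exact Subtype.ext (by simpa using h1)

/-- If `O_{p'}(G) = 1` and `Z` is a central `p`-subgroup, then `O_{p'}(G/Z) = 1`
(stated for the preimage). -/
theorem comap_pPrimeCore_quotient_le_of_central {G : Type u} [Group G] [Finite G] {p : ℕ}
    [Fact p.Prime] (Z : Subgroup G) [Z.Normal] (hZc : Z ≤ Subgroup.center G) (hZp : IsPGroup p Z)
    (hO : Cfsg.pPrimeCore p G = ⊥) :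
    (Cfsg.pPrimeCore p (G ⧸ Z)).comap (QuotientGroup.mk' Z) ≤ Z := by
  have hp : p.Prime := Fact.out
  obtain ⟨K, hK⟩ : ∃ K, K = (Cfsg.pPrimeCore p (G ⧸ Z)).comap (QuotientGroup.mk' Z) := ⟨_, rfl⟩
  rw [← hK]
  have hKn : K.Normal := by rw [hK]; infer_instance
  have hZK : Z ≤ K := by
    intro z hz
    rw [hK, Subgroup.mem_comap]
    have : (QuotientGroup.mk' Z) z = 1 := (QuotientGroup.eq_one_iff z).mpr hz
    rw [this]; exact one_mem _
  have hcard : Nat.card K = Nat.card (Cfsg.pPrimeCore p (G ⧸ Z)) * Nat.card Z := by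
    rw [hK]; exact Cfsg.Agent.Lib.helper60.card_comap_mk' Z _
  have hcop : (Nat.card (Cfsg.pPrimeCore p (G ⧸ Z))).Coprime p :=
    Cfsg.Agent.Lib.helper40.pPrimeCore_card_coprime p (G ⧸ Z)
  obtain ⟨n, hn⟩ := IsPGroup.iff_card.mp hZp
  have hcardZ' : Nat.card (Z.subgroupOf K) = p ^ (Nat.card K).factorization p := by
    rw [Nat.card_congr (Subgroup.subgroupOfEquivOfLe hZK).toEquiv, hcard, hn,
      Nat.factorization_mul (Nat.card_pos.ne') (pow_ne_zero _ hp.ne_zero)]
    have h0 : (Nat.card (Cfsg.pPrimeCore p (G ⧸ Z))).factorization p = 0 :=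
      Nat.factorization_eq_zero_of_not_dvd
        (fun h => (Nat.Prime.coprime_iff_not_dvd hp).mp hcop.symm h)
    simp [h0, hp.factorization_pow]
  obtain ⟨P, hPdef⟩ : ∃ P : Sylow p K, (P : Subgroup K) = Z.subgroupOf K :=
    ⟨Sylow.ofCard (Z.subgroupOf K) hcardZ', rfl⟩
  have hPc : Subgroup.normalizer ((P : Subgroup K) : Set K) ≤ Subgroup.centralizer (P : Set K) := by
    intro k _
    rw [Subgroup.mem_centralizer_iff]
    intro z hz
    have hz' : (z : G) ∈ Z := by
      have : z ∈ (P : Subgroup K) := hz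
      rw [hPdef] at this
      exact Subgroup.mem_subgroupOf.mp this
    have := Subgroup.mem_center_iff.mp (hZc hz') (k : G)
    exact Subtype.ext (by simpa using this.symm)
  have hcompl := MonoidHom.ker_transferSylow_isComplement' P hPc
  have hnd := MonoidHom.not_dvd_card_ker_transferSylow P hPc
  have hker : (MonoidHom.transferSylow P hPc).ker = ⊥ := by
    have hsub : ((MonoidHom.transferSylow P hPc).ker.map K.subtype).IsSubnormal :=
      (MonoidHom.normal_ker _).isSubnormal.trans' hKn.isSubnormal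
    have hle := Cfsg.Agent.Lib.helper40.subnormal_le_pPrimeCore (p := p) hsub (by
      rw [Subgroup.card_map_of_injective K.subtype_injective]
      exact ((Nat.Prime.coprime_iff_not_dvd hp).mpr hnd).symm)
    rw [hO, le_bot_iff] at hle
    exact (Subgroup.map_eq_bot_iff_of_injective _ K.subtype_injective).mp hle
  rw [hker] at hcompl
  have hPtop : (P : Subgroup K) = ⊤ := Subgroup.isComplement'_bot_left.mp hcompl
  intro k hk
  have h1 : (⟨k, hk⟩ : K) ∈ (P : Subgroup K) := by rw [hPtop]; exact Subgroup.mem_top _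
  rw [hPdef] at h1
  exact Subgroup.mem_subgroupOf.mp h1

end Cfsg.Agent.Lib.helper55
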