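import Mathlib
import Cfsg.Agent.Lib.helper55.P2Defs
import Cfsg.Agent.Lib.helper27.BGKPrime
import Cfsg.Agent.Lib.helper69.BGKappaB
import Cfsg.Agent.Lib.helper59.BG1431Fin
import Cfsg.Agent.Lib.helper54.BGSigmaNe
import Cfsg.Agent.Lib.helper71.BGTwelveFour
import Cfsg.Agent.S1350
import Cfsg.Agent.S1367
import Cfsg.Agent.S1429
import Cfsg.Agent.S1430

/-!
# S1435, piece P1: the basic facts
-/

set_option autoImplicit false

namespace Cfsg.Agent.Lib.helper55.P2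

open Cfsg Subgroup

variable {G : Type*} [Group G]

/-- (P1) the basic facts. -/
theorem p2_basic [Finite G] (hG : IsMinSimpleOddOrder G)
    (M : Subgroup G) (hM : IsCoatom M) (K U : Subgroup G) (hKU : IsSigmaDecomposition M K U)
    (hK1 : K ≠ ⊥) (hU1 : U ≠ ⊥) (Ms : Subgroup G) (hMs : IsCoatom Ms)
    (hKst : K = sigmaCore Ms ⊓ centralizer ((sigmaCore M ⊓ centralizer (K : Set G)) : Set G))
    (hKstH : IsPiHallOf (kappa Ms) (sigmaCore M ⊓ centralizer (K : Set G)) Ms)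
    (hZ : M ⊓ Ms = K ⊔ (sigmaCore M ⊓ centralizer (K : Set G))) :
    Basic M K U Ms := by
  have h1430 : Cfsg.Agent.Lib.helper69.H1430 G :=
    fun M hM K hK hK1 => Cfsg.Agent.S1430.result hG M hM K hK hK1
  have hHall : IsPiHallOf (sigma M) (sigmaCore M) M := (Cfsg.Agent.S1350.result hG M hM).1
  have hKp := Cfsg.Agent.Lib.helper27.BGKP.kappa_card_prime hG h1430 M hM K hKU.hall hK1 U
    hKU.compl hU1
  obtain ⟨huab, hureg⟩ :=
    Cfsg.Agent.Lib.helper69.bgk_decomp_facts hG h1430 M hM hHall K U hKU hK1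
  have hUH := Cfsg.Agent.Lib.helper69.bgk_decomp_hall hHall hKU
  have hσne : sigmaCore M ≠ ⊥ := Cfsg.Agent.Lib.helper54.sigmaCore_ne_bot hG M hM
  have hKs1 : sigmaCore M ⊓ centralizer (K : Set G) ≠ ⊥ :=
    (Cfsg.Agent.Lib.helper69.bgk_1354 h1430 M hM hσne K hKU.cyclic hKU.hall).1
  have h67 := (Cfsg.Agent.S1367.result hG M hM K U hKU hK1 Ms hMs hKst hKstH).2 K le_rfl hKp
  have h31 := (Cfsg.Agent.Lib.helper59.BG1431.s1431_of_h1430 hG h1430 Ms hMs _ hKstH hKs1).1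
  have hkσs : K ≤ sigmaCore Ms := le_of_eq_of_le hKst inf_le_left
  have huprime : ∀ q : ℕ, q.Prime → q ∣ Nat.card U → q ∉ sigma M ∧ q ∉ kappa M := by
    intro q hq hqU
    have h1 := hUH.2.1 q hq hqU
    exact ⟨h1.2.2, h1.2.1⟩
  have hnil : Group.IsNilpotent (sigmaCore M) := by
    have hUcard1 : Nat.card U ≠ 1 := fun h => hU1 (Subgroup.eq_bot_of_card_eq U h)
    obtain ⟨q, hq, hqU⟩ := Nat.exists_prime_and_dvd hUcard1
    have : Fact q.Prime := ⟨hq⟩
    have hqM : q ∣ Nat.card M := hqU.trans (Subgroup.card_dvd_of_le hUH.1)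
    obtain ⟨S⟩ : Nonempty (Sylow q M) := inferInstance
    have hP1 : ¬ (∀ q' : ℕ, q'.Prime → q' ∣ Nat.card M → q' ∉ sigma M → q' ∈ kappa M) :=
      fun hall => (huprime q hq hqU).2 (hall q hq hqM (huprime q hq hqU).1)
    have hqn : q ∉ sigma M ∪ kappa M := by
      rintro (h | h)
      · exact (huprime q hq hqU).1 h
      · exact (huprime q hq hqU).2 h
    exact (Cfsg.Agent.S1429.result hG M hM hP1 q hqM hqn S).2.2
  have hpσs : Nat.card K ∈ sigma Ms :=
    Cfsg.Agent.Lib.helper71.BG12.mem_sigma_of_dvd_card_sigmaCore Ms hKp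
      (Subgroup.card_dvd_of_le hkσs)
  refine ⟨hM, hMs, hKU, hU1, hKp, huab, hureg, huprime, hkσs, h67, ?_, hZ, hnil, hKstH, hpσs⟩
  intro g hg
  have h2 := h31 g hg
  have h3 : K = sigmaCore Ms ⊓
      centralizer ((sigmaCore M ⊓ centralizer (K : Set G) : Subgroup G) : Set G) := hKst
  rw [← h3] at h2
  exact h2

end Cfsg.Agent.Lib.helper55.P2
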