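import Mathlib
import Cfsg.Agent.Lib.helper55.P2Defs
import Cfsg.Agent.Lib.helper60.BGCentU
import Cfsg.Agent.Lib.helper3.BGCross
import Cfsg.Agent.S1361
import Cfsg.Agent.S1378

/-!
# S1435, piece P2: the facts about `H`
-/

set_option autoImplicit false

namespace Cfsg.Agent.Lib.helper55.P2

open Cfsg Subgroup

variable {G : Type*} [Group G]

theorem map_conj_of_mem (X : Subgroup G) {g : G} (hg : g ∈ X) :
    X.map (MulAut.conj g).toMonoidHom = X := by
  ext y
  rw [Subgroup.mem_map]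
  constructor
  · rintro ⟨x, hx, rfl⟩
    simp only [MulEquiv.coe_toMonoidHom, MulAut.conj_apply]
    exact X.mul_mem (X.mul_mem hg hx) (X.inv_mem hg)
  · intro hy
    refine ⟨g⁻¹ * y * g, X.mul_mem (X.mul_mem (X.inv_mem hg) hy) hg, ?_⟩
    simp only [MulEquiv.coe_toMonoidHom, MulAut.conj_apply]
    group

theorem Basic.k_ne_bot {M K U Ms : Subgroup G} (b : Basic M K U Ms) : K ≠ ⊥ := by
  intro h0
  have h1 := b.kprime
  rw [h0, Subgroup.card_bot] at h1
  exact Nat.not_prime_one h1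

/-- (P2) steps 1-3: the `H`-context. -/
theorem p2_hctx [Finite G] (hG : IsMinSimpleOddOrder G) {M K U Ms : Subgroup G}
    (b : Basic M K U Ms)
    (hconj : ∀ H : Subgroup G, IsCoatom H → (kappa H).Nonempty →
      ∃ g : G, H = M.map (MulAut.conj g).toMonoidHom ∨ H = Ms.map (MulAut.conj g).toMonoidHom)
    (H : Subgroup G) (hH : IsCoatom H) (hUH : U ≤ H) (hKH : K ≤ H)
    (hnc : ∀ g : G, H ≠ M.map (MulAut.conj g).toMonoidHom) :
    HCtx K U H := by
  have hK1 : K ≠ ⊥ := b.k_ne_bot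
  -- step 1
  have hpσ : Nat.card K ∉ sigma H := by
    intro hp
    obtain ⟨g, hg⟩ := (Cfsg.Agent.S1378.result hG).2 Ms H b.hMs hH ⟨Nat.card K, b.pσs, hp⟩
    by_cases hgM : g ∈ Ms
    · have hHMs : H = Ms := by rw [hg]; exact map_conj_of_mem Ms hgM
      have h1 : U ≤ M ⊓ Ms := le_inf b.hKU.compl.1 (hHMs ▸ hUH)
      rw [b.hZ] at h1
      have hU0 : U ≤ U ⊓ (K ⊔ sigmaCore M) :=
        le_inf le_rfl (h1.trans (sup_le_sup_left inf_le_left K))
      rw [b.hKU.compl.2.2.1] at hU0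
      exact b.u1 (le_bot_iff.mp hU0)
    · have h1 := b.ti g hgM
      have h2 : K ≤ K ⊓ Ms.map (MulAut.conj g).toMonoidHom := le_inf le_rfl (hg ▸ hKH)
      rw [h1] at h2
      exact hK1 (le_bot_iff.mp h2)
  -- step 2
  have hκ : kappa H = ∅ := by
    by_contra hne
    obtain ⟨g, hg | hg⟩ := hconj H hH (Set.nonempty_iff_ne_empty.mpr hne)
    · exact hnc g hg
    · apply hpσ
      rw [hg, Cfsg.Agent.Lib.helper3.sigma_map_conj]
      exact b.pσs
  -- step 3
  have hCK : sigmaCore H ⊓ centralizer (K : Set G) = ⊥ := by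
    by_contra hne
    obtain ⟨E, hE, hKE⟩ := Cfsg.Agent.Lib.helper60.BGCentU.exists_compl_ge hG H hH K hKH (by
      intro q hq hqK
      have h1 : q = Nat.card K := ((Nat.prime_dvd_prime_iff_eq hq b.kprime).mp hqK)
      rw [h1]
      exact hpσ)
    have hdec : IsSigmaDecomposition H ⊥ E := by
      refine ⟨inferInstance, ⟨bot_le, ?_, ?_⟩, ?_, bot_le⟩
      · intro q hq hd
        rw [Subgroup.card_bot] at hd
        exact absurd (Nat.dvd_one.mp hd) hq.one_lt.ne'
      · intro q hq hqκ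
        rw [hκ] at hqκ
        exact absurd hqκ (Set.notMem_empty q)
      · rw [bot_sup_eq]
        exact hE
    have h61 := (Cfsg.Agent.S1361.result hG H hH ⊥ E hdec K hKE hK1 hne).2 Ms b.hMs b.cK.1
    apply hpσ
    rw [← h61]
    exact b.pσs
  exact ⟨hH, hUH, hKH, hpσ, hκ, hCK⟩

end Cfsg.Agent.Lib.helper55.P2
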