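import Mathlib
import Cfsg.Agent.Lib.helper55.P2Defs
import Cfsg.Agent.Lib.helper27.BGKPrime
import Cfsg.Agent.Lib.helper69.BGKappaA
import Cfsg.Agent.Lib.helper60.BGCentU
import Cfsg.Agent.Lib.helper54.BGSigmaNe
import Cfsg.Agent.Lib.helper12.FrobFixB
import Cfsg.Agent.Lib.helper97.BGEight1
import Cfsg.Agent.S1350
import Cfsg.Agent.S1403
import Cfsg.Agent.S1417
import Cfsg.Agent.S1418
import Cfsg.Agent.S1429

/-!
# S1435, piece P4 (Lemma S)
-/

set_option autoImplicit false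

namespace Cfsg.Agent.Lib.helper55.P2

open Cfsg Subgroup

variable {G : Type*} [Group G]

/-- An element commuting with a nonidentity element of a group of prime order centralizes it. -/
theorem mem_centralizer_of_prime_gen [Finite G] {K : Subgroup G} (hKp : (Nat.card K).Prime)
    {e : G} (he : e ∈ K) (he1 : e ≠ 1) {u : G} (hc : e * u = u * e) :
    u ∈ centralizer (K : Set G) := by
  have : Fact (Nat.card K).Prime := ⟨hKp⟩
  have h1 : Subgroup.zpowers (⟨e, he⟩ : K) = ⊤ :=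
    zpowers_eq_top_of_prime_card (p := Nat.card K) rfl (fun h => he1 (congrArg Subtype.val h))
  rw [Subgroup.mem_centralizer_iff]
  intro k hk
  have h2 : (⟨k, hk⟩ : K) ∈ Subgroup.zpowers (⟨e, he⟩ : K) := by rw [h1]; exact Subgroup.mem_top _
  obtain ⟨n, hn⟩ := Subgroup.mem_zpowers_iff.mp h2
  have h3 : k = e ^ n := by
    have h4 := congrArg Subtype.val hn
    rw [Subgroup.coe_zpow] at h4
    exact h4.symm
  rw [h3]
  have hcomm : Commute e u := hc
  exact (hcomm.zpow_left n).eq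

/-- `|A ⊔ K| = |A| |K|` when `K` normalizes `A` and `A ∩ K = 1`. -/
theorem card_sup_of_normalizer [Finite G] {A K : Subgroup G} (hn : K ≤ normalizer (A : Set G))
    (hd : A ⊓ K = ⊥) : Nat.card A * Nat.card K = Nat.card ↥(A ⊔ K) := by
  have hcompl : IsComplIn A K (A ⊔ K) :=
    ⟨le_sup_left, le_sup_right, hd, fun m hm =>
      Cfsg.Agent.Lib.helper29.exists_mul_of_mem_sup_of_le_normalizer hn hm⟩
  exact Cfsg.Agent.Lib.helper29.IsComplIn.card_mul hcompl

/-- (P4) Lemma S. -/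
theorem sig_absorb [Finite G] (hG : IsMinSimpleOddOrder G) (H : Subgroup G) (hH : IsCoatom H)
    (hκ : kappa H = ∅) (K : Subgroup G) (hKH : K ≤ H) (hKp : (Nat.card K).Prime)
    (hpσ : Nat.card K ∉ sigma H) (hCK : sigmaCore H ⊓ centralizer (K : Set G) = ⊥)
    (s : ℕ) (hs : s.Prime) (hsp : s ≠ Nat.card K) (hsσ : s ∉ sigma H)
    (V : Subgroup G) (hVH : V ≤ H) (hVc : ∀ a ∈ V, ∀ b ∈ V, a * b = b * a) (hVs : IsPGroup s V)
    (hV1 : V ≠ ⊥) (hKV : K ≤ normalizer (V : Set G)) (hVK : V ⊓ centralizer (K : Set G) = ⊥) :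
    ∃ (x : G) (W : Subgroup G), x ∈ H ∧ orderOf x = s ∧ x ∈ centralizer (K : Set G) ∧
      x ∈ centralizer (V : Set G) ∧ W ≤ V ∧ Nat.card W = s ∧ K ≤ normalizer (W : Set G) ∧
      centralizer (W : Set G) ≤ H ∧
      (∀ L : Subgroup G, IsCoatom L → centralizer (W : Set G) ≤ L → L = H) ∧ PRankLE s 2 H := by
  have : Fact s.Prime := ⟨hs⟩
  have hK1 : K ≠ ⊥ := by
    intro h0
    rw [h0, Subgroup.card_bot] at hKp
    exact Nat.not_prime_one hKp
  have hHσH : sigmaCore H ≤ H := Cfsg.Agent.Lib.helper71.BGA.sigmaCore_le H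
  have hHσn : ∀ m ∈ H, ∀ y ∈ sigmaCore H, m * y * m⁻¹ ∈ sigmaCore H :=
    Subgroup.le_normalizer_iff.mp (Cfsg.Agent.Lib.helper71.BGA.le_normalizer_sigmaCore H)
  have hσ1 : sigmaCore H ≠ ⊥ := Cfsg.Agent.Lib.helper54.sigmaCore_ne_bot hG H hH
  have hsolv : Group.IsSolvable (sigmaCore H) :=
    Cfsg.Agent.Lib.helper97.bg8_solvable hG H hH (sigmaCore H) hHσH
  have hcops : (Nat.card (sigmaCore H)).Coprime s :=
    Cfsg.Agent.Lib.helper8.bg_sigmaCore_card_coprime H hs hsσ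
  have hcopp : (Nat.card (sigmaCore H)).Coprime (Nat.card K) :=
    Cfsg.Agent.Lib.helper8.bg_sigmaCore_card_coprime H hKp hpσ
  -- `K` is abelian
  have hKcent : K ≤ centralizer (K : Set G) := by
    obtain ⟨⟨e, he⟩, he1⟩ := Subgroup.ne_bot_iff_exists_ne_one.mp hK1
    have he1' : e ≠ 1 := fun h0 => he1 (Subtype.ext h0)
    intro k hk
    have h1 : e ∈ centralizer (K : Set G) := mem_centralizer_of_prime_gen hKp he he1' rfl
    have h2 := Subgroup.mem_centralizer_iff.mp h1 k hk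
    exact mem_centralizer_of_prime_gen hKp he he1' h2.symm
  have hfpfgen : ∀ A : Subgroup G, A ⊓ centralizer (K : Set G) = ⊥ →
      ∀ e ∈ K, e ≠ 1 → ∀ u ∈ A, e * u = u * e → u = 1 := by
    intro A hA e he he1 u hu hc
    have h1 : u ∈ A ⊓ centralizer (K : Set G) :=
      Subgroup.mem_inf.mpr ⟨hu, mem_centralizer_of_prime_gen hKp he he1 hc⟩
    rw [hA, Subgroup.mem_bot] at h1
    exact h1
  have hdisjgen : ∀ A : Subgroup G, A ⊓ centralizer (K : Set G) = ⊥ → A ⊓ K = ⊥ := by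
    intro A hA
    rw [eq_bot_iff, ← hA]
    exact inf_le_inf_left _ hKcent
  -- the complement
  obtain ⟨nV, hnV⟩ := IsPGroup.iff_card.mp hVs
  have hcardVK := card_sup_of_normalizer hKV (hdisjgen V hVK)
  obtain ⟨E, hE, hVKE⟩ := Cfsg.Agent.Lib.helper60.BGCentU.exists_compl_ge hG H hH (V ⊔ K)
    (sup_le hVH hKH) (by
      intro q hq hqd
      rw [← hcardVK, hnV] at hqd
      rcases (Nat.Prime.dvd_mul hq).mp hqd with h | h
      · rw [(Nat.prime_dvd_prime_iff_eq hq hs).mp (hq.dvd_of_dvd_pow h)]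
        exact hsσ
      · rw [(Nat.prime_dvd_prime_iff_eq hq hKp).mp h]
        exact hpσ)
  have hVE : V ≤ E := le_sup_left.trans hVKE
  have hKE : K ≤ E := le_sup_right.trans hVKE
  have hEH : E ≤ H := hE.1
  -- the Sylow subgroup
  have hV' : IsPGroup s (V.subgroupOf E) :=
    hVs.comap_of_injective E.subtype (Subgroup.subtype_injective _)
  obtain ⟨Q, hQ⟩ := hV'.exists_le_sylow
  obtain ⟨SE, hSE⟩ : ∃ SE : Subgroup G, SE = (Q : Subgroup E).map E.subtype := ⟨_, rfl⟩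
  have hSEE : SE ≤ E := hSE ▸ Subgroup.map_subtype_le _
  have hSEp : IsPGroup s SE := hSE ▸ Q.isPGroup'.map _
  have hVSE : V ≤ SE := by
    intro v hv
    rw [hSE]
    exact ⟨⟨v, hVE hv⟩, hQ (Subgroup.mem_subgroupOf.mpr hv), rfl⟩
  have hSEH : SE ≤ H := hSEE.trans hEH
  have hidx : ¬ s ∣ (SE.subgroupOf H).index := by
    have e1 : SE.relIndex E * E.relIndex H = SE.relIndex H :=
      Subgroup.relIndex_mul_relIndex SE E H hSEE hEH
    have e2 : SE.relIndex E = (Q : Subgroup E).index := by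
      unfold Subgroup.relIndex
      rw [hSE, Subgroup.subgroupOf, Subgroup.comap_map_eq_self_of_injective E.subtype_injective]
    have e3 : E.relIndex H = Nat.card (sigmaCore H) := by
      have h1 := Cfsg.Agent.Lib.helper69.bgk_card_mul_relIndex hEH
      have h2 := Cfsg.Agent.Lib.helper60.BGCentU.card_of_isComplIn hE
      have h3 : 0 < Nat.card E := Nat.card_pos
      rw [← h2] at h1
      exact Nat.eq_of_mul_eq_mul_left h3 h1
    intro hd
    have hd' : s ∣ SE.relIndex H := hd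
    rw [← e1, e2, e3] at hd'
    rcases (Nat.Prime.dvd_mul hs).mp hd' with h | h
    · exact Q.not_dvd_index h
    · exact (Nat.Prime.coprime_iff_not_dvd hs).mp hcops.symm h
  have hS'p : IsPGroup s (SE.subgroupOf H) :=
    hSEp.comap_of_injective H.subtype (Subgroup.subtype_injective _)
  obtain ⟨S, hS⟩ : ∃ S : Sylow s H, (S : Subgroup H) = SE.subgroupOf H :=
    ⟨hS'p.toSylow hidx, IsPGroup.toSylow_coe _ _⟩
  have hSmap : (S : Subgroup H).map H.subtype = SE := by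
    rw [hS]
    exact Subgroup.map_subgroupOf_eq_of_le hSEH
  -- S1429
  have hpH : Nat.card K ∣ Nat.card H := Subgroup.card_dvd_of_le hKH
  have hP1 : ¬ (∀ q : ℕ, q.Prime → q ∣ Nat.card H → q ∉ sigma H → q ∈ kappa H) := by
    intro hall
    have h1 := hall _ hKp hpH hpσ
    rw [hκ] at h1
    exact h1
  have hsV : s ∣ Nat.card V := by
    rw [hnV]
    rcases Nat.eq_zero_or_pos nV with h0 | h0
    · exfalso
      rw [h0, pow_zero] at hnV
      exact hV1 (Subgroup.eq_bot_of_card_eq V hnV)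
    · exact dvd_pow_self s h0.ne'
  have hsH : s ∣ Nat.card H := hsV.trans (Subgroup.card_dvd_of_le hVH)
  have hsn : s ∉ sigma H ∪ kappa H := by
    rintro (h | h)
    · exact hsσ h
    · rw [hκ] at h
      exact h
  obtain ⟨hΩle, hΩc, -⟩ := Cfsg.Agent.S1429.result hG H hH hP1 s hsH hsn S
  rw [hSmap] at hΩle hΩc
  obtain ⟨Ω, hΩ⟩ : ∃ Ω : Subgroup G, Ω = Subgroup.closure {x : G | x ∈ SE ∧ x ^ s = 1} :=
    ⟨_, rfl⟩
  rw [← hΩ] at hΩle hΩc
  have hΩSE : Ω ≤ SE := by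
    rw [hΩ, Subgroup.closure_le]
    rintro x ⟨hx, -⟩
    exact hx
  have hΩE : Ω ≤ E := hΩSE.trans hSEE
  have hΩp : IsPGroup s Ω := hSEp.to_le hΩSE
  -- first fixed point formula: `H_σ ≤ C(V)`
  have hσV : sigmaCore H ≤ centralizer (V : Set G) := by
    have hUn : ∀ e ∈ K, ∀ u ∈ V, e * u * e⁻¹ ∈ V := Subgroup.le_normalizer_iff.mp hKV
    have hHn : ∀ x ∈ V ⊔ K, ∀ h ∈ sigmaCore H, x * h * x⁻¹ ∈ sigmaCore H :=
      fun x hx h hh => hHσn x ((sup_le hVH hKH) hx) h hh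
    have hcop : Nat.Coprime (Nat.card (sigmaCore H)) (Nat.card ↥(V ⊔ K)) := by
      rw [← hcardVK, hnV]
      exact Nat.Coprime.mul_right (Nat.Coprime.pow_right nV hcops) hcopp
    have hff := Cfsg.Agent.Lib.helper12.ff_formula V K (sigmaCore H) hK1 hUn (hfpfgen V hVK) hHn
      hsolv hcop
    have h2 : sigmaCore H ⊓ centralizer ((V ⊔ K : Subgroup G) : Set G) = ⊥ := by
      rw [eq_bot_iff, ← hCK]
      exact inf_le_inf_left _
        (Subgroup.centralizer_le (by exact_mod_cast (le_sup_right : K ≤ V ⊔ K)))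
    rw [h2, hCK, Subgroup.card_bot, one_pow, one_mul, one_mul] at hff
    have h3 : sigmaCore H ⊓ centralizer (V : Set G) = sigmaCore H :=
      Subgroup.eq_of_le_of_card_ge inf_le_left (le_of_eq hff)
    rw [← h3]
    exact inf_le_right
  -- the subgroup `W`
  have hVc' : IsMulCommutative V := ⟨⟨fun x y => Subtype.ext (hVc x x.2 y y.2)⟩⟩
  obtain ⟨W, hW⟩ : ∃ W : Subgroup G, W = Cfsg.Agent.Lib.helper27.BGKP.omegaSub V hVc' s :=
    ⟨_, rfl⟩
  have hWmem : ∀ u : G, u ∈ W ↔ u ∈ V ∧ u ^ s = 1 := fun u => by rw [hW]; exact Iff.rfl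
  have hWV : W ≤ V := fun a ha => ((hWmem a).mp ha).1
  have hW1 : W ≠ ⊥ := by
    obtain ⟨u, hu⟩ := exists_prime_orderOf_dvd_card' s hsV
    intro h0
    have hmem : (u : G) ∈ W := by
      rw [hWmem]
      refine ⟨u.2, ?_⟩
      have h1 := pow_orderOf_eq_one u
      rw [hu] at h1
      have h2 := congrArg Subtype.val h1
      rwa [Subgroup.coe_pow] at h2
    rw [h0, Subgroup.mem_bot] at hmem
    have h3 : u = 1 := Subtype.ext hmem
    rw [h3, orderOf_one] at hu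
    exact hs.one_lt.ne hu
  have hKW : K ≤ normalizer (W : Set G) := by
    apply Subgroup.le_normalizer_iff.mpr
    intro k hk a ha
    rw [hWmem] at ha ⊢
    refine ⟨Subgroup.le_normalizer_iff.mp hKV k hk a ha.1, ?_⟩
    rw [conj_pow, ha.2, mul_one, mul_inv_cancel]
  have hWΩ : W ≤ Ω := by
    intro w hw
    rw [hΩ]
    exact Subgroup.subset_closure ⟨hVSE (hWV hw), ((hWmem w).mp hw).2⟩
  have hσW : sigmaCore H ≤ centralizer (W : Set G) := hσV.trans (Subgroup.centralizer_le hWV)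
  have hWneΩ : W ≠ Ω := by
    intro h0
    apply hσ1
    rw [eq_bot_iff, ← hΩc]
    exact le_inf le_rfl (h0 ▸ hσW)
  -- the orders
  obtain ⟨a, ha⟩ := IsPGroup.iff_card.mp hΩp
  obtain ⟨c, hc⟩ := IsPGroup.iff_card.mp (hVs.to_le hWV)
  have ha2 : a ≤ 2 := by
    rw [ha] at hΩle
    exact (Nat.pow_le_pow_iff_right hs.one_lt).mp hΩle
  have hc1 : 1 ≤ c := by
    by_contra h0
    have hc0 : c = 0 := by omega
    rw [hc0, pow_zero] at hc
    exact hW1 (Subgroup.eq_bot_of_card_eq W hc)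
  have hca : c < a := by
    by_contra h0
    push Not at h0
    apply hWneΩ
    apply Subgroup.eq_of_le_of_card_ge hWΩ
    rw [ha, hc]
    exact Nat.pow_le_pow_right hs.pos h0
  have hWcard : Nat.card W = s := by
    have : c = 1 := by omega
    rw [hc, this, pow_one]
  have hΩcard : Nat.card Ω = s ^ 2 := by
    have : a = 2 := by omega
    rw [ha, this]
  -- `Ω` is elementary abelian
  have hΩcomm : ∀ x y : ↥Ω, x * y = y * x :=
    (IsPGroup.isMulCommutative_of_card_eq_prime_sq hΩcard).is_comm.comm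
  have hΩcomm' : ∀ x ∈ Ω, ∀ y ∈ Ω, x * y = y * x :=
    fun x hx y hy => congrArg Subtype.val (hΩcomm ⟨x, hx⟩ ⟨y, hy⟩)
  have hΩexp : ∀ x ∈ Ω, x ^ s = 1 := by
    intro x hx
    have hx' : x ∈ Subgroup.closure {x : G | x ∈ SE ∧ x ^ s = 1} := hΩ ▸ hx
    induction hx' using Subgroup.closure_induction with
    | mem y hy => exact hy.2
    | one => exact one_pow _
    | mul y z hy hz ihy ihz =>
      have hy' : y ∈ Ω := hΩ ▸ hy
      have hz' : z ∈ Ω := hΩ ▸ hz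
      have hcomm : Commute y z := congrArg Subtype.val (hΩcomm ⟨y, hy'⟩ ⟨z, hz'⟩)
      rw [hcomm.mul_pow, ihy (hΩ ▸ hy), ihz (hΩ ▸ hz), one_mul]
    | inv y hy ihy => rw [inv_pow, ihy (hΩ ▸ hy), inv_one]
  have hΩel : IsElementaryAbelian s Ω := ⟨⟨⟨hΩcomm⟩⟩, hΩexp⟩
  have hΩH : Ω ≤ H := hΩE.trans hEH
  have hr1 : ¬ PRankLE s 1 H := by
    intro h1
    have h2 := h1 (Ω.subgroupOf H)
      ⟨⟨fun x y => Subtype.ext (Subtype.ext
        (hΩcomm' _ (Subgroup.mem_subgroupOf.mp x.2) _ (Subgroup.mem_subgroupOf.mp y.2)))⟩⟩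
      (fun x hx => Subtype.ext (by
        rw [Subgroup.coe_pow]
        exact hΩexp _ (Subgroup.mem_subgroupOf.mp hx)))
    rw [Nat.card_congr (Subgroup.subgroupOfEquivOfLe hΩH).toEquiv, hΩcard] at h2
    have h3 := (Nat.pow_le_pow_iff_right hs.one_lt).mp h2
    omega
  have hU' : Cfsg.Agent.Lib.helper8.BGUniqHyp G :=
    fun K hK h1 h2 => Cfsg.Agent.S1403.result hG K hK h1 h2
  have hr2 : PRankLE s 2 H := by
    by_contra h
    exact hsσ (Cfsg.Agent.Lib.helper8.bg_alpha_sub_sigma hG hU' H hH ⟨hs, h⟩)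
  have hτ2 : s ∈ tau2 H := ⟨hs, hsσ, hr2, hr1⟩
  -- S1418
  obtain ⟨⟨hEN, -⟩, -, h18c⟩ := Cfsg.Agent.S1418.result hG H hH E hE s hτ2 Ω ⟨hΩE, hΩel, hΩcard⟩
  have hσW' : sigmaCore H ⊓ centralizer (W : Set G) ≠ ⊥ := by
    rw [inf_eq_left.mpr hσW]
    exact hσ1
  obtain ⟨hCW, huniq⟩ := h18c W hWΩ hWcard hσW'
  -- the element `x`
  have hΩK : Ω ⊓ centralizer (K : Set G) ≠ ⊥ := by
    intro h0
    have hKΩ : K ≤ normalizer (Ω : Set G) := hKE.trans hEN
    have hUn : ∀ e ∈ K, ∀ u ∈ Ω, e * u * e⁻¹ ∈ Ω := Subgroup.le_normalizer_iff.mp hKΩ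
    have hHn : ∀ x ∈ Ω ⊔ K, ∀ h ∈ sigmaCore H, x * h * x⁻¹ ∈ sigmaCore H :=
      fun x hx h hh => hHσn x ((sup_le hΩH hKH) hx) h hh
    have hcardΩK := card_sup_of_normalizer hKΩ (hdisjgen Ω h0)
    have hcop : Nat.Coprime (Nat.card (sigmaCore H)) (Nat.card ↥(Ω ⊔ K)) := by
      rw [← hcardΩK, hΩcard]
      exact Nat.Coprime.mul_right (Nat.Coprime.pow_right 2 hcops) hcopp
    have hff := Cfsg.Agent.Lib.helper12.ff_formula Ω K (sigmaCore H) hK1 hUn (hfpfgen Ω h0) hHn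
      hsolv hcop
    have h2 : sigmaCore H ⊓ centralizer ((Ω ⊔ K : Subgroup G) : Set G) = ⊥ := by
      rw [eq_bot_iff, ← hCK]
      exact inf_le_inf_left _
        (Subgroup.centralizer_le (by exact_mod_cast (le_sup_right : K ≤ Ω ⊔ K)))
    rw [h2, hCK, hΩc, Subgroup.card_bot, one_pow, one_mul, one_mul] at hff
    exact hσ1 (Subgroup.eq_bot_of_card_eq _ hff)
  obtain ⟨⟨x, hx⟩, hx1⟩ := Subgroup.ne_bot_iff_exists_ne_one.mp hΩK
  have hx1' : x ≠ 1 := fun h0 => hx1 (Subtype.ext h0)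
  obtain ⟨hxΩ, hxK⟩ := Subgroup.mem_inf.mp hx
  have hxo : orderOf x = s := orderOf_eq_prime (hΩexp x hxΩ) hx1'
  -- S1417: the Sylow subgroups are abelian
  have h17 := ((Cfsg.Agent.S1417.result hG H hH s hτ2 Ω ⟨hΩH, hΩel, hΩcard⟩).2.1 S).1
  have hxV : x ∈ centralizer (V : Set G) := by
    rw [Subgroup.mem_centralizer_iff]
    intro v hv
    have hxS : (⟨x, hΩH hxΩ⟩ : H) ∈ (S : Subgroup H) := by
      rw [hS]
      exact Subgroup.mem_subgroupOf.mpr (hΩSE hxΩ)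
    have hvS : (⟨v, hVH hv⟩ : H) ∈ (S : Subgroup H) := by
      rw [hS]
      exact Subgroup.mem_subgroupOf.mpr (hVSE hv)
    have h1 := h17.is_comm.comm ⟨⟨v, hVH hv⟩, hvS⟩ ⟨⟨x, hΩH hxΩ⟩, hxS⟩
    exact congrArg (fun y : ↥(S : Subgroup H) => ((y : H) : G)) h1
  exact ⟨x, W, hΩH hxΩ, hxo, hxK, hxV, hWV, hWcard, hKW, hCW, huniq, hr2⟩

end Cfsg.Agent.Lib.helper55.P2
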