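import Mathlib
import Cfsg.Agent.Lib.helper55.P2Defs
import Cfsg.Agent.Lib.helper55.P2HCtx
import Cfsg.Agent.Lib.helper27.BGKPrime
import Cfsg.Agent.Lib.helper69.BGKappaA
import Cfsg.Agent.Lib.helper12.FrobFixB
import Cfsg.Agent.Lib.helper97.BGEight1
import Cfsg.Agent.S1350
import Cfsg.Agent.S1425
import Cfsg.Agent.S1429

/-!
# S1435, piece P5 (Lemma T): a prime of `σ(M)` has rank at least 3 in the centralizer of a subgroup
of that prime order
-/

set_option autoImplicit false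

namespace Cfsg.Agent.Lib.helper55.P2

open Cfsg Subgroup

variable {G : Type*} [Group G]

/-- (P5) Lemma T. -/
theorem rank3 [Finite G] (hG : IsMinSimpleOddOrder G) {M K U Ms : Subgroup G}
    (b : Basic M K U Ms) (s : ℕ) (hs : s.Prime) (hsσ : s ∈ sigma M) (W : Subgroup G)
    (hW : Nat.card W = s) (H : Subgroup G) (hWH : centralizer (W : Set G) ≤ H)
    (hrk : PRankLE s 2 H) : False := by
  obtain ⟨hodd, -, -, -⟩ := id hG
  have : Fact s.Prime := ⟨hs⟩
  have hM := b.hM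
  have hK1 : K ≠ ⊥ := b.k_ne_bot
  have hMσM : sigmaCore M ≤ M := Cfsg.Agent.Lib.helper71.BGA.sigmaCore_le M
  have hMσn : ∀ m ∈ M, ∀ y ∈ sigmaCore M, m * y * m⁻¹ ∈ sigmaCore M :=
    Subgroup.le_normalizer_iff.mp (Cfsg.Agent.Lib.helper71.BGA.le_normalizer_sigmaCore M)
  have hW1 : W ≠ ⊥ := by
    intro h0
    rw [h0, Subgroup.card_bot] at hW
    exact hs.one_lt.ne hW
  have hWp : IsPGroup s W := IsPGroup.of_card (n := 1) (by rw [hW, pow_one])
  obtain ⟨g, hg⟩ := Cfsg.Agent.S1425.result hG M hM W hW1 (by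
    intro q hq hqW
    rw [hW] at hqW
    rw [(Nat.prime_dvd_prime_iff_eq hq hs).mp hqW]
    exact hsσ)
  -- the normal Sylow subgroup
  obtain ⟨P⟩ : Nonempty (Sylow s ↥(sigmaCore M)) := inferInstance
  have hPn : (P : Subgroup ↥(sigmaCore M)).Normal := by
    have h0 : ∀ (p : ℕ) (_hp : Fact p.Prime) (P : Sylow p ↥(sigmaCore M)),
        (↑P : Subgroup ↥(sigmaCore M)).Normal :=
      ((Group.isNilpotent_of_finite_tfae (G := ↥(sigmaCore M))).out 0 3).mp b.nil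
    exact h0 s ⟨hs⟩ P
  obtain ⟨T, hT⟩ : ∃ T : Subgroup G,
      T = (P : Subgroup ↥(sigmaCore M)).map (sigmaCore M).subtype := ⟨_, rfl⟩
  have hTσ : T ≤ sigmaCore M := hT ▸ Subgroup.map_subtype_le _
  have hTp : IsPGroup s T := hT ▸ P.isPGroup'.map _
  have hF : ∀ Q : Subgroup G, Q ≤ sigmaCore M → IsPGroup s Q → Q ≤ T := by
    intro Q hQσ hQp
    have hQ' : IsPGroup s (Q.subgroupOf (sigmaCore M)) :=
      hQp.comap_of_injective (sigmaCore M).subtype (Subgroup.subtype_injective _)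
    obtain ⟨P', hP'⟩ := hQ'.exists_le_sylow
    obtain ⟨c, hc⟩ := MulAction.exists_smul_eq ↥(sigmaCore M) P P'
    have hPP' : P' = P := by
      rw [← hc]
      exact Sylow.smul_eq_of_normal
    intro q hq
    have h1 : (⟨q, hQσ hq⟩ : ↥(sigmaCore M)) ∈ (P : Subgroup ↥(sigmaCore M)) := by
      rw [← hPP']
      exact hP' (Subgroup.mem_subgroupOf.mpr hq)
    rw [hT]
    exact ⟨⟨q, hQσ hq⟩, h1, rfl⟩
  have hWgT : W.map (MulAut.conj g).toMonoidHom ≤ T := hF _ hg (hWp.map _)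
  have hMT : ∀ m ∈ M, ∀ t ∈ T, m * t * m⁻¹ ∈ T := by
    intro m hm t ht
    have h1 : T.map (MulAut.conj m).toMonoidHom ≤ T := hF _ (by
      rintro _ ⟨y, hy, rfl⟩
      exact hMσn m hm y (hTσ hy)) (hTp.map _)
    exact h1 ⟨t, ht, rfl⟩
  -- the subgroup `Z₁ = Ω₁(Z(T))`
  obtain ⟨Z₁, hZ₁mem⟩ : ∃ Z₁ : Subgroup G,
      ∀ z, z ∈ Z₁ ↔ z ∈ T ∧ (∀ t ∈ T, t * z = z * t) ∧ z ^ s = 1 :=
    ⟨{ carrier := {z | z ∈ T ∧ (∀ t ∈ T, t * z = z * t) ∧ z ^ s = 1}
       mul_mem' := by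
        rintro a c ⟨ha, hac, has⟩ ⟨hc, hcc, hcs⟩
        refine ⟨T.mul_mem ha hc, fun t ht => ?_, ?_⟩
        · rw [← mul_assoc, hac t ht, mul_assoc, hcc t ht, ← mul_assoc]
        · have hcomm : Commute a c := hcc a ha
          rw [hcomm.mul_pow, has, hcs, one_mul]
       one_mem' := ⟨T.one_mem, fun t _ => by rw [mul_one, one_mul], one_pow _⟩
       inv_mem' := by
        rintro a ⟨ha, hac, has⟩
        refine ⟨T.inv_mem ha, fun t ht => ?_, by rw [inv_pow, has, inv_one]⟩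
        have h1 := hac t ht
        calc t * a⁻¹ = a⁻¹ * (a * t) * a⁻¹ := by group
          _ = a⁻¹ * (t * a) * a⁻¹ := by rw [h1]
          _ = a⁻¹ * t := by group }, fun z => Iff.rfl⟩
  have hZ₁T : Z₁ ≤ T := fun z hz => ((hZ₁mem z).mp hz).1
  have hZ₁σ : Z₁ ≤ sigmaCore M := hZ₁T.trans hTσ
  have hT1 : T ≠ ⊥ := by
    intro h0
    have h1 : W.map (MulAut.conj g).toMonoidHom ≤ ⊥ := h0 ▸ hWgT
    exact hW1 ((Subgroup.map_eq_bot_iff_of_injective W (MulAut.conj g).injective).mp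
      (le_bot_iff.mp h1))
  have hZ1 : Z₁ ≠ ⊥ := by
    have hnt : Nontrivial ↥T := (Subgroup.nontrivial_iff_ne_bot T).mpr hT1
    have hTp' : IsPGroup s ↥T := hTp
    have hcnt : Nontrivial (Subgroup.center ↥T) := hTp'.center_nontrivial
    have hcp : IsPGroup s (Subgroup.center ↥T) := hTp'.to_subgroup _
    obtain ⟨n, hn⟩ := IsPGroup.iff_card.mp hcp
    have hsdvd : s ∣ Nat.card (Subgroup.center ↥T) := by
      rw [hn]
      rcases Nat.eq_zero_or_pos n with h0 | h0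
      · exfalso
        rw [h0, pow_zero] at hn
        have h2 : 1 < Nat.card (Subgroup.center ↥T) := Finite.one_lt_card
        omega
      · exact dvd_pow_self s h0.ne'
    obtain ⟨z, hz⟩ := exists_prime_orderOf_dvd_card' s hsdvd
    intro h0
    have hmem : ((z : ↥T) : G) ∈ Z₁ := by
      rw [hZ₁mem]
      refine ⟨(z : ↥T).2, fun t ht => ?_, ?_⟩
      · have h1 := Subgroup.mem_center_iff.mp z.2 ⟨t, ht⟩
        exact congrArg Subtype.val h1
      · have h1 := pow_orderOf_eq_one z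
        rw [hz] at h1
        have h2 := congrArg (fun y : Subgroup.center ↥T => ((y : ↥T) : G)) h1
        simpa using h2
    rw [h0, Subgroup.mem_bot] at hmem
    have h3 : z = 1 := Subtype.ext (Subtype.ext hmem)
    rw [h3, orderOf_one] at hz
    exact hs.one_lt.ne hz
  -- `|Z₁| ≤ s ^ 2`
  have hZcard : Nat.card Z₁ ≤ s ^ 2 := by
    have hZ'H : Z₁.map (MulAut.conj g⁻¹).toMonoidHom ≤ H := by
      rintro _ ⟨z, hz, rfl⟩
      apply hWH
      rw [Subgroup.mem_centralizer_iff]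
      intro w hw
      have hz' := (hZ₁mem z).mp hz
      have h1 : g * w * g⁻¹ ∈ T := hWgT ⟨w, hw, rfl⟩
      have h2 := hz'.2.1 _ h1
      show w * (g⁻¹ * z * g⁻¹⁻¹) = g⁻¹ * z * g⁻¹⁻¹ * w
      calc w * (g⁻¹ * z * g⁻¹⁻¹) = g⁻¹ * ((g * w * g⁻¹) * z) * g := by group
        _ = g⁻¹ * (z * (g * w * g⁻¹)) * g := by rw [h2]
        _ = g⁻¹ * z * g⁻¹⁻¹ * w := by group
    have hZ'comm : ∀ a ∈ Z₁.map (MulAut.conj g⁻¹).toMonoidHom,
        ∀ c ∈ Z₁.map (MulAut.conj g⁻¹).toMonoidHom, a * c = c * a := by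
      rintro _ ⟨z, hz, rfl⟩ _ ⟨z', hz', rfl⟩
      have h1 := ((hZ₁mem z').mp hz').2.1 z (hZ₁T hz)
      rw [← map_mul, ← map_mul, h1]
    have hZ'exp : ∀ a ∈ Z₁.map (MulAut.conj g⁻¹).toMonoidHom, a ^ s = 1 := by
      rintro _ ⟨z, hz, rfl⟩
      rw [← map_pow, ((hZ₁mem z).mp hz).2.2, map_one]
    have hA := hrk ((Z₁.map (MulAut.conj g⁻¹).toMonoidHom).subgroupOf H)
      ⟨⟨fun a c => Subtype.ext (Subtype.ext
        (hZ'comm _ (Subgroup.mem_subgroupOf.mp a.2) _ (Subgroup.mem_subgroupOf.mp c.2)))⟩⟩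
      (fun a ha => Subtype.ext (by
        rw [Subgroup.coe_pow]
        exact hZ'exp _ (Subgroup.mem_subgroupOf.mp ha)))
    rw [Nat.card_congr (Subgroup.subgroupOfEquivOfLe hZ'H).toEquiv,
      Subgroup.card_map_of_injective (MulAut.conj g⁻¹).injective] at hA
    exact hA
  -- a prime of `U`
  have hUcard1 : Nat.card U ≠ 1 := fun h => b.u1 (Subgroup.eq_bot_of_card_eq U h)
  obtain ⟨r, hr, hrU⟩ := Nat.exists_prime_and_dvd hUcard1
  have : Fact r.Prime := ⟨hr⟩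
  have hHall : IsPiHallOf (sigma M) (sigmaCore M) M := (Cfsg.Agent.S1350.result hG M hM).1
  have hUh := Cfsg.Agent.Lib.helper69.bgk_decomp_hall hHall b.hKU
  have hrσ := (b.uprime r hr hrU).1
  have hrκ := (b.uprime r hr hrU).2
  have hrM : r ∣ Nat.card M := hrU.trans (Subgroup.card_dvd_of_le hUh.1)
  have hUc : IsMulCommutative U := ⟨⟨fun x y => Subtype.ext (b.uab x x.2 y y.2)⟩⟩
  obtain ⟨A, hA⟩ : ∃ A : Subgroup G, A = Cfsg.Agent.Lib.helper27.BGKP.omegaSub U hUc r :=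
    ⟨_, rfl⟩
  have hAmem : ∀ u : G, u ∈ A ↔ u ∈ U ∧ u ^ r = 1 := fun u => by rw [hA]; exact Iff.rfl
  have hAU : A ≤ U := fun a ha => ((hAmem a).mp ha).1
  have hAM : A ≤ M := hAU.trans hUh.1
  have hKA : ∀ k ∈ K, ∀ a ∈ A, k * a * k⁻¹ ∈ A := by
    intro k hk a ha
    rw [hAmem] at ha ⊢
    refine ⟨Subgroup.le_normalizer_iff.mp b.hKU.normal k hk a ha.1, ?_⟩
    rw [conj_pow, ha.2, mul_one, mul_inv_cancel]
  -- `C_{M_σ}(A) = 1`
  have hCA : sigmaCore M ⊓ centralizer (A : Set G) = ⊥ := by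
    obtain ⟨S⟩ : Nonempty (Sylow r M) := inferInstance
    have hP1 : ¬ (∀ q' : ℕ, q'.Prime → q' ∣ Nat.card M → q' ∉ sigma M → q' ∈ kappa M) :=
      fun hall => hrκ (hall r hr hrM hrσ)
    have hrn : r ∉ sigma M ∪ kappa M := by
      rintro (h | h)
      · exact hrσ h
      · exact hrκ h
    have h29 := (Cfsg.Agent.S1429.result hG M hM hP1 r hrM hrn S).2.1
    have hBM : (S : Subgroup M).map M.subtype ≤ M := Subgroup.map_subtype_le _
    have hBp : IsPGroup r ((S : Subgroup M).map M.subtype) := S.isPGroup'.map _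
    obtain ⟨c, hcM, hc⟩ := Cfsg.Agent.Lib.helper69.bgk_conj_into_hall hUh (p := r)
      ⟨hr, hrκ, hrσ⟩ hBM hBp
    rw [eq_bot_iff]
    intro y hy
    obtain ⟨hyσ, hyc⟩ := Subgroup.mem_inf.mp hy
    have hcl : Subgroup.closure {x : G | x ∈ (S : Subgroup M).map M.subtype ∧ x ^ r = 1} ≤
        centralizer ({c⁻¹ * y * c} : Set G) := by
      rw [Subgroup.closure_le]
      rintro x ⟨hxB, hxr⟩
      rw [SetLike.mem_coe, Subgroup.mem_centralizer_singleton_iff]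
      have hxA : c * x * c⁻¹ ∈ A := by
        rw [hAmem]
        exact ⟨hc x hxB, by rw [conj_pow, hxr, mul_one, mul_inv_cancel]⟩
      have hcomm := Subgroup.mem_centralizer_iff.mp hyc _ hxA
      calc x * (c⁻¹ * y * c) = c⁻¹ * ((c * x * c⁻¹) * y) * c := by group
        _ = c⁻¹ * (y * (c * x * c⁻¹)) * c := by rw [hcomm]
        _ = c⁻¹ * y * c * x := by group
    have hmem : c⁻¹ * y * c ∈ sigmaCore M ⊓ centralizer ((Subgroup.closure
        {x : G | x ∈ (S : Subgroup M).map M.subtype ∧ x ^ r = 1} : Subgroup G) : Set G) := by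
      refine Subgroup.mem_inf.mpr ⟨?_, ?_⟩
      · have h1 := hMσn c⁻¹ (M.inv_mem hcM) y hyσ
        rwa [inv_inv] at h1
      · rw [Subgroup.mem_centralizer_iff]
        intro x hx
        have h1 := hcl hx
        rw [Subgroup.mem_centralizer_singleton_iff] at h1
        exact h1
    rw [h29, Subgroup.mem_bot] at hmem
    rw [Subgroup.mem_bot]
    have h2 : y = c * (c⁻¹ * y * c) * c⁻¹ := by group
    rw [h2, hmem]
    group
  -- the fixed point formula
  have hfpf : ∀ e ∈ K, e ≠ 1 → ∀ u ∈ A, e * u = u * e → u = 1 := by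
    intro e he he1 u hu hc
    have h1 : u ∈ U ⊓ centralizer ({e} : Set G) := by
      refine Subgroup.mem_inf.mpr ⟨hAU hu, ?_⟩
      rw [Subgroup.mem_centralizer_iff]
      intro x hx
      rw [Set.mem_singleton_iff.mp hx]
      exact hc
    rw [b.ureg e he he1, Subgroup.mem_bot] at h1
    exact h1
  have hAKM : A ⊔ K ≤ M := sup_le hAM b.hKU.hall.1
  have hMZ : ∀ m ∈ M, ∀ z ∈ Z₁, m * z * m⁻¹ ∈ Z₁ := by
    intro m hm z hz
    rw [hZ₁mem] at hz ⊢
    refine ⟨hMT m hm z hz.1, fun t ht => ?_, by rw [conj_pow, hz.2.2, mul_one, mul_inv_cancel]⟩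
    have h1 : m⁻¹ * t * m ∈ T := by
      have h2 := hMT m⁻¹ (M.inv_mem hm) t ht
      rwa [inv_inv] at h2
    have h3 := hz.2.1 _ h1
    calc t * (m * z * m⁻¹) = m * ((m⁻¹ * t * m) * z) * m⁻¹ := by group
      _ = m * (z * (m⁻¹ * t * m)) * m⁻¹ := by rw [h3]
      _ = m * z * m⁻¹ * t := by group
  have hHn : ∀ x ∈ A ⊔ K, ∀ h ∈ Z₁, x * h * x⁻¹ ∈ Z₁ := fun x hx h hh => hMZ x (hAKM hx) h hh
  have hsolv : Group.IsSolvable Z₁ :=
    Cfsg.Agent.Lib.helper97.bg8_solvable hG M hM Z₁ (hZ₁σ.trans hMσM)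
  have hcopK : (Nat.card (sigmaCore M)).Coprime (Nat.card K) := by
    apply Nat.coprime_of_dvd
    intro q hq h1 h2
    have hqσ : q ∉ sigma M := (b.hKU.hall.2.1 q hq h2).2.2.1
    exact (Nat.Prime.coprime_iff_not_dvd hq).mp
      (Cfsg.Agent.Lib.helper8.bg_sigmaCore_card_coprime M hq hqσ).symm h1
  obtain ⟨n, hn⟩ : ∃ n : ℕ, Nat.card A = r ^ n := by
    have hAp : IsPGroup r A := by
      intro a
      refine ⟨1, Subtype.ext ?_⟩
      rw [pow_one, Subgroup.coe_pow]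
      exact ((hAmem a).mp a.2).2
    exact IsPGroup.iff_card.mp hAp
  have hdisj : A ⊓ K = ⊥ := by
    rw [eq_bot_iff]
    intro x hx
    rw [Subgroup.mem_bot]
    by_contra hx1
    obtain ⟨hxA, hxK⟩ := Subgroup.mem_inf.mp hx
    exact hx1 (hfpf x hxK hx1 x hxA rfl)
  have hcompl : IsComplIn A K (A ⊔ K) := by
    refine ⟨le_sup_left, le_sup_right, hdisj, fun m hm => ?_⟩
    have hnorm : K ≤ normalizer (A : Set G) := Subgroup.le_normalizer_iff.mpr hKA
    exact Cfsg.Agent.Lib.helper29.exists_mul_of_mem_sup_of_le_normalizer hnorm hm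
  have hcard : Nat.card A * Nat.card K = Nat.card ↥(A ⊔ K) :=
    Cfsg.Agent.Lib.helper29.IsComplIn.card_mul hcompl
  have hcop : Nat.Coprime (Nat.card Z₁) (Nat.card ↥(A ⊔ K)) := by
    apply Nat.Coprime.coprime_dvd_left (Subgroup.card_dvd_of_le hZ₁σ)
    rw [← hcard, hn]
    apply Nat.Coprime.mul_right
    · exact Nat.Coprime.pow_right n (Cfsg.Agent.Lib.helper8.bg_sigmaCore_card_coprime M hr hrσ)
    · exact hcopK
  have hff := Cfsg.Agent.Lib.helper12.ff_formula A K Z₁ hK1 hKA hfpf hHn hsolv hcop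
  have h1 : Z₁ ⊓ centralizer (A : Set G) = ⊥ := by
    rw [eq_bot_iff, ← hCA]
    exact inf_le_inf_right _ hZ₁σ
  have h2 : Z₁ ⊓ centralizer ((A ⊔ K : Subgroup G) : Set G) = ⊥ := by
    rw [eq_bot_iff, ← h1]
    exact inf_le_inf_left _ (Subgroup.centralizer_le (by exact_mod_cast (le_sup_left : A ≤ A ⊔ K)))
  rw [h2, h1, Subgroup.card_bot, one_pow, one_mul, mul_one] at hff
  -- arithmetic
  have hZp : IsPGroup s Z₁ := hTp.to_le hZ₁T
  obtain ⟨m, hm⟩ := IsPGroup.iff_card.mp hZp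
  have hcdvd : Nat.card ↥(Z₁ ⊓ centralizer (K : Set G)) ∣ s ^ m := by
    rw [← hm]
    exact Subgroup.card_dvd_of_le inf_le_left
  obtain ⟨j, -, hj⟩ := (Nat.dvd_prime_pow hs).mp hcdvd
  rw [hj, ← pow_mul] at hff
  have hZ1card : 1 < Nat.card Z₁ := (Subgroup.one_lt_card_iff_ne_bot Z₁).mpr hZ1
  have hj1 : 1 ≤ j := by
    by_contra h0
    have hj0 : j = 0 := by omega
    rw [hj0, zero_mul, pow_zero] at hff
    omega
  have hp3 : 3 ≤ Nat.card K := by
    have h2 := b.kprime.two_le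
    have hne2 : Nat.card K ≠ 2 := by
      intro h2'
      have hdvd : Nat.card K ∣ Nat.card G := Subgroup.card_subgroup_dvd_card K
      rw [h2'] at hdvd
      exact (Nat.not_even_iff_odd.mpr hodd) (even_iff_two_dvd.mpr hdvd)
    omega
  have hle : s ^ (j * Nat.card K) ≤ s ^ 2 := hff ▸ hZcard
  have h3 := (Nat.pow_le_pow_iff_right hs.one_lt).mp hle
  nlinarith

end Cfsg.Agent.Lib.helper55.P2
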