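import Mathlib
import Cfsg.Agent.Lib.helper55.P2Defs
import Cfsg.Agent.Lib.helper55.P2Basic
import Cfsg.Agent.Lib.helper55.P2HCtx
import Cfsg.Agent.Lib.helper55.P2P4
import Cfsg.Agent.Lib.helper55.P2P5
import Cfsg.Agent.Lib.helper58.P2P6
import Cfsg.Agent.Lib.helper58.P2P13
import Cfsg.Agent.Lib.helper71.P2P3
import Cfsg.Agent.Lib.helper98.P2P11
import Cfsg.Agent.Lib.helper98.P2P12
import Cfsg.Agent.Lib.helper98.P2P14
import Cfsg.Agent.Lib.helper98.P2P15
import Cfsg.Agent.Lib.helper27.BGKPrime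
import Cfsg.Agent.Lib.helper60.BGCentU
import Cfsg.Agent.Lib.helper87.BG1425Main
import Cfsg.Agent.S1420

/-!
# S1435 (B-G "P2-type signalizer"): assembly of the pieces

`p2_main` is the frozen statement S1435 with the first clause of S1368 (`hZ`) and the second clause
of S1369 (`hconj`) as hypotheses.
-/

set_option autoImplicit false

namespace Cfsg.Agent.Lib.helper55.P2

open Cfsg Subgroup
open scoped commutatorElement

variable {G : Type*} [Group G]

/-- (P7) no fixed-point-free abelian `s`-section. -/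
theorem nov [Finite G] (hG : IsMinSimpleOddOrder G) {M K U Ms H : Subgroup G}
    (b : Basic M K U Ms) (h : HCtx K U H) (s : ℕ) (hs : s.Prime) (hsp : s ≠ Nat.card K)
    (hsσ : s ∉ sigma H) (V : Subgroup G) (hVH : V ≤ H)
    (hVc : ∀ a ∈ V, ∀ b ∈ V, a * b = b * a) (hVs : IsPGroup s V) (hV1 : V ≠ ⊥)
    (hKV : K ≤ normalizer (V : Set G)) (hVK : V ⊓ centralizer (K : Set G) = ⊥) : False := by
  obtain ⟨x, W, hxH, hxo, hxK, hxV, hWV, hWs, hKW, hCW, huniq, hrk⟩ :=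
    sig_absorb hG H h.hH h.hκ K h.hKH b.kprime h.pσ h.hCK s hs hsp hsσ V hVH hVc hVs hV1 hKV hVK
  have hxW : x ∈ centralizer (W : Set G) := Subgroup.centralizer_le hWV hxV
  have hWK : W ⊓ centralizer (K : Set G) = ⊥ := by
    rw [eq_bot_iff, ← hVK]
    exact inf_le_inf_right _ hWV
  have hT : s ∉ sigma M := fun hsM => rank3 hG b s hs hsM W hWs H hCW hrk
  exact star_kill hG b h s hs hsp hsσ hT x W hxH hxo hxK hxW hWs hKW hWK hCW huniq

/-- (P10) clause (b). -/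
theorem p2_U_le [Finite G] (hG : IsMinSimpleOddOrder G) {M K U Ms H : Subgroup G}
    (b : Basic M K U Ms) (h : HCtx K U H) : U ≤ sigmaCore H := by
  have hUc : IsMulCommutative U := ⟨⟨fun x y => Subtype.ext (b.uab x x.2 y y.2)⟩⟩
  apply Cfsg.Agent.Lib.helper87.BG133.le_sigmaCore_of_pi hG H h.hH U h.hUH
  intro s hs hsU
  by_contra hsσ
  have hK1 : K ≠ ⊥ := by
    intro h0
    have h1 := b.kprime
    rw [h0, Subgroup.card_bot] at h1
    exact Nat.not_prime_one h1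
  have hpκ : Nat.card K ∈ kappa M := b.hKU.hall.2.1 _ b.kprime dvd_rfl
  have hsp : s ≠ Nat.card K := by
    intro h0
    exact (b.uprime s hs hsU).2 (h0 ▸ hpκ)
  obtain ⟨V, hV⟩ : ∃ V : Subgroup G, V = Cfsg.Agent.Lib.helper27.BGKP.omegaSub U hUc s := ⟨_, rfl⟩
  have hVmem : ∀ u : G, u ∈ V ↔ u ∈ U ∧ u ^ s = 1 := fun u => by rw [hV]; exact Iff.rfl
  have hVU : V ≤ U := fun a ha => ((hVmem a).mp ha).1
  have : Fact s.Prime := ⟨hs⟩
  have hV1 : V ≠ ⊥ := by
    obtain ⟨u, hu⟩ := exists_prime_orderOf_dvd_card' s hsU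
    intro h0
    have hmem : (u : G) ∈ V := by
      rw [hVmem]
      refine ⟨u.2, ?_⟩
      have h1 := pow_orderOf_eq_one u
      rw [hu] at h1
      have h2 := congrArg Subtype.val h1
      rwa [Subgroup.coe_pow] at h2
    rw [h0, Subgroup.mem_bot] at hmem
    have h3 : u = 1 := Subtype.ext hmem
    rw [h3, orderOf_one] at hu
    exact hs.one_lt.ne hu
  have hKV : K ≤ normalizer (V : Set G) := by
    apply Subgroup.le_normalizer_iff.mpr
    intro k hk a ha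
    rw [hVmem] at ha ⊢
    refine ⟨Subgroup.le_normalizer_iff.mp b.hKU.normal k hk a ha.1, ?_⟩
    rw [conj_pow, ha.2, mul_one, mul_inv_cancel]
  have hVs : IsPGroup s V := by
    intro a
    refine ⟨1, Subtype.ext ?_⟩
    rw [pow_one, Subgroup.coe_pow]
    exact ((hVmem a).mp a.2).2
  have hVK : V ⊓ centralizer (K : Set G) = ⊥ := by
    obtain ⟨⟨k, hk⟩, hk1⟩ := Subgroup.ne_bot_iff_exists_ne_one.mp hK1
    have hk1' : k ≠ 1 := fun h0 => hk1 (Subtype.ext h0)
    rw [eq_bot_iff, ← b.ureg k hk hk1']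
    exact inf_le_inf hVU (Subgroup.centralizer_le (Set.singleton_subset_iff.mpr hk))
  exact nov hG b h s hs hsp hsσ V (hVU.trans h.hUH) (fun a ha c hc => b.uab a (hVU ha) c (hVU hc))
    hVs hV1 hKV hVK

/-- S1435 from S1368 (first clause, `hZ`) and S1369 (second clause, `hconj`). -/
theorem p2_main [Finite G] (hG : IsMinSimpleOddOrder G)
    (M : Subgroup G) (hM : IsCoatom M) (K U : Subgroup G) (hKU : IsSigmaDecomposition M K U)
    (hK1 : K ≠ ⊥) (hU1 : U ≠ ⊥) (Ms : Subgroup G) (hMs : IsCoatom Ms)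
    (hKst : K = sigmaCore Ms ⊓ centralizer ((sigmaCore M ⊓ centralizer (K : Set G)) : Set G))
    (hKstH : IsPiHallOf (kappa Ms) (sigmaCore M ⊓ centralizer (K : Set G)) Ms)
    (hZ : M ⊓ Ms = K ⊔ (sigmaCore M ⊓ centralizer (K : Set G)))
    (hconj : ∀ H : Subgroup G, IsCoatom H → (kappa H).Nonempty →
      ∃ g : G, H = M.map (MulAut.conj g).toMonoidHom ∨ H = Ms.map (MulAut.conj g).toMonoidHom)
    (r : ℕ) [Fact r.Prime] (hr : r ∣ Nat.card U) (R : Sylow r U) (H : Subgroup G) (hH : IsCoatom H)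
    (hNR : normalizer (((R : Subgroup U).map U.subtype : Subgroup G) : Set G) ≤ H) :
    kappa H = ∅ ∧ U ≤ sigmaCore H ∧ M ⊓ H = U ⊔ K ∧ ¬ H ⊓ normalizer (U : Set G) ≤ M ∧
      K ≤ fittingOf (H ⊓ Ms) ∧ IsComplIn (H ⊓ Ms) (sigmaCore H) H := by
  have b := p2_basic hG M hM K U hKU hK1 hU1 Ms hMs hKst hKstH hZ
  obtain ⟨hUH, hKH, hCU, hnc⟩ := p2_step0 hG b r hr R H hH hNR
  have h := p2_hctx hG b hconj H hH hUH hKH hnc
  have hUσ := p2_U_le hG b h
  have hint := p2_inter hG b h hUσ hCU hnc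
  have hHM : H ≠ M := by
    intro h0
    apply hnc 1
    rw [h0]
    ext y
    simp
  have hd := p2_norm hG b h hUσ hint hHM
  have hσs := p2_sigma_inter hG b h
  obtain ⟨E, hE, hKE⟩ := Cfsg.Agent.Lib.helper60.BGCentU.exists_compl_ge hG H hH K hKH (by
    intro q hq hqK
    have h1 : q = Nat.card K := ((Nat.prime_dvd_prime_iff_eq hq b.kprime).mp hqK)
    rw [h1]
    exact h.pσ)
  have hDE : ⁅E, E⁆ ≤ E := by
    rw [Subgroup.commutator_le]
    intro a ha c hc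
    exact E.mul_mem (E.mul_mem (E.mul_mem ha hc) (E.inv_mem ha)) (E.inv_mem hc)
  have hDc : ∀ a ∈ ⁅E, E⁆, ∀ c ∈ ⁅E, E⁆, a * c = c * a := by
    have h20 := (Cfsg.Agent.S1420.result hG H hH E hE).2.1
    intro a ha c hc
    exact congrArg Subtype.val (h20.is_comm.comm ⟨a, ha⟩ ⟨c, hc⟩)
  have hKD : K ≤ normalizer ((⁅E, E⁆ : Subgroup G) : Set G) := by
    apply Subgroup.le_normalizer_iff.mpr
    intro k hk a ha
    have h1 : ⁅k, a⁆ ∈ ⁅E, E⁆ := Subgroup.commutator_mem_commutator (hKE hk) (hDE ha)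
    have h2 : k * a * k⁻¹ = ⁅k, a⁆ * a := by
      rw [commutatorElement_def]; group
    rw [h2]
    exact Subgroup.mul_mem _ h1 ha
  have hcent := k_cent_abelian hG h b.kprime
    (fun s hs hsp hsσ V hVH hVc hVs hV1 hKV hVK => nov hG b h s hs hsp hsσ V hVH hVc hVs hV1 hKV hVK)
    E hE hKE ⁅E, E⁆ hDE hDc hKD
  obtain ⟨hEq, hfit⟩ := p2_ef hG b h hσs E hE hKE hcent
  refine ⟨h.hκ, hUσ, hint, hd, ?_, ?_⟩
  · rw [hEq]; exact hfit
  · rw [hEq]; exact hE

end Cfsg.Agent.Lib.helper55.P2
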