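import Mathlib

/-!
Racer copy (helper55) of leaf FF (`rank_transport`) of the S5238R split (architect helper88):
transport of a generating set from `↥S` to the ambient group.
-/

set_option autoImplicit false

namespace Cfsg.Agent.Lib.helper88.PearlF

/-- FF (racer copy, helper55) -/
theorem h55_rank_transport {Ω : Type*} [Group Ω] (p : ℕ) (S H : Subgroup Ω) (hHS : H ≤ S)
    (h : ∃ T : Finset ↥S, T.card ≤ p ∧ Subgroup.closure (T : Set ↥S) = H.subgroupOf S) :
    ∃ T : Finset Ω, T.card ≤ p ∧ Subgroup.closure (T : Set Ω) = H := by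
  classical
  obtain ⟨T, hT, hcl⟩ := h
  refine ⟨T.image S.subtype, Finset.card_image_le.trans hT, ?_⟩
  rw [Finset.coe_image, ← MonoidHom.map_closure, hcl]
  exact Subgroup.map_subgroupOf_eq_of_le hHS

end Cfsg.Agent.Lib.helper88.PearlF
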