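import Mathlib
import Cfsg.Agent.Lib.helper3.QdFusion
import Cfsg.Agent.Lib.helper39.KSeq
import Cfsg.Prelude.Def_ConjugacyFunctors
import Cfsg.Prelude.Def_LocalEven

/-!
# The lower K-infinity subgroup does not control strong fusion in `Qd(p)`

Seat `helper55`.  The unitriangular Sylow `p`-subgroup `S` of the affine group `Qd(p)` has class
two, so its lower K-infinity subgroup is `S` itself; `N(S)` normalizes `Z(S)`, while the rotation
moves the central translation `(1, 0)` to a translation that is not central in `S`.  The proof of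
the fusion part follows `Cfsg.Agent.Lib.helper3.exists_sylow_not_controls_aff`.
-/

set_option autoImplicit false

namespace Cfsg.Agent.Lib.helper55.QdKInf

open Cfsg Cfsg.Agent.Lib.helper51 Cfsg.Agent.Lib.helper3 Cfsg.Agent.Lib.helper39

open scoped commutatorElement

universe u

/-- For a group of class at most two the lower K-infinity subgroup is the whole group. -/
theorem kInfLower_eq_top_of_classTwo {P : Type u} [Group P]
    (h : ⁅⁅(⊤ : Subgroup P), (⊤ : Subgroup P)⁆, (⊤ : Subgroup P)⁆ = ⊥) : kInfLower P = ⊤ := by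
  apply top_le_iff.mp
  have h1 : (⊤ : Subgroup P) ∈ kLowerStarFamily (kSeqOdd P 0) := by
    rw [mem_kLowerStarFamily_iff]
    refine ⟨h, le_top, fun A _ _ _ _ _ => ⟨le_top, ?_⟩⟩
    apply le_bot_iff.mp
    rw [← h]
    exact Subgroup.commutator_mono (Subgroup.commutator_mono le_rfl le_top) le_rfl
  calc (⊤ : Subgroup P) ≤ sSup (kLowerStarFamily (kSeqOdd P 0)) := le_sSup h1
    _ = kSeqEven P 0 := rfl
    _ ≤ kInfLower P := le_iSup (kSeqEven P) 0

section Ring

variable {R : Type*} [CommRing R]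

theorem affB_inv_affS (s : ↥(affS R)) : affB (s⁻¹).1 = - affB s.1 := by
  have h := affB_mul_affS s s⁻¹
  rw [mul_inv_cancel, Subgroup.coe_one, affB_one] at h
  linear_combination -h

theorem affY_inv_affS (s : ↥(affS R)) : affY (s⁻¹).1 = - affY s.1 := by
  have h := affY_mul_affS s s⁻¹
  rw [mul_inv_cancel, Subgroup.coe_one, affY_one] at h
  linear_combination -h

/-- The unitriangular group has class at most two. -/
theorem affS_comm_commute (a b c : ↥(affS R)) :
    (a * b * a⁻¹ * b⁻¹) * c = c * (a * b * a⁻¹ * b⁻¹) := by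
  rw [affS_commute_iff]
  simp only [affB_mul_affS, affY_mul_affS, affB_inv_affS, affY_inv_affS]
  ring

end Ring

/-- In a group isomorphic to the affine group `Qd(p)` some Sylow `p`-subgroup `T` has its lower
K-infinity subgroup not controlling strong fusion. -/
theorem exists_sylow_not_controls_kInf_aff (p : ℕ) [Fact p.Prime] {X : Type u} [Group X]
    [Finite X] (e : X ≃* ↥(affSubgroup (ZMod p))) :
    ∃ T : Sylow p X, ¬ Cfsg.ControlsStrongFusion p
      (Cfsg.inducedFunctor Cfsg.kInfLower (T : Subgroup X)) := by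
  classical
  obtain ⟨f, hf⟩ : ∃ f : X →* ↥(affSubgroup (ZMod p)), f = e.toMonoidHom := ⟨_, rfl⟩
  have hfi : Function.Injective f := by rw [hf]; exact e.injective
  have hfs : Function.Surjective f := by rw [hf]; exact e.surjective
  obtain ⟨T, hTc⟩ : ∃ T : Sylow p X, (T : Subgroup X) = (affS (ZMod p)).comap f :=
    ⟨(affSylow (ZMod p) p).comapOfInjective f hfi (by
      rw [MonoidHom.range_eq_top.mpr hfs]; exact le_top), rfl⟩
  have hmemT : ∀ t : X, t ∈ (T : Subgroup X) ↔ f t ∈ affS (ZMod p) := by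
    intro t; rw [hTc]; exact Subgroup.mem_comap
  refine ⟨T, ?_⟩
  -- class two
  have hcl : ⁅⁅(⊤ : Subgroup ↥(T : Subgroup X)), (⊤ : Subgroup ↥(T : Subgroup X))⁆,
      (⊤ : Subgroup ↥(T : Subgroup X))⁆ = ⊥ := by
    rw [Subgroup.commutator_eq_bot_iff_le_centralizer, Subgroup.commutator_le]
    intro a _ b _
    rw [Subgroup.mem_centralizer_iff]
    intro c _
    apply Subtype.ext
    apply hfi
    have ha : f (a : X) ∈ affS (ZMod p) := (hmemT _).mp a.2
    have hb : f (b : X) ∈ affS (ZMod p) := (hmemT _).mp b.2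
    have hc : f (c : X) ∈ affS (ZMod p) := (hmemT _).mp c.2
    have key := affS_comm_commute (⟨f (a : X), ha⟩ : ↥(affS (ZMod p))) ⟨f (b : X), hb⟩
      ⟨f (c : X), hc⟩
    have key' := congrArg (Subtype.val : ↥(affS (ZMod p)) → ↥(affSubgroup (ZMod p))) key
    rw [commutatorElement_def]
    simp only [Subgroup.coe_mul, Subgroup.coe_inv, map_mul, map_inv] at key' ⊢
    exact key'.symm
  have hW : Cfsg.inducedFunctor Cfsg.kInfLower (T : Subgroup X) = (T : Subgroup X) := by
    unfold Cfsg.inducedFunctor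
    rw [kInfLower_eq_top_of_classTwo hcl, ← MonoidHom.range_eq_map, Subgroup.range_subtype]
  rintro ⟨T', hUT', hctl⟩
  rw [hW] at hUT' hctl
  -- the central translation
  obtain ⟨z, hz⟩ := hfs (mkAffS (0 : ZMod p) 1 0).1
  obtain ⟨t₀, ht₀⟩ := hfs (mkAffS (1 : ZMod p) 0 0).1
  obtain ⟨g, hg⟩ := hfs (affRot (ZMod p))
  have hzT : z ∈ (T : Subgroup X) := by rw [hmemT, hz]; exact (mkAffS _ _ _).2
  have ht₀T : t₀ ∈ (T : Subgroup X) := by rw [hmemT, ht₀]; exact (mkAffS _ _ _).2
  have hfzV : f z ∈ affV (ZMod p) := by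
    rw [hz]
    exact ⟨(mkAffS (0 : ZMod p) 1 0).2.1, affB_mkAffS _ _ _, (mkAffS (0 : ZMod p) 1 0).2.2.1,
      (mkAffS (0 : ZMod p) 1 0).2.2.2⟩
  -- `z` is central in `T`
  have hzc : ∀ t ∈ (T : Subgroup X), z * t = t * z := by
    intro t ht
    apply hfi
    have ht' : f t ∈ affS (ZMod p) := (hmemT _).mp ht
    have hz' : f z ∈ affS (ZMod p) := (hmemT _).mp hzT
    have key := (affS_commute_iff (⟨f z, hz'⟩ : ↥(affS (ZMod p))) ⟨f t, ht'⟩).mpr (by
      show affB (f z) * affY (f t) = affB (f t) * affY (f z)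
      rw [hz, affB_mkAffS, affY_mkAffS]; ring)
    have key' := congrArg (Subtype.val : ↥(affS (ZMod p)) → ↥(affSubgroup (ZMod p))) key
    rw [map_mul, map_mul]
    exact key'
  -- the normal `p`-subgroup `V` of `X`
  have hVn : ((affV (ZMod p)).comap f).Normal := Subgroup.Normal.comap inferInstance f
  have hVp : IsPGroup p ↥((affV (ZMod p)).comap f) :=
    IsPGroup.comap_of_injective ((isPGroup_affS p).to_le affV_le_affS) f hfi
  have hVT' : (affV (ZMod p)).comap f ≤ (T' : Subgroup X) :=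
    Cfsg.Agent.Lib.helper14.normal_pgroup_le_sylow hVn hVp T'
  have hA : ({z} : Set X) ⊆ ((T' : Subgroup X) : Set X) := by
    rintro _ rfl
    exact hUT' hzT
  obtain ⟨-, hc⟩ := hctl {z} hA
  have hconjV : f (g * z * g⁻¹) ∈ affV (ZMod p) := by
    rw [map_mul, map_mul, map_inv]
    exact (inferInstance : (affV (ZMod p)).Normal).conj_mem _ hfzV _
  obtain ⟨x, hx, hxz⟩ := hc g (by
    rintro _ ⟨a, rfl, rfl⟩
    exact hVT' hconjV)
  have h1 := hxz z rfl
  -- `x z x⁻¹` commutes with `t₀`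
  have h2 : x⁻¹ * t₀ * x ∈ (T : Subgroup X) := (Subgroup.mem_normalizer_iff''.mp hx t₀).mp ht₀T
  have h3 := hzc _ h2
  have h4 : (x * z * x⁻¹) * t₀ = t₀ * (x * z * x⁻¹) := by
    have : x * (z * (x⁻¹ * t₀ * x)) * x⁻¹ = x * ((x⁻¹ * t₀ * x) * z) * x⁻¹ := by rw [h3]
    calc (x * z * x⁻¹) * t₀ = x * (z * (x⁻¹ * t₀ * x)) * x⁻¹ := by group
      _ = x * ((x⁻¹ * t₀ * x) * z) * x⁻¹ := this
      _ = t₀ * (x * z * x⁻¹) := by group
  rw [← h1] at h4
  have h5 := congrArg f h4
  rw [map_mul, map_mul (f := f) t₀] at h5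
  have hcS : f (g * z * g⁻¹) ∈ affS (ZMod p) := affV_le_affS hconjV
  have ht₀S : f t₀ ∈ affS (ZMod p) := (hmemT _).mp ht₀T
  have h6 : (⟨f (g * z * g⁻¹), hcS⟩ : ↥(affS (ZMod p))) * ⟨f t₀, ht₀S⟩ =
      ⟨f t₀, ht₀S⟩ * ⟨f (g * z * g⁻¹), hcS⟩ := Subtype.ext h5
  rw [affS_commute_iff] at h6
  have h7 : affB (f (g * z * g⁻¹)) * affY (f t₀) = affB (f t₀) * affY (f (g * z * g⁻¹)) := h6
  have h8 : affY (f (g * z * g⁻¹)) = 1 := by
    rw [map_mul, map_mul, map_inv, hg, affY_rot_conj hfzV, hz, affX_mkAffS]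
  rw [h8, ht₀, affY_mkAffS, affB_mkAffS] at h7
  simp at h7

/-- In a group isomorphic to `Qd(p)` some Sylow `p`-subgroup `T` has its lower K-infinity
subgroup not controlling strong fusion. -/
theorem exists_sylow_not_controls_kInf_qd (p : ℕ) [Fact p.Prime] {X : Type u} [Group X]
    [Finite X] (e : X ≃* ↥(Cfsg.qd p)) :
    ∃ T : Sylow p X, ¬ Cfsg.ControlsStrongFusion p
      (Cfsg.inducedFunctor Cfsg.kInfLower (T : Subgroup X)) :=
  exists_sylow_not_controls_kInf_aff p (e.trans (MulEquiv.subgroupCongr (qd_eq p)))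

end Cfsg.Agent.Lib.helper55.QdKInf
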