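import Mathlib
import Cfsg.Agent.Lib.helper51.QdStruct
import Cfsg.Agent.Lib.helper51.QdSylow
import Cfsg.Agent.Lib.helper51.Amalgam
import Cfsg.Prelude.Def_LocalEven

/-!
# `Qd(p)` is not `p`-stable

Seat `helper55`.  A group isomorphic to the affine group `F_p² ⋊ SL₂(p)` is not `p`-stable in the
normalizer form: a transvection acts quadratically on the translation subgroup `V`, but
`O_p(Qd(p)/V) = O_p(SL₂(p)) = 1`.
-/

set_option autoImplicit false

namespace Cfsg.Agent.Lib.helper55.QdNotStable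

open Cfsg.Agent.Lib.helper51

open scoped commutatorElement

universe u

section Ring

variable {R : Type*} [CommRing R]

/-- The transvection `[[1,1],[0,1]]` (with zero translation part). -/
def affT (R : Type*) [CommRing R] : ↥(affSubgroup R) := mkAff 1 1 0 1 0 0 (by ring)

theorem affT_mem_affS : affT R ∈ affS R :=
  ⟨affA_mkAff _ _ _ _ _ _ _, affC_mkAff _ _ _ _ _ _ _, affD_mkAff _ _ _ _ _ _ _⟩

/-- `[[V, S], S] = 1` for the translation subgroup `V` and the unitriangular subgroup `S`. -/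
theorem comm_comm_affV_affS : ⁅⁅affV R, affS R⁆, affS R⁆ = ⊥ := by
  rw [Subgroup.commutator_eq_bot_iff_le_centralizer, Subgroup.commutator_le]
  intro v hv s hs
  rw [Subgroup.mem_centralizer_iff]
  intro s' hs'
  have hvi : v⁻¹ ∈ affV R := inv_mem hv
  have hu : s * v⁻¹ * s⁻¹ ∈ affV R := affV_normal.conj_mem _ hvi s
  have hwe : ⁅v, s⁆ = v * (s * v⁻¹ * s⁻¹) := by rw [commutatorElement_def]; group
  have hw : ⁅v, s⁆ ∈ affV R := by rw [hwe]; exact mul_mem hv hu
  have hwY : affY ⁅v, s⁆ = 0 := by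
    rw [hwe, affY_mul, affY_conj_of_mem_affV s hvi, affY_inv, affX_inv, hv.2.2.1, hv.2.2.2,
      hv.1, hv.2.1, hs.2.1, hs.2.2]
    ring
  have hc : s' * ⁅v, s⁆ * s'⁻¹ ∈ affV R := affV_normal.conj_mem _ hw s'
  have key : s' * ⁅v, s⁆ * s'⁻¹ = ⁅v, s⁆ := by
    apply aff_ext
    · rw [hc.1, hw.1]
    · rw [hc.2.1, hw.2.1]
    · rw [affX_conj_of_mem_affV s' hw, hs'.1, hwY]; ring
    · rw [hc.2.2.1, hw.2.2.1]
    · rw [hc.2.2.2, hw.2.2.2]
    · rw [affY_conj_of_mem_affV s' hw, hs'.2.1, hs'.2.2, hwY]; ring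
  calc s' * ⁅v, s⁆ = s' * ⁅v, s⁆ * s'⁻¹ * s' := by group
    _ = ⁅v, s⁆ * s' := by rw [key]

/-- The translation subgroup is self-centralizing. -/
theorem centralizer_affV_le [Nontrivial R] :
    Subgroup.centralizer (affV R : Set ↥(affSubgroup R)) ≤ affV R := by
  intro a ha
  rw [Subgroup.mem_centralizer_iff] at ha
  have hv1 : mkAff (1 : R) 0 0 1 1 0 (by ring) ∈ affV R :=
    ⟨affA_mkAff _ _ _ _ _ _ _, affB_mkAff _ _ _ _ _ _ _, affC_mkAff _ _ _ _ _ _ _,
      affD_mkAff _ _ _ _ _ _ _⟩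
  have hv2 : mkAff (1 : R) 0 0 1 0 1 (by ring) ∈ affV R :=
    ⟨affA_mkAff _ _ _ _ _ _ _, affB_mkAff _ _ _ _ _ _ _, affC_mkAff _ _ _ _ _ _ _,
      affD_mkAff _ _ _ _ _ _ _⟩
  have h1 := ha _ hv1
  have h2 := ha _ hv2
  have h1' : a * mkAff (1 : R) 0 0 1 1 0 (by ring) * a⁻¹ = mkAff (1 : R) 0 0 1 1 0 (by ring) := by
    rw [← h1]; group
  have h2' : a * mkAff (1 : R) 0 0 1 0 1 (by ring) * a⁻¹ = mkAff (1 : R) 0 0 1 0 1 (by ring) := by
    rw [← h2]; group
  have hx1 := congrArg affX h1'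
  have hy1 := congrArg affY h1'
  have hx2 := congrArg affX h2'
  have hy2 := congrArg affY h2'
  rw [affX_conj_of_mem_affV a hv1, affX_mkAff, affY_mkAff] at hx1
  rw [affY_conj_of_mem_affV a hv1, affX_mkAff, affY_mkAff] at hy1
  rw [affX_conj_of_mem_affV a hv2, affX_mkAff, affY_mkAff] at hx2
  rw [affY_conj_of_mem_affV a hv2, affX_mkAff, affY_mkAff] at hy2
  exact ⟨by linear_combination hx1, by linear_combination hx2, by linear_combination hy1,
    by linear_combination hy2⟩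

end Ring

/-- A group isomorphic to the affine group over `F_p` is not `p`-stable in the normalizer form. -/
theorem not_isNormalizerPStable_of_mulEquiv {X : Type u} [Group X] (p : ℕ) [Fact p.Prime]
    (e : X ≃* ↥(affSubgroup (ZMod p))) : ¬ Cfsg.IsNormalizerPStable p X := by
  intro hst
  have hVp : IsPGroup p ↥(affV (ZMod p)) := (isPGroup_affS p).to_le affV_le_affS
  obtain ⟨P, hPdef⟩ : ∃ P : Subgroup X, P = (affV (ZMod p)).comap e.toMonoidHom := ⟨_, rfl⟩
  have hPn : P.Normal := by rw [hPdef]; exact affV_normal.comap _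
  have hPp : IsPGroup p P := by
    rw [hPdef]
    exact hVp.comap_of_injective e.toMonoidHom e.injective
  obtain ⟨g, hgdef⟩ : ∃ g : X, g = e.symm (affT (ZMod p)) := ⟨_, rfl⟩
  have heg : e g = affT (ZMod p) := by rw [hgdef]; exact e.apply_symm_apply _
  have htop : ∀ x : X, x ∈ Subgroup.normalizer (P : Set X) := by
    intro x
    rw [Subgroup.normalizer_eq_top_iff.mpr hPn]; exact Subgroup.mem_top _
  have hquad : ⁅⁅P, Subgroup.zpowers g⁆, Subgroup.zpowers g⁆ = ⊥ := by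
    have hmapP : P.map e.toMonoidHom = affV (ZMod p) := by
      rw [hPdef]; exact Subgroup.map_comap_eq_self_of_surjective e.surjective _
    have hmapZ : (Subgroup.zpowers g).map e.toMonoidHom = Subgroup.zpowers (affT (ZMod p)) := by
      rw [MonoidHom.map_zpowers]
      exact congrArg Subgroup.zpowers heg
    have h1 : (⁅⁅P, Subgroup.zpowers g⁆, Subgroup.zpowers g⁆).map e.toMonoidHom = ⊥ := by
      rw [Subgroup.map_commutator, Subgroup.map_commutator, hmapP, hmapZ]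
      have hle : Subgroup.zpowers (affT (ZMod p)) ≤ affS (ZMod p) := by
        rw [Subgroup.zpowers_le]; exact affT_mem_affS
      have h2 := Subgroup.commutator_mono (Subgroup.commutator_mono (le_refl (affV (ZMod p))) hle)
        hle
      rw [comm_comm_affV_affS] at h2
      exact le_bot_iff.mp h2
    exact (Subgroup.map_eq_bot_iff_of_injective _ e.injective).mp h1
  have hmem := hst P hPp g (htop g) hquad
  obtain ⟨D, hD⟩ : ∃ D : Subgroup ↥(Subgroup.normalizer (P : Set X)),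
      D = (Cfsg.pCore p (↥(Subgroup.normalizer (P : Set X)) ⧸
        (Subgroup.centralizer (P : Set X)).subgroupOf (Subgroup.normalizer (P : Set X)))).comap
        (QuotientGroup.mk' ((Subgroup.centralizer (P : Set X)).subgroupOf
          (Subgroup.normalizer (P : Set X)))) := ⟨_, rfl⟩
  have hDn : D.Normal := by rw [hD]; exact (pCore_normal p _).comap _
  have hgD : (⟨g, htop g⟩ : ↥(Subgroup.normalizer (P : Set X))) ∈ D := by rw [hD]; exact hmem
  have hDpow : ∀ d ∈ D, ∃ k : ℕ, (d : X) ^ (p ^ k) ∈ Subgroup.centralizer (P : Set X) := by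
    intro d hd
    rw [hD] at hd
    obtain ⟨k, hk⟩ := (isPGroup_pCore (p := p)) ⟨_, hd⟩
    refine ⟨k, ?_⟩
    have h1 := congrArg Subtype.val hk
    rw [Subgroup.coe_pow, Subgroup.coe_one, ← map_pow, QuotientGroup.mk'_apply,
      QuotientGroup.eq_one_iff, Subgroup.mem_subgroupOf] at h1
    simpa using h1
  obtain ⟨D₂, hD₂⟩ : ∃ D₂ : Subgroup ↥(affSubgroup (ZMod p)),
      D₂ = (D.map (Subgroup.normalizer (P : Set X)).subtype).map e.toMonoidHom := ⟨_, rfl⟩
  have hD₂mem : ∀ a, a ∈ D₂ ↔ ∃ d ∈ D, e (d : X) = a := by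
    intro a
    rw [hD₂]
    constructor
    · rintro ⟨x, ⟨d, hd, rfl⟩, rfl⟩
      exact ⟨d, hd, rfl⟩
    · rintro ⟨d, hd, rfl⟩
      exact ⟨_, ⟨d, hd, rfl⟩, rfl⟩
  have hD₂n : D₂.Normal := by
    constructor
    intro a ha b
    obtain ⟨d, hd, rfl⟩ := (hD₂mem a).mp ha
    obtain ⟨x, rfl⟩ := e.surjective b
    refine (hD₂mem _).mpr ⟨⟨x, htop x⟩ * d * ⟨x, htop x⟩⁻¹, hDn.conj_mem d hd _, ?_⟩
    simp
  have hD₂p : IsPGroup p D₂ := by
    rintro ⟨a, ha⟩
    obtain ⟨d, hd, rfl⟩ := (hD₂mem a).mp ha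
    obtain ⟨k, hk⟩ := hDpow d hd
    have h1 : (e (d : X)) ^ (p ^ k) ∈ affV (ZMod p) := by
      apply centralizer_affV_le
      rw [Subgroup.mem_centralizer_iff]
      intro v hv
      obtain ⟨x, rfl⟩ := e.surjective v
      have hxP : x ∈ P := by rw [hPdef]; exact hv
      have h2 := (Subgroup.mem_centralizer_iff.mp hk) x hxP
      rw [← map_pow, ← map_mul, ← map_mul, h2]
    obtain ⟨j, hj⟩ := hVp ⟨_, h1⟩
    refine ⟨k + j, Subtype.ext ?_⟩
    have h3 := congrArg Subtype.val hj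
    simp only [Subgroup.coe_pow, Subgroup.coe_one] at h3 ⊢
    rw [pow_add, pow_mul]
    exact h3
  have hle := le_pCore hD₂n hD₂p
  rw [pCore_affSubgroup p] at hle
  have ht : affT (ZMod p) ∈ D₂ := (hD₂mem _).mpr ⟨⟨g, htop g⟩, hgD, heg⟩
  have h0 := (hle ht).2.1
  rw [affT, affB_mkAff] at h0
  exact one_ne_zero h0

end Cfsg.Agent.Lib.helper55.QdNotStable
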