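import Mathlib

/-!
Racer copy (helper55) of leaf EVEN (`qfu_even_card`) of the S5977U sub-split (architect helper2):
a matrix whose square is a nonsquare scalar lives in even dimension (determinant).
-/

set_option autoImplicit false

namespace Cfsg.Agent.Lib.helper2

/-- EVEN (racer copy, helper55) -/
theorem h55_qfu_even_card {F : Type*} [Field F] {ι : Type} [Fintype ι] [DecidableEq ι]
    (δ : F) (hδ : ∀ r : F, r ^ 2 ≠ δ + 0 * r) (κ : Matrix ι ι F)
    (hκ : κ * κ = δ • (1 : Matrix ι ι F)) : Even (Fintype.card ι) := by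
  by_contra hodd
  rw [Nat.not_even_iff_odd] at hodd
  obtain ⟨k, hk⟩ := hodd
  have hδ0 : δ ≠ 0 := by
    rintro rfl
    exact hδ 0 (by simp)
  have hdet : κ.det * κ.det = δ ^ (Fintype.card ι) := by
    have h1 := congrArg Matrix.det hκ
    rw [Matrix.det_mul, Matrix.det_smul, Matrix.det_one, mul_one] at h1
    exact h1
  have h2 : κ.det ^ 2 = δ ^ (2 * k + 1) := by rw [sq, hdet, hk]
  apply hδ (κ.det / δ ^ k)
  rw [zero_mul, add_zero, div_pow, h2, div_eq_iff (pow_ne_zero _ (pow_ne_zero _ hδ0))]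
  ring

end Cfsg.Agent.Lib.helper2
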