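import Mathlib
import Cfsg.Prelude.Def_GeometricClasses
import Cfsg.Agent.Lib.helper24.SfoDefs

/-!
Racer copy (helper55) of leaf FIB (`qfu_fib`) of the S5977U sub-split (architect helper2):
the vectors with `Q v = 1` are fibred over the imaginary part of `qk v`.
-/

set_option autoImplicit false

namespace Cfsg.Agent.Lib.helper2

open Cfsg.Geo Matrix Cfsg.Agent.Lib.helper24

/-- FIB (racer copy, helper55) -/
theorem h55_qfu_fib {F : Type*} [Field F] [Fintype F] {ι : Type} [Fintype ι] [DecidableEq ι]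
    (Q : (ι → F) → F) (δ : F) [Fact (∀ r : F, r ^ 2 ≠ δ + 0 * r)]
    (d : ℕ) (Φ : (Fin d → QuadraticAlgebra F δ 0) ≃+ (ι → F))
    (qk : (ι → F) → QuadraticAlgebra F δ 0) (hre : ∀ v, (qk v).re = Q v) :
    Nat.card {v : ι → F // Q v = 1} =
      ∑ b : F, sfoCount (fun k => qk (Φ k)) (⟨1, b⟩ : QuadraticAlgebra F δ 0) := by
  classical
  haveI : Finite (Fin d → QuadraticAlgebra F δ 0) := Finite.of_equiv (ι → F) Φ.symm.toEquiv
  unfold sfoCount
  rw [← Nat.card_sigma]
  apply Nat.card_congr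
  refine
    { toFun := fun v => ⟨(qk v.1).im, ⟨Φ.symm v.1, ?_⟩⟩
      invFun := fun p => ⟨Φ p.2.1, ?_⟩
      left_inv := ?_
      right_inv := ?_ }
  · show qk (Φ (Φ.symm v.1)) = ⟨1, (qk v.1).im⟩
    rw [AddEquiv.apply_symm_apply]
    apply QuadraticAlgebra.ext
    · show (qk v.1).re = 1
      rw [hre]; exact v.2
    · rfl
  · have h1 : qk (Φ p.2.1) = ⟨1, p.1⟩ := p.2.2
    rw [← hre, h1]
  · intro v
    apply Subtype.ext
    show Φ (Φ.symm v.1) = v.1
    rw [AddEquiv.apply_symm_apply]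
  · rintro ⟨b, k, hk⟩
    have hk' : qk (Φ k) = ⟨1, b⟩ := hk
    apply Sigma.subtype_ext
    · show (qk (Φ k)).im = b
      rw [hk']
    · show Φ.symm (Φ k) = k
      rw [AddEquiv.symm_apply_apply]

end Cfsg.Agent.Lib.helper2
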