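import Mathlib
import Cfsg.Agent.S3224
import Cfsg.Agent.Lib.helper37.S1238Defs

/-!
# S1238, piece E3: `|T| = 4` gives a dihedral or quasi-dihedral Sylow 2-subgroup
-/

set_option autoImplicit false

namespace Cfsg.Agent.Lib.helper55.S1238

open Cfsg Cfsg.Agent.Lib.helper37.S1238

/-- PIECE E3. `|T| = 4`: `u` has centralizer of order 4 in `S`, so `S` is dihedral or quasi-dihedral. -/
theorem dihedral_or_qd_of_cfg {G : Type*} [Group G] [Finite G] (S : Sylow 2 G)
    (T : Subgroup G) (z u y s : G) (h : Cfg (S : Subgroup G) T z u y s) (hT4 : Nat.card T = 4) :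
    (∃ m : ℕ, 2 ≤ m ∧ Nonempty ((S : Subgroup G) ≃* DihedralGroup m)) ∨
    Cfsg.IsQuasiDihedral (S : Subgroup G) := by
  have hS : IsPGroup 2 ↥(S : Subgroup G) := S.isPGroup'
  have huS : u ∈ (S : Subgroup G) := h.uS
  have hx : orderOf (⟨u, huS⟩ : ↥(S : Subgroup G)) = 2 := by
    apply orderOf_eq_prime
    · apply Subtype.ext
      rw [Subgroup.coe_pow]
      simp [pow_two, h.uu]
    · intro h0
      exact h.u1 (congrArg Subtype.val h0)
  have hcent : Subgroup.centralizer ({(⟨u, huS⟩ : ↥(S : Subgroup G))} : Set ↥(S : Subgroup G)) =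
      T.subgroupOf (S : Subgroup G) := by
    ext g
    rw [Subgroup.mem_centralizer_singleton_iff, Subgroup.mem_subgroupOf]
    constructor
    · intro hg
      exact h.cent g g.2 (congrArg Subtype.val hg)
    · intro hg
      exact Subtype.ext (h.uc g hg)
  have hC : Nat.card ↥(Subgroup.centralizer
      ({(⟨u, huS⟩ : ↥(S : Subgroup G))} : Set ↥(S : Subgroup G))) = 4 := by
    rw [hcent, Nat.card_congr (Subgroup.subgroupOfEquivOfLe h.TS).toEquiv, hT4]
  have hlt : 4 < Nat.card ↥(S : Subgroup G) := by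
    by_contra hle
    push Not at hle
    have hTS : T = (S : Subgroup G) := Subgroup.eq_of_le_of_card_ge h.TS (by rw [hT4]; exact hle)
    exact h.s_not_mem (hTS ▸ h.sS)
  rcases Cfsg.Agent.S3224.result hS ⟨u, huS⟩ hx hC with ⟨n, ⟨e⟩⟩ | hq | h4
  · left
    refine ⟨n, ?_, ⟨e⟩⟩
    have hcard : Nat.card ↥(S : Subgroup G) = Nat.card (DihedralGroup n) := Nat.card_congr e.toEquiv
    rw [DihedralGroup.nat_card] at hcard
    omega
  · right
    exact hq
  · omega

end Cfsg.Agent.Lib.helper55.S1238
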