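import Mathlib
import Cfsg.Agent.Lib.helper29.SUWFSIG
import Cfsg.Agent.Lib.helper72.SUODefs

/-!
Piece SEP (`exists_sep`) of the S2334 split (architect helper72): two vectors `w₁, w₂` such that the
trace pairing with `Y` separates the fixed field of `σ`.
-/

set_option autoImplicit false

namespace Cfsg.Agent.Lib.helper72.SUO

open Matrix Cfsg Cfsg.Agent.Lib.helper99 Cfsg.Agent.Lib.helper44.SUW

theorem helper55_trace_mul_vecMulVec {K : Type*} [Field K] {m : ℕ}
    (Y : Matrix (Fin m) (Fin m) K) (u v : Fin m → K) :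
    Matrix.trace (Y * Matrix.vecMulVec u v) = ∑ k, ∑ l, Y k l * (u l * v k) := by
  simp [Matrix.trace, Matrix.mul_apply, Matrix.vecMulVec_apply]

theorem helper55_trace_single {K : Type*} [Field K] {m : ℕ}
    (Y : Matrix (Fin m) (Fin m) K) (i j : Fin m) (c d : K) :
    Matrix.trace (Y * Matrix.vecMulVec (fun l => if l = j then c else 0)
      (fun k => if k = i then d else 0)) = Y i j * (c * d) := by
  rw [helper55_trace_mul_vecMulVec]
  rw [Finset.sum_eq_single i, Finset.sum_eq_single j]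
  · simp
  · intro l _ hl
    simp [hl]
  · simp
  · intro k _ hk
    simp [hk]
  · simp

/-- SEP (M/L) -/
theorem exists_sep {K : Type*} [Field K] [Fintype K] {q m : ℕ} (hK : Fintype.card K = q ^ 2)
    (σ : K →+* K) (hσ : ∀ x, σ x = x ^ q) (ψ : AddChar K ℂ) (hψ : ψ 1 ≠ 1)
    (Y : Matrix (Fin m) (Fin m) K) (hY : Y ∈ skewH σ m) (hY0 : Y ≠ 0) :
    ∃ w₁ w₂ : Fin m → K, ∀ a a' : {b : K // σ b = b}, a ≠ a' →
      ∃ b : {b : K // σ b = b},
        ψ (Matrix.trace (Y * commC σ (a.1 • w₁) (b.1 • w₂))) ≠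
          ψ (Matrix.trace (Y * commC σ (a'.1 • w₁) (b.1 • w₂))) := by
  classical
  obtain ⟨hinv, hne⟩ := sigma_facts hK σ hσ
  -- a non-zero entry of `Y`
  obtain ⟨i, j, hij⟩ : ∃ i j, Y i j ≠ 0 := by
    by_contra hcon
    push Not at hcon
    exact hY0 (Matrix.ext fun i j => by simpa using hcon i j)
  -- an element with non-zero trace
  obtain ⟨θ, hθ⟩ : ∃ θ : K, θ + σ θ ≠ 0 := by
    by_contra hcon
    push Not at hcon
    have h11 : (1 : K) + 1 = 0 := by simpa using hcon 1
    apply hne
    ext x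
    have h1 := hcon x
    have hx2 : x + x = 0 := by linear_combination x * h11
    simp only [RingHom.id_apply]
    linear_combination h1 - hx2
  set c : K := θ + σ θ with hc
  have hcσ : σ c = c := by rw [hc, map_add, hinv]; ring
  set μ : K := θ / Y i j with hμ
  have hμθ : μ * Y i j = θ := by rw [hμ]; field_simp
  have hYji : Y j i = -σ (Y i j) := by
    have := (mem_skewH.mp hY) i j
    rw [this]; ring
  -- the key computation
  have key : ∀ a b : K, σ a = a → σ b = b →
      Matrix.trace (Y * commC σ (a • (fun k => if k = i then (1 : K) else 0))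
        (b • (fun k => if k = j then μ else 0))) = a * b * c := by
    intro a b ha hb
    have e1 : (b • (fun k => if k = j then μ else 0) : Fin m → K) =
        fun l => if l = j then b * μ else 0 := by
      funext l
      by_cases hl : l = j <;> simp [hl]
    have e2 : (fun k => σ ((a • (fun k => if k = i then (1 : K) else 0) : Fin m → K) k)) =
        fun k => if k = i then a else 0 := by
      funext k
      by_cases hk : k = i <;> simp [hk, ha]
    have e3 : (a • (fun k => if k = i then (1 : K) else 0) : Fin m → K) =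
        fun l => if l = i then a else 0 := by
      funext l
      by_cases hl : l = i <;> simp [hl]
    have e4 : (fun k => σ ((b • (fun k => if k = j then μ else 0) : Fin m → K) k)) =
        fun k => if k = j then b * σ μ else 0 := by
      funext k
      by_cases hk : k = j <;> simp [hk, hb]
    unfold commC
    rw [Matrix.mul_sub, Matrix.trace_sub, e2, e4, e1, e3, helper55_trace_single,
      helper55_trace_single, hYji, hc, ← hμθ, map_mul]
    ring
  refine ⟨fun k => if k = i then (1 : K) else 0, fun k => if k = j then μ else 0, ?_⟩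
  intro a a' haa
  have hd : (a.1 - a'.1) ≠ 0 := sub_ne_zero.mpr (fun h => haa (Subtype.ext h))
  have hdc : (a.1 - a'.1) * c ≠ 0 := mul_ne_zero hd hθ
  have hbσ : σ (((a.1 - a'.1) * c)⁻¹) = ((a.1 - a'.1) * c)⁻¹ := by
    rw [map_inv₀, map_mul, map_sub, a.2, a'.2, hcσ]
  refine ⟨⟨((a.1 - a'.1) * c)⁻¹, hbσ⟩, ?_⟩
  rw [key a.1 _ a.2 hbσ, key a'.1 _ a'.2 hbσ]
  intro heq
  have h1 : a.1 * ((a.1 - a'.1) * c)⁻¹ * c = a'.1 * ((a.1 - a'.1) * c)⁻¹ * c + 1 := by
    field_simp
    ring
  rw [h1, AddChar.map_add_eq_mul] at heq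
  have hunit : ψ (a'.1 * ((a.1 - a'.1) * c)⁻¹ * c) ≠ 0 := by
    intro h0
    have h2 : ψ (a'.1 * ((a.1 - a'.1) * c)⁻¹ * c) * ψ (-(a'.1 * ((a.1 - a'.1) * c)⁻¹ * c)) = 1 := by
      rw [← AddChar.map_add_eq_mul, add_neg_cancel, AddChar.map_zero_eq_one]
    rw [h0, zero_mul] at h2
    exact zero_ne_one h2
  apply hψ
  have h3 : ψ (a'.1 * ((a.1 - a'.1) * c)⁻¹ * c) * ψ 1 = ψ (a'.1 * ((a.1 - a'.1) * c)⁻¹ * c) * 1 := by
    rw [mul_one]; exact heq
  exact mul_left_cancel₀ hunit h3

end Cfsg.Agent.Lib.helper72.SUO
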