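import Mathlib
import Cfsg.Prelude.Def_OddOrderLocal
import Cfsg.Prelude.Def_Solvable
import Cfsg.Agent.Lib.helper72.TIHall
import Cfsg.Agent.Lib.helper62.FrobExtract
import Cfsg.Agent.Lib.helper75.FpfRank
import Cfsg.Agent.S3359

/-!
# S4118 core (helper55): a TI subgroup `H`, Hall in its normalizer, with `O` solvable

* `ti_frobenius_of_solvable_core`: variant of helper72 `ti_frobenius_of_solvable` with `O` solvable
  instead of `A` solvable (same proof, `Or.inr`).
* `ti_exists_frob0`: the same with the Frobenius group in `Type`.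
* `ti_solvable_of_no_sl25`: `H` is solvable if it has no subgroup `SL(2,5)` (landed S3359).
* `ti_sylow_struct`: the Sylow subgroups of `H` are cyclic or generalized quaternion.
-/

set_option autoImplicit false

namespace Cfsg.Agent.Lib.helper55.TIH

open Cfsg Cfsg.Agent.Lib.helper72

universe u

variable {G : Type u} [Group G]

/-- A subgroup `A ≠ 1` of a non-normal TI subgroup `H`, in a group `G = O · N_G(H)` with `O` normal
solvable of order coprime to `|H|`, is isomorphic to a Frobenius complement. -/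
theorem ti_frobenius_of_solvable_core [Finite G] {H : Subgroup G}
    (hTI : Cfsg.IsTISubset (H : Set G))
    (hnn : ¬ H.Normal) (O : Subgroup G) [O.Normal] (hcop : (Nat.card O).Coprime (Nat.card H))
    (hOL : O ⊔ Subgroup.normalizer (H : Set G) = ⊤) (hOs : Group.IsSolvable O)
    (A : Subgroup G) (hAH : A ≤ H) (hA1 : A ≠ ⊥) :
    ∃ (F : Type u) (_ : Group F) (_ : Finite F) (C : Subgroup F),
      Cfsg.IsFrobeniusComplement C ∧ Nonempty (A ≃* C) := by
  classical
  have hOL' : ¬ O ≤ Subgroup.normalizer (H : Set G) := by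
    intro h
    apply hnn
    rw [← Subgroup.normalizer_eq_top_iff, ← hOL]
    exact (sup_eq_right.mpr h).symm
  have hOH : ∀ x ∈ O, x ∈ H → x = 1 := by
    intro x hxO hxH
    have h1 : O ⊓ H = ⊥ := disjoint_iff.mp (Subgroup.disjoint_of_coprime_natCard hcop)
    have : x ∈ O ⊓ H := ⟨hxO, hxH⟩
    rwa [h1, Subgroup.mem_bot] at this
  have hK₀ : ∀ x ∈ H, ∀ k ∈ O ⊓ Subgroup.normalizer (H : Set G), x * k = k * x := by
    intro x hx k hk
    have h1 : k * x * k⁻¹ ∈ H := (Subgroup.mem_normalizer_iff.mp hk.2 x).mp hx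
    have h2 : k * x * k⁻¹ * x⁻¹ ∈ H := H.mul_mem h1 (H.inv_mem hx)
    have h3 : k * x * k⁻¹ * x⁻¹ ∈ O := by
      have h4 : x * k⁻¹ * x⁻¹ ∈ O := Subgroup.Normal.conj_mem inferInstance _ (O.inv_mem hk.1) x
      have h5 : k * x * k⁻¹ * x⁻¹ = k * (x * k⁻¹ * x⁻¹) := by group
      rw [h5]; exact O.mul_mem hk.1 h4
    have h6 := hOH _ h3 h2
    have h7 : x * k = (k * x * k⁻¹ * x⁻¹)⁻¹ * (k * x) := by group
    rw [h7, h6]; simp
  have hrel : (O ⊓ Subgroup.normalizer (H : Set G)).relIndex O ≠ 1 := by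
    rw [Ne, Subgroup.relIndex_eq_one]
    intro h
    exact hOL' (h.trans inf_le_right)
  obtain ⟨r, hr, hrd⟩ := Nat.exists_prime_and_dvd hrel
  have : Fact r.Prime := ⟨hr⟩
  have hAO : A ≤ Subgroup.normalizer (O : Set G) := by
    rw [Subgroup.normalizer_eq_top_iff.mpr inferInstance]; exact le_top
  have hcopAO : (Nat.card A).Coprime (Nat.card O) :=
    (Nat.Coprime.coprime_dvd_right (Subgroup.card_dvd_of_le hAH) hcop).symm
  obtain ⟨R, hAR⟩ := Cfsg.Agent.Lib.helper1.exists_invariant_sylow (p := r) A O hAO hcopAO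
    (Or.inr hOs)
  have hRO : (R : Subgroup O).map O.subtype ≤ O := Subgroup.map_subtype_le _
  have hRK : ¬ (R : Subgroup O).map O.subtype ≤ O ⊓ Subgroup.normalizer (H : Set G) := by
    intro h
    have h1 : (O ⊓ Subgroup.normalizer (H : Set G)).relIndex O ∣
        ((R : Subgroup O).map O.subtype).relIndex O := Subgroup.relIndex_dvd_of_le_left O h
    have h2 : ((R : Subgroup O).map O.subtype).relIndex O = (R : Subgroup O).index := by
      rw [Subgroup.relIndex, Subgroup.subgroupOf,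
        Subgroup.comap_map_eq_self_of_injective O.subtype_injective]
    rw [h2] at h1
    exact R.not_dvd_index (hrd.trans h1)
  have hrO : r ∣ Nat.card O := hrd.trans (Subgroup.relIndex_dvd_card _ _)
  refine exists_frobenius_of_pgroup A ((R : Subgroup O).map O.subtype)
    (O ⊓ Subgroup.normalizer (H : Set G)) r (R.isPGroup'.map _) hAR ?_ ?_
    (Nat.Coprime.coprime_dvd_right hrO hcopAO) hRK hA1
  · intro a ha ha1 t ht hat
    refine ⟨hRO ht, ?_⟩
    apply ti_centralizer_le hTI (hAH ha) ha1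
    rw [Subgroup.mem_centralizer_singleton_iff]
    exact hat.symm
  · intro a ha d hd
    exact hK₀ a (hAH ha) d hd.2

/-- The same with the Frobenius group living in `Type`. -/
theorem ti_exists_frob0 [Finite G] {H : Subgroup G}
    (hTI : Cfsg.IsTISubset (H : Set G))
    (hnn : ¬ H.Normal) (O : Subgroup G) [O.Normal] (hcop : (Nat.card O).Coprime (Nat.card H))
    (hOL : O ⊔ Subgroup.normalizer (H : Set G) = ⊤) (hOs : Group.IsSolvable O)
    (A : Subgroup G) (hAH : A ≤ H) (hA1 : A ≠ ⊥) :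
    ∃ (L : Type) (_ : Group L) (_ : Finite L) (C : Subgroup L),
      Cfsg.IsFrobeniusComplement C ∧ Nonempty (A ≃* C) := by
  obtain ⟨F, iF, iFin, C, hC, ⟨e⟩⟩ :=
    ti_frobenius_of_solvable_core hTI hnn O hcop hOL hOs A hAH hA1
  have h1 : Cfsg.Agent.Lib.helper62.FrobExtract.HasFpfMod.{u, u} C :=
    Cfsg.Agent.Lib.helper62.FrobExtract.hasFpfMod_of_frob C hC
  have h2 : Cfsg.Agent.Lib.helper62.FrobExtract.HasFpfMod.{u, u} A :=
    h1.comap e.toMonoidHom e.injective
  have : Nontrivial A := (Subgroup.nontrivial_iff_ne_bot A).mpr hA1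
  exact h2.exists_frob

/-- `H` is solvable if `O` is solvable and `H` has no subgroup isomorphic to `SL(2,5)`. -/
theorem ti_solvable_of_no_sl25 [Finite G] {H : Subgroup G}
    (hTI : Cfsg.IsTISubset (H : Set G))
    (hnn : ¬ H.Normal) (O : Subgroup G) [O.Normal] (hcop : (Nat.card O).Coprime (Nat.card H))
    (hOL : O ⊔ Subgroup.normalizer (H : Set G) = ⊤) (hOs : Group.IsSolvable O)
    (hno : ∀ K : Subgroup G, K ≤ H →
      ¬ Nonempty (K ≃* Matrix.SpecialLinearGroup (Fin 2) (ZMod 5))) :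
    Group.IsSolvable H := by
  by_contra hns
  have hH1 : H ≠ ⊥ := by
    rintro rfl
    exact hnn inferInstance
  have hfc := ti_exists_frob0 hTI hnn O hcop hOL hOs H le_rfl hH1
  obtain ⟨G₀, -, -, S, M, -, -, -, ⟨eS⟩, -, -⟩ := Cfsg.Agent.S3359.result (G := H) hns hfc
  refine hno (S.map H.subtype) (Subgroup.map_subtype_le _) ⟨?_⟩
  exact (S.equivMapOfInjective H.subtype H.subtype_injective).symm.trans eS

/-- The Sylow subgroups of `H` are cyclic or generalized quaternion. -/
theorem ti_sylow_struct [Finite G] {H : Subgroup G}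
    (hTI : Cfsg.IsTISubset (H : Set G))
    (hnn : ¬ H.Normal) (O : Subgroup G) [O.Normal] (hcop : (Nat.card O).Coprime (Nat.card H))
    (hOL : O ⊔ Subgroup.normalizer (H : Set G) = ⊤) (hOs : Group.IsSolvable O)
    (p : ℕ) [Fact p.Prime] (P : Sylow p H) :
    IsCyclic (P : Subgroup H) ∨
      (p = 2 ∧ ∃ n : ℕ, Nonempty ((P : Subgroup H) ≃* QuaternionGroup (2 ^ n))) := by
  classical
  by_cases hP1 : (P : Subgroup H) = ⊥
  · left
    rw [hP1]
    infer_instance
  have hA1 : (P : Subgroup H).map H.subtype ≠ ⊥ := by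
    intro h
    apply hP1
    rw [eq_bot_iff]
    intro x hx
    have : H.subtype x ∈ (P : Subgroup H).map H.subtype := Subgroup.mem_map_of_mem _ hx
    rw [h, Subgroup.mem_bot] at this
    exact Subtype.ext this
  obtain ⟨F, _, _, C, hC, ⟨e⟩⟩ := ti_frobenius_of_solvable_core hTI hnn O hcop hOL hOs
    ((P : Subgroup H).map H.subtype) (Subgroup.map_subtype_le _) hA1
  let e₀ : (P : Subgroup H) ≃* C :=
    ((P : Subgroup H).equivMapOfInjective H.subtype H.subtype_injective).trans e
  have hCp : IsPGroup p C := by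
    intro c
    obtain ⟨k, hk⟩ := P.isPGroup' (e₀.symm c)
    refine ⟨k, ?_⟩
    have := congrArg e₀ hk
    simpa using this
  have hCtop : IsPGroup p (⊤ : Subgroup C) := by
    intro c
    obtain ⟨k, hk⟩ := hCp (c : C)
    exact ⟨k, Subtype.ext (by simpa using hk)⟩
  obtain ⟨S', hS'⟩ := hCtop.exists_le_sylow
  have hS'top : (S' : Subgroup C) = ⊤ := top_le_iff.mp hS'
  let e₁ : (P : Subgroup H) ≃* (S' : Subgroup C) :=
    e₀.trans ((Subgroup.topEquiv (G := C)).symm.trans (MulEquiv.subgroupCongr hS'top.symm))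
  rcases Cfsg.Agent.Lib.helper75.frob_sylow_cyclic_or_quat C hC p S' with h | ⟨hp2, n, ⟨eq⟩⟩
  · left
    exact isCyclic_of_surjective e₁.symm e₁.symm.surjective
  · right
    exact ⟨hp2, n, ⟨e₁.trans eq⟩⟩

end Cfsg.Agent.Lib.helper55.TIH
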