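import Mathlib
import Cfsg.Prelude.Def_OddOrderLocal
import Cfsg.Prelude.Def_Solvable
import Cfsg.Agent.Lib.helper55.TIHCore
import Cfsg.Agent.Lib.helper75.TIH_A1
import Cfsg.Agent.Lib.helper43.TIH_B
import Cfsg.Agent.Lib.helper50.TIH_E1
import Cfsg.Agent.Lib.helper48.TIH_E2
import Cfsg.Agent.Lib.helper53.TIH_F1
import Cfsg.Agent.Lib.helper50.TIH_F2
import Cfsg.Agent.Lib.helper53.TIH_F6
import Cfsg.Agent.Lib.helper56.TIH_F3
import Cfsg.Agent.Lib.helper56.TIH_S1
import Cfsg.Agent.Lib.helper6.TIH_S2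
import Cfsg.Agent.Lib.helper61.SL25Unique
import Cfsg.Agent.Lib.helper1.Coprime

/-!
# S4118 assembly (helper55)

`ti_main`: the statement of S4118 with `O` normal, from the pieces of the split
(A1 helper75, B helper43, E1 helper50, E2 helper48, F1/F6 helper53, F2 helper50, F3/S1 helper56,
S2 helper6; F4 own copy below).
-/

set_option autoImplicit false

namespace Cfsg.Agent.Lib.helper55.TIH

open Cfsg Cfsg.Agent.Lib.helper72

universe u

variable {G : Type u} [Group G]

/-- Piece A1 re-exported (so that the statement file needs only this module). -/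
theorem card_sSup_coprime' [Finite G] (m : ℕ) :
    (Nat.card ↥(sSup {K : Subgroup G | K.Normal ∧ (Nat.card K).Coprime m})).Coprime m :=
  Cfsg.Agent.Lib.helper75.TIH.card_sSup_coprime m

/-- Piece F4 (own copy): an element centralizing one Sylow `p`-subgroup of `H` for every prime `p`
centralizes `H`. -/
theorem cent_of_sylows' [Finite G] (H : Subgroup G) (c : G)
    (h : ∀ (p : ℕ) [Fact p.Prime], ∃ P : Sylow p H, ∀ x ∈ (P : Subgroup H),
      c * (x : G) = (x : G) * c) :
    ∀ x ∈ H, c * x = x * c := by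
  classical
  let K : Subgroup H := (Subgroup.centralizer ({c} : Set G)).subgroupOf H
  have hK : K = ⊤ := by
    apply Subgroup.eq_top_of_le_card
    apply Nat.le_of_dvd Nat.card_pos
    rw [← Nat.factorization_prime_le_iff_dvd Nat.card_pos.ne' Nat.card_pos.ne']
    intro p hp
    have : Fact p.Prime := ⟨hp⟩
    obtain ⟨P, hP⟩ := h p
    have hPK : (P : Subgroup H) ≤ K := by
      intro x hx
      rw [Subgroup.mem_subgroupOf, Subgroup.mem_centralizer_singleton_iff]
      exact (hP x hx).symm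
    have h1 : Nat.card (P : Subgroup H) ∣ Nat.card K := Subgroup.card_dvd_of_le hPK
    rw [Sylow.card_eq_multiplicity] at h1
    exact (hp.pow_dvd_iff_le_factorization Nat.card_pos.ne').mp h1
  intro x hx
  have h2 : (⟨x, hx⟩ : H) ∈ K := by rw [hK]; exact Subgroup.mem_top _
  rw [Subgroup.mem_subgroupOf, Subgroup.mem_centralizer_singleton_iff] at h2
  exact h2.symm

/-- Commutators of elements of `B` centralize a `B`-invariant cyclic Sylow subgroup of `H`. -/
theorem comm_cent_of_cyclic {H B : Subgroup G} {p : ℕ} [Fact p.Prime] (P : Sylow p H)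
    (hc : IsCyclic (P : Subgroup H))
    (hB : B ≤ Subgroup.normalizer (((P : Subgroup H).map H.subtype : Subgroup G) : Set G))
    (b₁ b₂ : G) (hb₁ : b₁ ∈ B) (hb₂ : b₂ ∈ B) :
    ∀ x ∈ (P : Subgroup H),
      (b₁ * b₂ * b₁⁻¹ * b₂⁻¹) * (x : G) = (x : G) * (b₁ * b₂ * b₁⁻¹ * b₂⁻¹) := by
  intro x hx
  have hc' : IsCyclic ((P : Subgroup H).map H.subtype) :=
    isCyclic_of_surjective ((P : Subgroup H).equivMapOfInjective H.subtype H.subtype_injective)
      ((P : Subgroup H).equivMapOfInjective H.subtype H.subtype_injective).surjective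
  exact Cfsg.Agent.Lib.helper56.TIH.cyclic_comm ((P : Subgroup H).map H.subtype) hc' b₁ b₂ (hB hb₁) (hB hb₂) (x : G)
    (Subgroup.mem_map_of_mem H.subtype hx)

/-- Subgroups of a group with fewer than 60 elements are solvable. -/
theorem solvable_of_small (A₀ : Type) [Group A₀] (hfin : Finite A₀) (hlt : Nat.card A₀ < 60)
    (A : Subgroup A₀) : Group.IsSolvable A := by
  apply Cfsg.Agent.Lib.helper61.SL25U.isSolvable_of_card_lt_sixty
  exact lt_of_le_of_lt (Nat.card_le_card_of_injective _ A.subtype_injective) hlt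

/-- Odd-order subgroups of the automorphism group of a generalized quaternion group are
solvable. -/
theorem quat_aut_odd_solvable (n : ℕ) (A : Subgroup (MulAut (QuaternionGroup (2 ^ n))))
    (hA : Odd (Nat.card A)) : Group.IsSolvable A := by
  rcases n with _ | _ | n
  · exact solvable_of_small _ Cfsg.Agent.Lib.helper50.TIH.quat_aut_card_small.1.1 Cfsg.Agent.Lib.helper50.TIH.quat_aut_card_small.1.2 A
  · exact solvable_of_small _ Cfsg.Agent.Lib.helper50.TIH.quat_aut_card_small.2.1 Cfsg.Agent.Lib.helper50.TIH.quat_aut_card_small.2.2 A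
  · have h1 : ∀ φ ∈ A, φ = 1 := by
      intro φ hφ
      apply Cfsg.Agent.Lib.helper48.TIH.quat_aut_odd_trivial (n + 2) (by omega) φ
      have h2 : orderOf (⟨φ, hφ⟩ : A) ∣ Nat.card A := orderOf_dvd_natCard _
      rw [← Subgroup.orderOf_coe] at h2
      exact Odd.of_dvd_nat hA h2
    have : Subsingleton A := ⟨fun a b => Subtype.ext (by rw [h1 a a.2, h1 b b.2])⟩
    exact Group.isSolvable_of_comm (fun a b => by rw [Subsingleton.elim a b])

/-- The complement `B` is solvable. -/
theorem compl_solvable [Finite G] (H B : Subgroup G)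
    (hBN : B ≤ Subgroup.normalizer (H : Set G)) (hBc : (Nat.card B).Coprime (Nat.card H))
    (hHs : Group.IsSolvable H)
    (hsyl : ∀ (p : ℕ) [Fact p.Prime] (P : Sylow p H), IsCyclic (P : Subgroup H) ∨
      (p = 2 ∧ ∃ n : ℕ, Nonempty ((P : Subgroup H) ≃* QuaternionGroup (2 ^ n))))
    (hYs : Group.IsSolvable ↥(B ⊓ Subgroup.centralizer (H : Set G))) : Group.IsSolvable B := by
  classical
  have hinv : ∀ (p : ℕ) [Fact p.Prime], ∃ P : Sylow p H,
      B ≤ Subgroup.normalizer (((P : Subgroup H).map H.subtype : Subgroup G) : Set G) := by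
    intro p _
    exact Cfsg.Agent.Lib.helper1.exists_invariant_sylow (p := p) B H hBN hBc (Or.inr hHs)
  have hcomm : ∀ b₁ ∈ B, ∀ b₂ ∈ B, b₁ * b₂ * b₁⁻¹ * b₂⁻¹ ∈ B := by
    intro b₁ hb₁ b₂ hb₂
    exact B.mul_mem (B.mul_mem (B.mul_mem hb₁ hb₂) (B.inv_mem hb₁)) (B.inv_mem hb₂)
  obtain ⟨P₂, hP₂⟩ := hinv 2
  -- a commutator of `B` centralizes the odd invariant Sylow subgroups
  have hoddp : ∀ b₁ ∈ B, ∀ b₂ ∈ B, ∀ (p : ℕ) [Fact p.Prime], p ≠ 2 → ∃ P : Sylow p H,
      ∀ x ∈ (P : Subgroup H),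
        (b₁ * b₂ * b₁⁻¹ * b₂⁻¹) * (x : G) = (x : G) * (b₁ * b₂ * b₁⁻¹ * b₂⁻¹) := by
    intro b₁ hb₁ b₂ hb₂ p _ hp
    obtain ⟨P, hP⟩ := hinv p
    rcases hsyl p P with hc | ⟨h2, -⟩
    · exact ⟨P, comm_cent_of_cyclic P hc hP b₁ b₂ hb₁ hb₂⟩
    · exact absurd h2 hp
  rcases hsyl 2 P₂ with hc2 | ⟨-, n, ⟨e⟩⟩
  · -- all Sylow subgroups cyclic: commutators of `B` centralize `H`
    refine Cfsg.Agent.Lib.helper6.TIH.solvable_of_comm_mem B (B ⊓ Subgroup.centralizer (H : Set G)) hYs ?_
    intro b₁ hb₁ b₂ hb₂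
    refine Subgroup.mem_inf.mpr ⟨hcomm b₁ hb₁ b₂ hb₂, ?_⟩
    rw [Subgroup.mem_centralizer_iff]
    intro x hx
    refine (cent_of_sylows' H (b₁ * b₂ * b₁⁻¹ * b₂⁻¹) ?_ x hx).symm
    intro p _
    by_cases hp : p = 2
    · subst hp
      exact ⟨P₂, comm_cent_of_cyclic P₂ hc2 hP₂ b₁ b₂ hb₁ hb₂⟩
    · exact hoddp b₁ hb₁ b₂ hb₂ p hp
  · -- quaternion Sylow 2-subgroup
    have e' : ((P₂ : Subgroup H).map H.subtype) ≃* QuaternionGroup (2 ^ n) :=
      ((P₂ : Subgroup H).equivMapOfInjective H.subtype H.subtype_injective).symm.trans e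
    have h2H : 2 ∣ Nat.card H := by
      have h1 : Nat.card (P₂ : Subgroup H) = 4 * 2 ^ n := by
        rw [Nat.card_congr e.toEquiv, Nat.card_eq_fintype_card, QuaternionGroup.card]
      have h3 : Nat.card (P₂ : Subgroup H) ∣ Nat.card H := Subgroup.card_subgroup_dvd_card _
      rw [h1] at h3
      exact (Dvd.intro (2 * 2 ^ n) (by ring)).trans h3
    have hodd : Odd (Nat.card B) := (Nat.Coprime.coprime_dvd_right h2H hBc).odd_of_right
    have hker : Group.IsSolvable ↥(B ⊓ Subgroup.centralizer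
        ((((P₂ : Subgroup H).map H.subtype : Subgroup G)) : Set G)) := by
      refine Cfsg.Agent.Lib.helper6.TIH.solvable_of_comm_mem _ (B ⊓ Subgroup.centralizer (H : Set G)) hYs ?_
      intro b₁ hb₁ b₂ hb₂
      refine Subgroup.mem_inf.mpr ⟨hcomm b₁ hb₁.1 b₂ hb₂.1, ?_⟩
      rw [Subgroup.mem_centralizer_iff]
      intro x hx
      refine (cent_of_sylows' H (b₁ * b₂ * b₁⁻¹ * b₂⁻¹) ?_ x hx).symm
      intro p _
      by_cases hp : p = 2
      · subst hp
        refine ⟨P₂, ?_⟩
        intro y hy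
        have hc : b₁ * b₂ * b₁⁻¹ * b₂⁻¹ ∈ Subgroup.centralizer
            ((((P₂ : Subgroup H).map H.subtype : Subgroup G)) : Set G) :=
          Subgroup.mul_mem _ (Subgroup.mul_mem _ (Subgroup.mul_mem _ hb₁.2 hb₂.2)
            (Subgroup.inv_mem _ hb₁.2)) (Subgroup.inv_mem _ hb₂.2)
        rw [Subgroup.mem_centralizer_iff] at hc
        exact (hc (y : G) (Subgroup.mem_map_of_mem H.subtype hy)).symm
      · exact hoddp b₁ hb₁.1 b₂ hb₂.1 p hp
    exact Cfsg.Agent.Lib.helper53.TIH.quat_quot ((P₂ : Subgroup H).map H.subtype) B n e' (quat_aut_odd_solvable n) hP₂ hodd hker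

/-- The statement of S4118 with `O` normal of order prime to `|H|` and maximal such. -/
theorem ti_main [Finite G] (H : Subgroup G)
    (hTI : Cfsg.IsTISubset (H : Set G)) (hnn : ¬ H.Normal)
    (hHall : (Nat.card H).Coprime (H.subgroupOf (Subgroup.normalizer (H : Set G))).index)
    (hsep : ∃ (n : ℕ) (M : Fin (n + 1) → Subgroup G), M 0 = ⊥ ∧ M (Fin.last n) = ⊤ ∧ Monotone M ∧
      (∀ i, (M i).Normal) ∧
      ∀ i : Fin n, (∀ q : ℕ, q.Prime → q ∣ (M i.castSucc).relIndex (M i.succ) → q ∣ Nat.card H) ∨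
        ((M i.castSucc).relIndex (M i.succ)).Coprime (Nat.card H))
    (O : Subgroup G) [O.Normal] (hOc : (Nat.card O).Coprime (Nat.card H))
    (hOmax : ∀ K : Subgroup G, K.Normal → (Nat.card K).Coprime (Nat.card H) → K ≤ O) :
    O ⊔ Subgroup.normalizer (H : Set G) = ⊤ ∧ (O ⊔ H).Normal ∧
    (Group.IsSolvable G ↔ Group.IsSolvable O ∧
      ∀ K : Subgroup G, K ≤ H → ¬ Nonempty (K ≃* Matrix.SpecialLinearGroup (Fin 2) (ZMod 5))) := by
  classical
  have hH1 : H ≠ ⊥ := by
    rintro rfl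
    exact hnn inferInstance
  have hm : ¬ (Nat.card G).Coprime (Nat.card H) := by
    intro h
    have h1 : Nat.card H = 1 :=
      Nat.Coprime.eq_one_of_dvd h.symm (Subgroup.card_subgroup_dvd_card H)
    exact hH1 (Subgroup.card_eq_one.mp h1)
  have hOL : O ⊔ Subgroup.normalizer (H : Set G) = ⊤ := by
    obtain ⟨O', M, hO'n, hMn, -, hO'c, hstep, hne⟩ := exists_step_of_chain (Nat.card H) hm hsep
    have h1 : O' ⊔ Subgroup.normalizer (H : Set G) = ⊤ :=
      ti_sup_normalizer_eq_top hTI hHall O' M hstep hne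
    rw [eq_top_iff, ← h1]
    exact sup_le_sup_right (hOmax O' hO'n hO'c) _
  have hNO : Subgroup.normalizer (H : Set G) ≤ Subgroup.normalizer (O : Set G) := by
    have h1 : Subgroup.normalizer (O : Set G) = ⊤ :=
      Subgroup.normalizer_eq_top_iff.mpr inferInstance
    rw [h1]; exact le_top
  refine ⟨hOL, ?_, ?_, ?_⟩
  · rw [← Subgroup.normalizer_eq_top_iff, eq_top_iff, ← hOL]
    exact sup_le (le_sup_left.trans Subgroup.le_normalizer) (le_normalizer_sup hNO le_rfl)
  · intro hG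
    refine ⟨Group.isSolvable_of_isSolvable_injective O.subtype_injective, ?_⟩
    rintro K - ⟨e⟩
    have hK : Group.IsSolvable K := Group.isSolvable_of_isSolvable_injective K.subtype_injective
    exact Cfsg.Agent.Lib.helper43.TIH.sl25_not_solvable (Group.isSolvable_of_surjective (f := e.toMonoidHom) e.surjective)
  · rintro ⟨hOs, hno⟩
    have hHs : Group.IsSolvable H := ti_solvable_of_no_sl25 hTI hnn O hOc hOL hOs hno
    obtain ⟨B, hBN, hBc, hHB⟩ := Cfsg.Agent.Lib.helper53.TIH.exists_compl H hHall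
    have hYO : B ⊓ Subgroup.centralizer (H : Set G) ≤ O :=
      Cfsg.Agent.Lib.helper50.TIH.cent_le_core H O B hOmax hOc hOL hBN hBc hHB
    have hYs : Group.IsSolvable ↥(B ⊓ Subgroup.centralizer (H : Set G)) :=
      Group.isSolvable_of_isSolvable_injective (Subgroup.inclusion_injective hYO)
    have hBs : Group.IsSolvable B :=
      compl_solvable H B hBN hBc hHs
        (fun p _ P => ti_sylow_struct hTI hnn O hOc hOL hOs p P) hYs
    have hNs : Group.IsSolvable ↥(Subgroup.normalizer (H : Set G)) := by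
      have h1 := Cfsg.Agent.Lib.helper56.TIH.solvable_sup H B hBN hHs hBs
      rwa [hHB] at h1
    have hTs : Group.IsSolvable ↥(⊤ : Subgroup G) := by
      have h1 := Cfsg.Agent.Lib.helper56.TIH.solvable_sup O (Subgroup.normalizer (H : Set G)) hNO hOs hNs
      rwa [hOL] at h1
    exact Group.isSolvable_of_surjective (f := (Subgroup.topEquiv (G := G)).toMonoidHom)
      (Subgroup.topEquiv (G := G)).surjective

end Cfsg.Agent.Lib.helper55.TIH
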